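import Mathlib.NumberTheory.LSeries.PrimesInAP
import Mathlib.NumberTheory.Cyclotomic.Gal
import Mathlib.NumberTheory.LegendreSymbol.AddCharacter
import Mathlib.RingTheory.ZMod.UnitsCyclic
import Mathlib.Data.Nat.Factorization.Basic

/-!
# Arithmetic input for the divisibility of Euler characteristics by the index
-/

set_option autoImplicit false
universe u

namespace K435.IdxArith

/-- A prime `q > B`, a primitive root modulo the prime `ℓ`. -/
theorem exists_prime_primitive {ℓ : ℕ} (hℓ : ℓ.Prime) (B : ℕ) :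
    ∃ q > B, q.Prime ∧ ¬ ℓ ∣ q ∧ ∀ i, 1 ≤ i → i < ℓ - 1 → ¬ ℓ ∣ q ^ i - 1 := by
  haveI : Fact ℓ.Prime := ⟨hℓ⟩
  obtain ⟨a, ha⟩ := IsCyclic.exists_generator (α := (ZMod ℓ)ˣ)
  obtain ⟨q, hqB, hq, hqa⟩ := Nat.forall_exists_prime_gt_and_eq_mod (q := ℓ) a.isUnit B
  have hord : orderOf a = ℓ - 1 := by
    rw [orderOf_eq_card_of_forall_mem_zpowers ha, Nat.card_eq_fintype_card, ZMod.card_units]
  refine ⟨q, hqB, hq, ?_, ?_⟩
  · intro h
    have h0 : (q : ZMod ℓ) = 0 := (ZMod.natCast_eq_zero_iff q ℓ).2 h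
    rw [hqa] at h0
    exact a.ne_zero h0
  · intro i hi hi' h
    have h1 : ((q ^ i - 1 : ℕ) : ZMod ℓ) = 0 := (ZMod.natCast_eq_zero_iff _ ℓ).2 h
    rw [Nat.cast_sub (Nat.one_le_pow _ _ hq.pos), Nat.cast_pow, hqa, Nat.cast_one, sub_eq_zero] at h1
    have h2 : a ^ i = 1 := by
      apply Units.ext
      simpa using h1
    have h3 := orderOf_dvd_of_pow_eq_one h2
    rw [hord] at h3
    have := Nat.le_of_dvd hi h3
    omega

/-- The extension `k(ζ_q)`: degree dividing `q - 1`, with a primitive additive character. -/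
theorem exists_ext (k : Type u) [Field k] {q : ℕ} (hq : q.Prime) (hqk : (q : k) ≠ 0) :
    ∃ (k' : Type u) (_ : Field k') (_ : Algebra k k'), FiniteDimensional k k' ∧
      Module.finrank k k' ∣ q - 1 ∧ ∃ (χ : AddChar (ZMod q) k'), χ.IsPrimitive := by
  haveI : NeZero q := ⟨hq.ne_zero⟩
  haveI : NeZero (q : k) := ⟨hqk⟩
  haveI hqk' : NeZero (q : CyclotomicField q k) := by
    refine ⟨fun h => hqk ?_⟩
    have : algebraMap k (CyclotomicField q k) (q : k) = 0 := by rw [map_natCast, h]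
    exact (map_eq_zero _).1 this
  refine ⟨CyclotomicField q k, inferInstance, inferInstance,
    IsCyclotomicExtension.finiteDimensional {q} k _, ?_, ?_⟩
  · haveI : FiniteDimensional k (CyclotomicField q k) := IsCyclotomicExtension.finiteDimensional {q} k _
    haveI : IsGalois k (CyclotomicField q k) := IsCyclotomicExtension.isGalois {q} k _
    have hζ := IsCyclotomicExtension.zeta_spec q k (CyclotomicField q k)
    have h1 := Subgroup.card_dvd_of_injective (hζ.autToPow k) (hζ.autToPow_injective (K := k))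
    rw [IsGalois.card_aut_eq_finrank, Nat.card_eq_fintype_card, ZMod.card_units_eq_totient,
      Nat.totient_prime hq] at h1
    exact h1
  · exact ⟨_, AddChar.zmodChar_primitive_of_primitive_root q
      (IsCyclotomicExtension.zeta_spec q k (CyclotomicField q k))⟩

/-- The final arithmetic. -/
theorem exists_pow_mul_mem (G : AddSubgroup ℤ) (d : ℕ) (χ : ℤ)
    (h : ∀ ℓ v : ℕ, ℓ.Prime → d + 1 < ℓ → (∀ m ∈ G, ((ℓ ^ v : ℕ) : ℤ) ∣ m) → ((ℓ ^ v : ℕ) : ℤ) ∣ χ) :
    ∃ e : ℕ, (((d + 1).factorial ^ e : ℕ) : ℤ) * χ ∈ G := by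
  obtain ⟨a, ha⟩ := Int.subgroup_cyclic G
  have hG : ∀ m, m ∈ G ↔ (a.natAbs : ℤ) ∣ m := by
    intro m
    rw [ha, ← AddSubgroup.zmultiples_eq_closure, Int.mem_zmultiples_iff, Int.natAbs_dvd]
  rcases Nat.eq_zero_or_pos a.natAbs with h0 | hpos
  · -- index zero
    have hχ : χ = 0 := by
      obtain ⟨ℓ, hℓ1, hℓ⟩ := Nat.exists_infinite_primes (d + 2)
      by_contra hne
      have h1 := h ℓ (χ.natAbs) hℓ (by omega) (fun m hm => by
        have := (hG m).1 hm
        rw [h0] at this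
        rw [Nat.cast_zero, zero_dvd_iff] at this
        rw [this]
        exact dvd_zero _)
      have h2 := Nat.le_of_dvd (Int.natAbs_pos.2 hne) (Int.natCast_dvd.1 h1)
      exact absurd (Nat.lt_pow_self hℓ.one_lt (n := χ.natAbs)) (not_lt.2 h2)
    exact ⟨0, by rw [hχ, mul_zero]; exact G.zero_mem⟩
  · refine ⟨a.natAbs, (hG _).2 ?_⟩
    rw [Int.natCast_dvd, Int.natAbs_mul, Int.natAbs_natCast]
    rw [Nat.dvd_iff_prime_pow_dvd_dvd]
    intro p v hp hpv
    by_cases hpd : p ≤ d + 1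
    · refine Dvd.dvd.mul_right ?_ _
      have h1 : p ∣ (d + 1).factorial := Nat.dvd_factorial hp.pos hpd
      have h2 : v ≤ a.natAbs :=
        le_trans (Nat.lt_pow_self hp.one_lt (n := v)).le (Nat.le_of_dvd hpos hpv)
      exact (pow_dvd_pow_of_dvd h1 v).trans (pow_dvd_pow _ h2)
    · refine Dvd.dvd.mul_left ?_ _
      have h1 := h p v hp (by omega) fun m hm =>
        dvd_trans (Int.natCast_dvd_natCast.2 hpv) ((hG m).1 hm)
      exact Int.natCast_dvd.1 h1

end K435.IdxArith
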