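import Groth.Agent.Variety.K435.ProjCase
import Groth.Agent.Variety.K435.IdxArith
import Groth.Agent.FormalA.PullbackQC
import Groth.Agent.S7673
import Groth.Agent.S4715

/-!
# Index subgroups under proper maps and base change; reduction of the divisibility to the projective case
-/

set_option autoImplicit false
universe u
open CategoryTheory CategoryTheory.Limits AlgebraicGeometry Opposite

namespace K435.IdxBC

open Groth.Agent

/-- The devissage statement. -/
def Dev : Prop := ∀ (k : Type u) [Field k] (L : ℤ) (X : Scheme.{u})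
    [X.Over (Spec (CommRingCat.of k))] [IsProper (X ↘ Spec (CommRingCat.of k))]
    (d : ℕ) (_ : topologicalKrullDim X ≤ d)
    (_ : ∀ (Z : Scheme.{u}) [Z.Over (Spec (CommRingCat.of k))] [IsProper (Z ↘ Spec (CommRingCat.of k))]
      [IsIntegral Z] (f : Z ⟶ X), f ≫ (X ↘ Spec (CommRingCat.of k)) = Z ↘ Spec (CommRingCat.of k) →
      ∀ (N : ℕ) (i : Z ⟶ CohB1.ProjSpace N k), IsClosedImmersion i →
      i ≫ CohB1.ProjSpace.toSpec N k = Z ↘ Spec (CommRingCat.of k) → topologicalKrullDim Z ≤ d →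
      L ∣ Curv2.euler k Z (Coh.structureModule Z))
    (E : X.Modules) (_ : Coh.IsCoh E), L ∣ Curv2.euler k X E

theorem isClosed_map {X Y : Scheme.{u}} (f : X ⟶ Y) [IsProper f] {x : X} (hx : IsClosed ({x} : Set X)) :
    IsClosed ({f x} : Set Y) := by
  have h4 := f.isClosedMap _ hx
  rwa [Set.image_singleton] at h4

/-- Index subgroups under proper maps. -/
theorem index_mono {k : Type u} [Field k] {X Z : Scheme.{u}} (pX : X ⟶ Spec (CommRingCat.of k))
    (pZ : Z ⟶ Spec (CommRingCat.of k)) (f : Z ⟶ X) [IsProper f] (hf : f ≫ pX = pZ) :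
    Curv2.indexSubgroup pZ ≤ Curv2.indexSubgroup pX := by
  refine (AddSubgroup.closure_le _).2 ?_
  rintro _ ⟨z, hz, rfl⟩
  have h1 := CycB.Push.residueDegree_comp f pX z
  rw [hf] at h1
  have h6 : (pX.residueDegree (f z) : ℤ) ∈ Curv2.indexSubgroup pX :=
    AddSubgroup.subset_closure ⟨f z, isClosed_map f hz, rfl⟩
  have h7 := (Curv2.indexSubgroup pX).zsmul_mem h6 (f.residueDegree z : ℤ)
  change ((pZ.residueDegree z : ℕ) : ℤ) ∈ _
  rw [h1, Nat.cast_mul, mul_comm]
  rwa [smul_eq_mul] at h7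

/-- Index subgroups under finite base change. -/
theorem index_bc {k : Type u} [Field k] (k' : Type u) [Field k'] [Algebra k k'] {X X' : Scheme.{u}}
    (pX : X ⟶ Spec (CommRingCat.of k)) (pX' : X' ⟶ Spec (CommRingCat.of k')) (g : X' ⟶ X) [IsProper g]
    (hg : g ≫ pX = pX' ≫ Spec.map (CommRingCat.ofHom (algebraMap k k'))) (m : ℤ)
    (hm : m ∈ Curv2.indexSubgroup pX') : (Module.finrank k k' : ℤ) * m ∈ Curv2.indexSubgroup pX := by
  have hle : Curv2.indexSubgroup pX' ≤
      (Curv2.indexSubgroup pX).comap (AddMonoidHom.mulLeft (Module.finrank k k' : ℤ)) := by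
    refine (AddSubgroup.closure_le _).2 ?_
    rintro _ ⟨z, hz, rfl⟩
    have h1 := CycB.Push.residueDegree_comp g pX z
    have h2 := CycB.Push.residueDegree_comp pX' (Spec.map (CommRingCat.ofHom (algebraMap k k'))) z
    rw [← hg, h1, K934.PtNorm.residueDegree_spec k k'] at h2
    have h6 : (pX.residueDegree (g z) : ℤ) ∈ Curv2.indexSubgroup pX :=
      AddSubgroup.subset_closure ⟨g z, isClosed_map g hz, rfl⟩
    have h7 := (Curv2.indexSubgroup pX).zsmul_mem h6 (g.residueDegree z : ℤ)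
    change (Module.finrank k k' : ℤ) * ((pX'.residueDegree z : ℕ) : ℤ) ∈ Curv2.indexSubgroup pX
    rw [← Nat.cast_mul, ← h2, Nat.cast_mul, mul_comm]
    rwa [smul_eq_mul] at h7
  exact hle hm

theorem dvd_of_q (hD : Dev.{u}) (k : Type u) [Field k] (X : Scheme.{u})
    [X.Over (Spec (CommRingCat.of k))] [IsProper (X ↘ Spec (CommRingCat.of k))]
    (d : ℕ) (hd : topologicalKrullDim X ≤ d) (L : ℕ)
    (hL : ∀ m ∈ Curv2.indexSubgroup (X ↘ Spec (CommRingCat.of k)), (L : ℤ) ∣ m)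
    (hq : ∀ i, 1 ≤ i → i ≤ d → ∃ q : ℕ, q.Prime ∧ (q : k) ≠ 0 ∧ Nat.Coprime L q ∧
      Nat.Coprime L (q ^ i - 1) ∧ ∃ (χ : AddChar (ZMod q) k), χ.IsPrimitive)
    (E : X.Modules) (hE : Coh.IsCoh E) : (L : ℤ) ∣ Curv2.euler k X E := by
  refine hD k L X d hd (fun Z _ _ _ f hf N i hi hiN hZd => ?_) E hE
  have : IsProper f := by
    have : IsProper (f ≫ (X ↘ Spec (CommRingCat.of k))) := by rw [hf]; infer_instance
    exact IsProper.of_comp f (X ↘ Spec (CommRingCat.of k))
  exact ProjCase.dvd_euler k Z N i hiN d hZd L (fun m hm => hL m (index_mono _ _ f hf hm)) hq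

/-- The divisibility for prime powers. -/
theorem dvd_prime_pow (hD : Dev.{u}) (k : Type u) [Field k] (X : Scheme.{u})
    [X.Over (Spec (CommRingCat.of k))] [IsProper (X ↘ Spec (CommRingCat.of k))]
    (d : ℕ) (hd : topologicalKrullDim X ≤ d) (ℓ v : ℕ) (hℓ : ℓ.Prime) (hdℓ : d + 1 < ℓ)
    (hL : ∀ m ∈ Curv2.indexSubgroup (X ↘ Spec (CommRingCat.of k)), ((ℓ ^ v : ℕ) : ℤ) ∣ m)
    (E : X.Modules) (hE : Coh.IsCoh E) : ((ℓ ^ v : ℕ) : ℤ) ∣ Curv2.euler k X E := by
  rcases Nat.eq_zero_or_pos d with rfl | hd0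
  · exact dvd_of_q hD k X 0 hd _ hL (fun i h1 h2 => by omega) E hE
  obtain ⟨q, hqB, hq, hlq, hqi⟩ := IdxArith.exists_prime_primitive hℓ (ringChar k)
  have hqk : (q : k) ≠ 0 := by
    intro h
    have h1 : ringChar k ∣ q := (ringChar.spec k q).1 h
    rcases (Nat.dvd_prime hq).1 h1 with h2 | h2
    · exact CharP.ringChar_ne_one h2
    · omega
  obtain ⟨k', hk', hak', hfin, hdiv, χ, hχ⟩ := IdxArith.exists_ext k hq hqk
  let _ : (Curv2.bc k X k').Over (Spec (CommRingCat.of k')) := ⟨Curv2.bcSnd k X k'⟩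
  have hcop : ∀ i, 1 ≤ i → i ≤ d → Nat.Coprime (ℓ ^ v) (q ^ i - 1) := fun i h1 h2 =>
    Nat.Coprime.pow_left v ((Nat.Prime.coprime_iff_not_dvd hℓ).2 (hqi i h1 (by omega)))
  have hcopk : Nat.Coprime (ℓ ^ v) (Module.finrank k k') := by
    have := hcop 1 le_rfl hd0
    rw [pow_one] at this
    exact Nat.Coprime.coprime_dvd_right hdiv this
  have hfinS : IsFinite (Spec.map (CommRingCat.ofHom (algebraMap k k'))) := by
    rw [IsFinite.SpecMap_iff]
    exact RingHom.finite_algebraMap.2 inferInstance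
  have hfst : IsFinite (Curv2.bcFst k X k') := inferInstance
  have hsnd : IsProper (Curv2.bc k X k' ↘ Spec (CommRingCat.of k')) :=
    inferInstanceAs (IsProper (Curv2.bcSnd k X k'))
  have hnX : IsLocallyNoetherian X := LocallyOfFiniteType.isLocallyNoetherian (X ↘ Spec (CommRingCat.of k))
  have hnX' : IsLocallyNoetherian (Curv2.bc k X k') :=
    LocallyOfFiniteType.isLocallyNoetherian (Curv2.bc k X k' ↘ Spec (CommRingCat.of k'))
  have hdim : topologicalKrullDim (Curv2.bc k X k') ≤ d := by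
    have h1 := S4715.result (Curv2.bcFst k X k')
    exact (h1.1.trans h1.2).trans hd
  rw [← S7673.result k X k' E hE]
  refine dvd_of_q hD k' (Curv2.bc k X k') d hdim _ (fun m hm => ?_) (fun i h1 h2 => ?_) _
    (FormalA.PullbackQC.isCoh_pullback _ E hE)
  · have h1 := index_bc k' (X ↘ Spec (CommRingCat.of k)) (Curv2.bc k X k' ↘ Spec (CommRingCat.of k'))
      (Curv2.bcFst k X k') pullback.condition m hm
    have h2 := hL _ h1
    rw [Int.natCast_dvd, Int.natAbs_mul, Int.natAbs_natCast] at h2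
    exact Int.natCast_dvd.2 (hcopk.dvd_of_dvd_mul_left h2)
  · refine ⟨q, hq, ?_, Nat.Coprime.pow_left v ((Nat.Prime.coprime_iff_not_dvd hℓ).2 hlq), hcop i h1 h2, χ, hχ⟩
    intro h
    apply hqk
    have h3 : algebraMap k k' (q : k) = 0 := by rw [map_natCast, h]
    exact (map_eq_zero _).1 h3

/-- The final statement. -/
theorem main (hD : Dev.{u}) (k : Type u) [Field k] (X : Scheme.{u})
    [X.Over (Spec (CommRingCat.of k))] [IsProper (X ↘ Spec (CommRingCat.of k))]
    (d : ℕ) (hd : topologicalKrullDim X ≤ d) (E : X.Modules) (hE : Coh.IsCoh E) :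
    ∃ e : ℕ, (((d + 1).factorial ^ e : ℕ) : ℤ) * Curv2.euler k X E ∈
      Curv2.indexSubgroup (X ↘ Spec (CommRingCat.of k)) :=
  IdxArith.exists_pow_mul_mem _ d _ fun ℓ v hℓ hdℓ h => dvd_prime_pow hD k X d hd ℓ v hℓ hdℓ h E hE

end K435.IdxBC
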