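import Groth.Agent.Variety.K435.DvrChi
import Groth.Agent.Models.H47.EulerStep
import Groth.Agent.S1528
import Groth.Agent.EtpbcA.CdFinDim

/-!
# Multiple special fibres

`p : X ⟶ Spec R` proper and flat over a discrete valuation ring, `I` an effective Cartier ideal with
`I ^ m = 𝔪_R O_X` (`m ≥ 1`), `D = V(I)`. Then `χ(X_K, O) = m χ(D, O_D)`.
-/

set_option autoImplicit false
universe u

open CategoryTheory CategoryTheory.Limits AlgebraicGeometry Opposite TopologicalSpace

namespace K435.DivFibre

open Groth.Agent Groth.Agent.VarietyA Groth.Agent.Ega3B.HLes Groth.Agent.Fdesc.LocGen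
open Groth.Agent.Dix.IdealModCartier Groth.Agent.Divis.EffCartier Groth.Agent.Models3.H44
open Groth.Agent.Dix.TwistClosed490 Groth.Agent.Fga.PicMon
open K435.ChiLen

/-- A morphism to `Spec A` in terms of `Coh.toGlobal`. -/
theorem eq_toSpecΓ {A : Type u} [CommRing A] {Z : Scheme.{u}} (q : Z ⟶ Spec (CommRingCat.of A)) :
    q = Z.toSpecΓ ≫ Spec.map (CommRingCat.ofHom (show A →+* Γ(Z, ⊤) from Coh.toGlobal q)) := by
  have h1 : CommRingCat.ofHom (show A →+* Γ(Z, ⊤) from Coh.toGlobal q) =
      (Scheme.ΓSpecIso (CommRingCat.of A)).inv ≫ q.appTop := rfl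
  rw [h1, Spec.map_comp, ← Scheme.toSpecΓ_naturality_assoc, toSpecΓ_SpecMap_ΓSpecIso_inv, Category.comp_id]

/-- A scheme over a local ring whose functions are killed by the maximal ideal is a scheme over the residue field. -/
theorem exists_factor {A : Type u} [CommRing A] [IsLocalRing A] {Z : Scheme.{u}} (q : Z ⟶ Spec (CommRingCat.of A))
    (h : ∀ a ∈ IsLocalRing.maximalIdeal A, (show A →+* Γ(Z, ⊤) from Coh.toGlobal q) a = 0) :
    ∃ f : Z ⟶ Spec (CommRingCat.of (IsLocalRing.ResidueField A)),
      f ≫ Spec.map (CommRingCat.ofHom (IsLocalRing.residue A)) = q := by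
  let φ : IsLocalRing.ResidueField A →+* Γ(Z, ⊤) :=
    Ideal.Quotient.lift (IsLocalRing.maximalIdeal A) (show A →+* Γ(Z, ⊤) from Coh.toGlobal q) h
  refine ⟨Z.toSpecΓ ≫ Spec.map (CommRingCat.ofHom φ), ?_⟩
  rw [Category.assoc, ← Spec.map_comp, ← CommRingCat.ofHom_comp]
  have : φ.comp (IsLocalRing.residue A) = (show A →+* Γ(Z, ⊤) from Coh.toGlobal q) := by
    ext a
    exact Ideal.Quotient.lift_mk (IsLocalRing.maximalIdeal A) (show A →+* Γ(Z, ⊤) from Coh.toGlobal q) h
  rw [this]
  exact (eq_toSpecΓ q).symm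

theorem toGlobal_comp {A : Type u} [CommRing A] {Y Z : Scheme.{u}} (i : Z ⟶ Y) (q : Y ⟶ Spec (CommRingCat.of A)) (a : A) :
    (show A →+* Γ(Z, ⊤) from Coh.toGlobal (i ≫ q)) a = i.appTop.hom ((show A →+* Γ(Y, ⊤) from Coh.toGlobal q) a) := by
  have h1 : (i ≫ q).appTop = q.appTop ≫ i.appTop := Scheme.Hom.comp_appTop i q
  change (i ≫ q).appTop.hom _ = _
  rw [h1]
  rfl

section Poly

/-- A polynomial function which is `m`-periodic at `0` is constant. -/
theorem poly_const (Q : Polynomial ℚ) (c : ℚ) (m : ℕ) (hm : 1 ≤ m) (h : ∀ t : ℕ, Q.eval ((m * t : ℕ) : ℚ) = c) :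
    Q = Polynomial.C c := by
  refine Polynomial.eq_of_infinite_eval_eq _ _ ?_
  refine Set.infinite_of_injective_forall_mem (f := fun t : ℕ => ((m * t : ℕ) : ℚ)) ?_ ?_
  · intro a b hab
    have h1 : m * a = m * b := by
      have h2 : ((m * a : ℕ) : ℚ) = ((m * b : ℕ) : ℚ) := hab
      exact_mod_cast h2
    exact Nat.eq_of_mul_eq_mul_left (by omega) h1
  · intro t
    simp only [Set.mem_ofPred_eq, Polynomial.eval_C]
    exact h t

end Poly

section Torsion

variable (k : Type u) [Field k] (D : Scheme.{u}) [D.Over (Spec (CommRingCat.of k))]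
  [IsProper (D ↘ Spec (CommRingCat.of k))]

/-- On a proper scheme over a field, twisting by a torsion invertible module does not change the Euler characteristic. -/
theorem euler_torsion (L : D.Modules) (hL : PicF.IsInvertible L) (m : ℕ) (hm : 1 ≤ m) (hLm : mc L ^ m = 1)
    (j : ℕ) (M : D.Modules) (hM : mc M = mc L ^ j) (F : D.Modules) (hF : Coh.IsCoh F) :
    Curv2.euler k D (CohB1.tensorMod M F) = Curv2.euler k D F := by
  have hN := Groth.Agent.Fga.SnapperTwist.isNoetherian_of_proper k D
  have hadd : Fga.ChiBasic.IsAdd (fun F : D.Modules => Curv2.euler k D F) :=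
    fun S hS h1 h2 h3 => Groth.Agent.S1524.result k D S hS h1 h2 h3
  by_cases hne : Nonempty D
  swap
  · -- everything vanishes on the empty scheme
    have he : IsEmpty D := not_nonempty_iff.1 hne
    have hz : ∀ G : D.Modules, Curv2.euler k D G = 0 := by
      intro G
      have hG : IsZero G := by
        refine (IsZero.iff_id_eq_zero _).2 ?_
        apply Scheme.Modules.hom_ext
        intro U
        ext s
        refine res_ext (M := G) (ι := PEmpty.{u+1}) (fun i => i.elim) (fun i => i.elim) (fun x _ => (he.false x).elim)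
          (fun i => i.elim)
      rw [EulerAdd.euler_eq_sum k G 0 fun i _ => subsingleton_of_isZero hG i]
      simp
    rw [hz, hz]
  -- dimension bound
  obtain ⟨d, hd⟩ : ∃ d : ℕ, topologicalKrullDim (CohB1.support F) ≤ d := by
    obtain ⟨n, hn⟩ := Groth.Agent.EtpbcA.CdFinDim.exists_dim_le (D ↘ Spec (CommRingCat.of k))
    exact ⟨n, (Topology.IsInducing.subtypeVal.topologicalKrullDim_le).trans hn⟩
  obtain ⟨P, -, hP⟩ := Groth.Agent.Fga.SnapperTwist.snapper' hadd (n := 1) (fun _ => L) (fun _ => hL) F hF d hd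
  have key : ∀ (G : D.Modules) (t : ℕ), mc G = mc L ^ t * mc F → (Curv2.euler k D G : ℚ) =
      MvPolynomial.eval (fun _ => (t : ℚ)) P := by
    intro G t hG
    rw [← hP fun _ => t]
    have h1 : mc G = mc (Curv2.tensorPows F 1 (fun _ => L) fun _ => t) := by
      rw [Groth.Agent.Fga.SnapperTwist.mc_tensorPows, hG]
      simp
    obtain ⟨e⟩ := (mc_eq_iff _ _).1 h1
    rw [EulerAdd.euler_congr k e]
  let Q : Polynomial ℚ := MvPolynomial.aeval (fun _ => (Polynomial.X : Polynomial ℚ)) P
  have hQ : ∀ t : ℕ, Q.eval (t : ℚ) = MvPolynomial.eval (fun _ => (t : ℚ)) P := by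
    intro t
    simp only [Q, MvPolynomial.aeval_def, MvPolynomial.eval₂_eq', Polynomial.eval_finsetSum]
    rw [MvPolynomial.eval_eq']
    refine Finset.sum_congr rfl fun x _ => ?_
    simp [Polynomial.eval_mul]
  have hconst : Q = Polynomial.C ((Curv2.euler k D F : ℤ) : ℚ) := by
    refine poly_const Q _ m hm fun t => ?_
    rw [hQ]
    refine (key F (m * t) ?_).symm
    rw [pow_mul, hLm, one_pow, one_mul]
  have h2 := key (CohB1.tensorMod M F) j (by rw [mc_tensor, hM])
  rw [← hQ, hconst, Polynomial.eval_C] at h2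
  exact_mod_cast h2

end Torsion

section Main

variable (R : Type u) [CommRing R] [IsDomain R] [IsDiscreteValuationRing R]

omit [IsDomain R] [IsDiscreteValuationRing R] in
/-- Filtration of `O/I^m` by the `I^j/I^{j+1}`. -/
theorem chi_quot_pow {X D : Scheme.{u}} [X.Over (Spec (CommRingCat.of R))] (i : D ⟶ X) [IsClosedImmersion i]
    (hI : BlowUp.IsEffCartierIdeal i.ker) (k : Type u) [Field k] [D.Over (Spec (CommRingCat.of k))]
    [IsProper (D ↘ Spec (CommRingCat.of k))] (φ : R →+* k) (hφ : Function.Surjective φ)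
    (h : i ≫ (X ↘ Spec (CommRingCat.of R)) = (D ↘ Spec (CommRingCat.of k)) ≫ Spec.map (CommRingCat.ofHom φ))
    (m : ℕ) :
    Good R (ClSub.quotMod (i.ker ^ m)) ∧ chi R (ClSub.quotMod (i.ker ^ m)) =
      ∑ j ∈ Finset.range m, Curv2.euler k D ((Scheme.Modules.pullback i).obj (ClSub.idealMod (i.ker ^ j))) := by
  let _ : D.Over (Spec (CommRingCat.of R)) := ⟨i ≫ (X ↘ Spec (CommRingCat.of R))⟩
  have hc : CompactSpace D := (quasiCompact_iff_compactSpace (D ↘ (Spec (CommRingCat.of k)))).mp inferInstance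
  have hqs : QuasiSeparatedSpace D :=
    (quasiSeparated_iff_quasiSeparatedSpace (D ↘ (Spec (CommRingCat.of k)))).mp inferInstance
  obtain ⟨N, hN⟩ := Groth.Agent.S0016.result D
  have hLN : IsLocallyNoetherian D := LocallyOfFiniteType.isLocallyNoetherian (D ↘ Spec (CommRingCat.of k))
  induction m with
  | zero =>
    have hz : IsZero (ClSub.quotMod (i.ker ^ 0)) := by
      rw [pow_zero, Scheme.IdealSheafData.one_eq_top]
      refine (IsZero.iff_id_eq_zero _).2 ?_
      apply Scheme.Modules.hom_ext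
      intro U
      ext s
      have h1 : IsEmpty (⊤ : X.IdealSheafData).subscheme := by
        refine ⟨fun x => ?_⟩
        have h : (⊤ : X.IdealSheafData).subschemeι x ∈ ((⊤ : X.IdealSheafData).support : Set X) := by
          rw [← Scheme.IdealSheafData.range_subschemeι]
          exact ⟨x, rfl⟩
        rw [Scheme.IdealSheafData.support_top] at h
        exact h
      have h2 : Subsingleton Γ((⊤ : X.IdealSheafData).subscheme,
          (⊤ : X.IdealSheafData).subschemeι ⁻¹ᵁ U) := by
        have : (⊤ : X.IdealSheafData).subschemeι ⁻¹ᵁ U = ⊥ := by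
          ext x
          exact (h1.false x).elim
        rw [this]
        infer_instance
      exact h2.elim _ _
    exact ⟨good_of_isZero hz, by rw [chi_of_isZero hz, Finset.sum_range_zero]⟩
  | succ m ih =>
    have hle : i.ker ^ m * i.ker ≤ i.ker ^ m :=
      mul_le_of_le_one_right' (by rw [Scheme.IdealSheafData.one_eq_top]; exact le_top)
    obtain ⟨S, hS, ⟨e1⟩, ⟨e2⟩, ⟨e3⟩⟩ := Models.H47.EulerStep.exists_shortExact hle
    have hinv := Groth.Agent.Fdesc.LocGen.isInvertible_pullback i (isInvertible_idealMod (isEff_pow hI m))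
    have hcoh : Coh.IsCoh ((Scheme.Modules.pullback i).obj (ClSub.idealMod (i.ker ^ m))) :=
      Groth.Agent.S2329.isCoh_of_isInvertible hinv
    have hfin := fun n => Groth.Agent.S0002.result k D _ hcoh n
    have h1 : Groth.Agent.Ega1.ClosedKill.Kills i.ker (cokernel (incl hle)) := kills_cokernel hle le_rfl
    have h2 := h1.isIso_unit i
    obtain ⟨e⟩ := nonempty_pull_iso i hle le_rfl
    let e' : (Scheme.Modules.pushforward i).obj ((Scheme.Modules.pullback i).obj (ClSub.idealMod (i.ker ^ m))) ≅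
        S.X₁ :=
      (Scheme.Modules.pushforward i).mapIso e ≪≫
        (@asIso _ _ _ _ ((Scheme.Modules.pullbackPushforwardAdjunction i).unit.app
          (cokernel (incl hle))) h2).symm ≪≫ e1.symm
    have g1 : Good R S.X₁ := by
      refine Good.congr ((good_push_iff R i rfl _ hcoh.1).2 ?_) e'
      exact good_of_surjective φ hφ h _ hfin ⟨N, hN _ hcoh.1⟩
    have c1 : chi R S.X₁ = Curv2.euler k D ((Scheme.Modules.pullback i).obj (ClSub.idealMod (i.ker ^ m))) := by
      rw [← chi_congr R e', chi_push R i rfl _ hcoh.1, chi_eq_euler φ hφ h _ hfin]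
    have g3 : Good R S.X₃ := ih.1.congr e3.symm
    have g2 : Good R S.X₂ := Good.ext hS g1 g3
    rw [pow_succ]
    refine ⟨g2.congr e2, ?_⟩
    rw [← chi_congr R e2, chi_add hS g1 g2 g3, chi_congr R e3, c1, ih.2, Finset.sum_range_succ, add_comm]

theorem mc_pull_pow {X D : Scheme.{u}} (i : D ⟶ X) {I : X.IdealSheafData} (hI : BlowUp.IsEffCartierIdeal I) (j : ℕ) :
    mc ((Scheme.Modules.pullback i).obj (ClSub.idealMod (I ^ j))) =
      mc ((Scheme.Modules.pullback i).obj (ClSub.idealMod I)) ^ j := by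
  induction j with
  | zero =>
    rw [pow_zero, pow_zero, Scheme.IdealSheafData.one_eq_top]
    have h1 : GenOn (⊤ : X.IdealSheafData) (1 : Γ(X, ⊤)) := by
      intro W hW
      refine ⟨?_, ?_⟩
      · rw [map_one]; exact one_mem _
      · rw [map_one, Ideal.span_singleton_one]; rfl
    obtain ⟨e⟩ := idealMod_principal h1
    rw [← mc_one]
    exact mc_eq ((Scheme.Modules.pullback i).mapIso e.symm ≪≫ CurvesA.HHMap.pullbackUnit i)
  | succ j ih =>
    rw [pow_succ, pow_succ, ← ih]
    obtain ⟨e⟩ := idealMod_mul (isEff_pow hI j) hI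
    obtain ⟨e'⟩ := pullback_tensorMod i (isInvertible_idealMod (isEff_pow hI j)) (isInvertible_idealMod hI)
    rw [← mc_eq ((Scheme.Modules.pullback i).mapIso e), mc_eq e', mc_tensor]

/-- `χ(C, O_C) = m χ(D, O_D)` when the closed fibre is `m D`. -/
theorem euler_eq_mul {C X : Scheme.{u}} [C.Over (Spec (CommRingCat.of (FractionRing R)))]
    (p : X ⟶ Spec (CommRingCat.of R)) [IsProper p] [Flat p] (g : C ⟶ X)
    (h : IsPullback g (C ↘ Spec (CommRingCat.of (FractionRing R))) p
      (Spec.map (CommRingCat.ofHom (algebraMap R (FractionRing R)))))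
    (m : ℕ) (hm : 1 ≤ m) (I : X.IdealSheafData) (hI : BlowUp.IsEffCartierIdeal I)
    (hIm : I ^ m = Models.specialFibreIdeal R (Over.mk p)) :
    ∃ e : ℤ, Curv2.euler (FractionRing R) C (Coh.structureModule C) = m * e := by
  let _ : X.Over (Spec (CommRingCat.of R)) := ⟨p⟩
  obtain ⟨ϖ, hϖ⟩ := IsDiscreteValuationRing.exists_irreducible R
  have hgen : GenOn (X := X) (Models.specialFibreIdeal R (Over.mk p)) (EulerInv.glob R p ϖ) :=
    EulerInv.genOn_specialFibreIdeal p hϖ
  let i : I.subscheme ⟶ X := I.subschemeι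
  have hker : i.ker = I := Scheme.IdealSheafData.ker_subschemeι I
  -- `D` is a scheme over the residue field
  have hle : I ^ m ≤ I := by
    obtain ⟨m', rfl⟩ : ∃ m', m = m' + 1 := ⟨m - 1, by omega⟩
    rw [pow_succ]
    exact mul_le_of_le_one_left' (by rw [Scheme.IdealSheafData.one_eq_top]; exact le_top)
  have hkill : i.appTop.hom (EulerInv.glob R p ϖ) = 0 := by
    refine Groth.Agent.Divis.IdealFT.subschemeι_app_eq_zero I ⊤ (EulerInv.glob R p ϖ) ?_
    intro x _
    obtain ⟨V, hV, hV'⟩ := exists_affine_mem_le (⊤ : X.Opens) x trivial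
    refine ⟨V, hV', hV, ?_⟩
    have h1 := (hgen V hV').2
    have h2 : ores hV' (EulerInv.glob R p ϖ) ∈ (Models.specialFibreIdeal R (Over.mk p)).ideal V :=
      h1 ▸ Ideal.mem_span_singleton_self _
    rw [← hIm] at h2
    exact hle V h2
  obtain ⟨f, hf⟩ := exists_factor (i ≫ p) (by
    intro a ha
    rw [hϖ.maximalIdeal_eq, Ideal.mem_span_singleton] at ha
    obtain ⟨b, rfl⟩ := ha
    rw [toGlobal_comp, map_mul, map_mul]
    have : i.appTop.hom ((show R →+* Γ(X, ⊤) from Coh.toGlobal p) ϖ) = 0 := hkill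
    rw [this, zero_mul])
  let _ : I.subscheme.Over (Spec (CommRingCat.of (IsLocalRing.ResidueField R))) := ⟨f⟩
  have hfp : IsProper f := by
    have h1 : IsProper (f ≫ Spec.map (CommRingCat.ofHom (IsLocalRing.residue R))) := by
      rw [hf]
      infer_instance
    have h2 : IsSeparated (Spec.map (CommRingCat.ofHom (IsLocalRing.residue R))) := inferInstance
    exact IsProper.of_comp f (Spec.map (CommRingCat.ofHom (IsLocalRing.residue R)))
  have hfp' : IsProper (I.subscheme ↘ Spec (CommRingCat.of (IsLocalRing.ResidueField R))) := hfp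
  have hI' : BlowUp.IsEffCartierIdeal i.ker := by rw [hker]; exact hI
  obtain ⟨-, hchi⟩ := chi_quot_pow R i hI' (IsLocalRing.ResidueField R) (IsLocalRing.residue R)
    IsLocalRing.residue_surjective hf.symm m
  rw [hker, hIm] at hchi
  have h3 := (DvrChi.chi_specialFibre R p g h).2
  -- all the terms are equal
  let L := (Scheme.Modules.pullback i).obj (ClSub.idealMod I)
  have hL : PicF.IsInvertible L := Groth.Agent.Fdesc.LocGen.isInvertible_pullback i (isInvertible_idealMod hI)
  have hLm : mc L ^ m = 1 := by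
    rw [← mc_pull_pow i hI, hIm]
    obtain ⟨e⟩ := idealMod_principal hgen
    rw [← mc_one]
    exact mc_eq ((Scheme.Modules.pullback i).mapIso e.symm ≪≫ CurvesA.HHMap.pullbackUnit i)
  refine ⟨Curv2.euler (IsLocalRing.ResidueField R) I.subscheme (Coh.structureModule I.subscheme), ?_⟩
  rw [← h3]
  refine hchi.trans ?_
  have hterm : ∀ j ∈ Finset.range m, Curv2.euler (IsLocalRing.ResidueField R) I.subscheme
      ((Scheme.Modules.pullback i).obj (ClSub.idealMod (I ^ j))) =
      Curv2.euler (IsLocalRing.ResidueField R) I.subscheme (Coh.structureModule I.subscheme) := by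
    intro j _
    have hLN : IsLocallyNoetherian I.subscheme :=
      LocallyOfFiniteType.isLocallyNoetherian (I.subscheme ↘ Spec (CommRingCat.of (IsLocalRing.ResidueField R)))
    rw [← euler_torsion (IsLocalRing.ResidueField R) I.subscheme L hL m hm hLm j _ (mc_pull_pow i hI j)
      (Coh.structureModule I.subscheme) (CurvesB.UnitCoh.isCoh_structureModule _)]
    have h5 : mc (CohB1.tensorMod ((Scheme.Modules.pullback i).obj (ClSub.idealMod (I ^ j)))
        (Coh.structureModule I.subscheme)) = mc ((Scheme.Modules.pullback i).obj (ClSub.idealMod (I ^ j))) := by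
      rw [mc_tensor, mc_one, mul_one]
    obtain ⟨e⟩ := (mc_eq_iff _ _).1 h5
    exact (EulerAdd.euler_congr _ e).symm
  rw [Finset.sum_congr rfl hterm, Finset.sum_const, Finset.card_range, nsmul_eq_mul]

end Main

end K435.DivFibre
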