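import Groth.Agent.Variety.K435.RegModel

/-!
# The multiplicities of the components of the closed fibre lie in the index subgroup
-/

set_option autoImplicit false
universe u

open CategoryTheory CategoryTheory.Limits AlgebraicGeometry IsLocalRing TopologicalSpace

namespace K435.RegIndex

open Groth.Agent.Divis.CartierBasic Groth.Agent.Divis.StalkPrime Groth.Agent.CycB.LocQuot
open Groth.Agent.Divis.EffCartier Groth.Agent.Dix.VertGeom Groth.Agent.CurvesC.BlowUpCharts
open Groth.Agent.Models.H36.FibreFact K381.FibComp K435.RegModel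

variable {R : Type u} [CommRing R] [IsDomain R] [IsDiscreteValuationRing R]
variable {X : Over (Spec (CommRingCat.of R))}

/-- A closed point of `Z = closure ξ` at which `Z` is regular and which is on no other component. -/
theorem exists_good_point (hk : IsAlgClosed (ResidueField R)) [LocallyOfFiniteType X.hom]
    {Z : Scheme.{u}} (i : Z ⟶ X.left) [IsClosedImmersion i] [IsIntegral Z]
    (hZ : ∀ z, X.hom (i z) = closedPoint R) (W : X.left.Opens) (hW : i (genericPoint Z) ∈ W) :
    ∃ (z : Z) (σ : Spec (CommRingCat.of (ResidueField R)) ⟶ X.left),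
      σ ≫ X.hom = Spec.map (CommRingCat.ofHom (residue R)) ∧ σ.base (closedPoint (ResidueField R)) = i z ∧
      i z ∈ W ∧ IsRegularLocalRing (Z.presheaf.stalk z) := by
  obtain ⟨f', hf'⟩ := exists_factor (i ≫ X.hom) hZ
  have hft : LocallyOfFiniteType (f' ≫ Spec.map (CommRingCat.ofHom (residue R))) := by
    rw [hf']; infer_instance
  have hft' : LocallyOfFiniteType f' := locallyOfFiniteType_of_comp f' (Spec.map (CommRingCat.ofHom (residue R)))
  let _ : Z.Over (Spec (CommRingCat.of (ResidueField R))) := ⟨f'⟩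
  have hfp : LocallyOfFinitePresentation (Z ↘ Spec (CommRingCat.of (ResidueField R))) :=
    LocallyOfFinitePresentation.iff_locallyOfFiniteType.2 hft'
  obtain ⟨h1, h2⟩ := Groth.Agent.S1561.result (ResidueField R) Z
  let V : Z.Opens := (Z ↘ Spec (CommRingCat.of (ResidueField R))).smoothLocus ⊓ (i ⁻¹ᵁ W)
  have hgen : genericPoint Z ∈ V := by
    refine ⟨?_, hW⟩
    have hne : ((Z ↘ Spec (CommRingCat.of (ResidueField R))).smoothLocus : Set Z).Nonempty := by
      exact h2.nonempty
    obtain ⟨y, hy⟩ := hne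
    exact (genericPoint_specializes y).mem_open
      (Z ↘ Spec (CommRingCat.of (ResidueField R))).smoothLocus.isOpen hy
  have hJ : JacobsonSpace Z := LocallyOfFiniteType.jacobsonSpace f'
  obtain ⟨z, hzV, hz⟩ := nonempty_inter_closedPoints (Z := (V : Set Z)) ⟨_, hgen⟩ V.isOpen.isLocallyClosed
  have hz' : IsClosed ({z} : Set Z) := hz
  refine ⟨z, pointOfClosedPoint f' z hz' ≫ i, ?_, ?_, hzV.2, (h1 z).1 hzV.1⟩
  · rw [Category.assoc, ← hf', pointOfClosedPoint_comp_assoc]
  · change i (pointOfClosedPoint f' z hz' _) = i z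
    rw [pointOfClosedPoint_apply]

variable [HenselianLocalRing R]

/-- **The main statement.** -/
theorem euler_divisor (hk : IsAlgClosed (ResidueField R)) {C : Scheme.{u}}
    (f : C ⟶ Spec (CommRingCat.of (FractionRing R))) [IsSeparated f]
    [LocallyOfFiniteType X.hom] [QuasiCompact X.hom] [Flat X.hom] (g : C ⟶ X.left)
    (h : IsPullback g f X.hom (Spec.map (CommRingCat.ofHom (algebraMap R (FractionRing R)))))
    (hreg : Models.IsRegularScheme X.left) :
    ∃ (n : ℕ) (P : Fin n → X.left.IdealSheafData) (a : Fin n → ℕ),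
      (∀ j, BlowUp.IsEffCartierIdeal (P j)) ∧ Models.specialFibreIdeal R X = ∏ j, P j ^ a j ∧
      ∀ j, (a j : ℤ) ∈ Curv2.indexSubgroup f := by
  have hN : IsNoetherian X.left := isNoetherian (R := R)
  have hfin := finite_isGen (X := X)
  obtain ⟨n, ⟨e⟩⟩ := Finite.exists_equiv_fin (α := {ξ : X.left | IsGen X ξ}) (h := hfin)
  let ξ : Fin n → X.left := fun j => (e.symm j : X.left)
  have hξ : ∀ j, IsGen X (ξ j) := fun j => (e.symm j).2
  have hξinj : Function.Injective ξ := fun a b hab => e.symm.injective (Subtype.ext hab)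
  choose Z i hi hint hgen hrange using fun j => Groth.Agent.CycA.ClosurePt.exists_closure_subscheme (ξ j)
  have hsurj : ∀ η, IsGen X η → ∃ j, ξ j = η := fun η hη => ⟨e ⟨η, hη⟩, by simp [ξ]⟩
  have heff : ∀ j, BlowUp.IsEffCartierIdeal (i j).ker := fun j => isEff_ker hreg (hξ j) (i j) (hgen j)
  have hsupp : ∀ j x, x ∈ (i j).ker.support ↔ ξ j ⤳ x := by
    intro j x
    rw [mem_support_ker_iff, hrange, specializes_iff_mem_closure]
  obtain ⟨a, ha⟩ := Groth.Agent.S1659.result X.left (Models.specialFibreIdeal R X)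
    isEff_specialFibreIdeal n (fun j => (i j).ker) heff (fun j => isIntegral_ker_subscheme (i j)) (by
      intro x hx
      have hx' := (mem_support_specialFibreIdeal_iff x).1 hx
      obtain ⟨η, hηx, hη⟩ := exists_isGen x hx'
      obtain ⟨j, rfl⟩ := hsurj η hη
      exact Set.mem_iUnion.2 ⟨j, (hsupp j x).2 hηx⟩)
  refine ⟨n, fun j => (i j).ker, a, heff, ha, fun j => ?_⟩
  -- a good point on the `j`-th component
  let T : Set X.left := ⋃ l ∈ (Finset.univ.erase j : Finset (Fin n)), closure {ξ l}
  have hT : IsClosed T := Set.Finite.isClosed_biUnion (Finset.finite_toSet _) fun l _ => isClosed_closure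
  let W : X.left.Opens := ⟨Tᶜ, hT.isOpen_compl⟩
  have hW : ∀ x : X.left, x ∈ W ↔ ∀ l, l ≠ j → ¬ ξ l ⤳ x := by
    intro x
    change x ∉ T ↔ _
    simp only [T, Set.mem_iUnion, Finset.mem_erase, Finset.mem_univ, and_true, exists_prop, not_exists,
      not_and, specializes_iff_mem_closure]
  have hgW : (i j) (genericPoint (Z j)) ∈ W := by
    rw [hW, hgen j]
    intro l hl hs
    exact hl (hξinj ((hξ j).2 _ hs (hξ l).1))
  have hZ : ∀ z, X.hom ((i j) z) = closedPoint R := by
    intro z
    have h1 : (i j) z ∈ closure {ξ j} := by rw [← hrange]; exact ⟨z, rfl⟩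
    have h2 : closure {ξ j} ⊆ Models.specialFibreSet R X :=
      closure_minimal (by rintro _ rfl; exact (hξ j).1) (Models.isClosed_specialFibreSet R X)
    exact h2 h1
  obtain ⟨z, σ, hσ, hσz, hzW, hzreg⟩ := exists_good_point hk (i j) hZ W hgW
  obtain ⟨ψ, hψ⟩ := StalkPt.exists_stalk_hom X.hom σ hσ _ hσz
  obtain ⟨t, -, ht⟩ := exists_stalkIdeal_eq_span (heff j) ((i j) z)
  -- the quotient is regular
  have e1 : (X.left.presheaf.stalk ((i j) z) ⧸ Ideal.span {t}) ≃+* (Z j).presheaf.stalk z :=
    (Ideal.quotEquivOfEq (by rw [← ht]; exact (Groth.Agent.Divis.CartierStalk.ker_stalkMap (i j) z).symm)).trans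
      (RingHom.quotientKerEquivOfSurjective ((i j).stalkMap_surjective z))
  have hregt : IsRegularLocalRing (X.left.presheaf.stalk ((i j) z) ⧸ Ideal.span {t}) :=
    IsRegularLocalRing.of_ringEquiv e1.symm
  have hfib : (maximalIdeal R).map (Models.stalkHom R X ((i j) z)) = Ideal.span {t ^ a j} := by
    rw [← stalkIdeal_specialFibreIdeal, ha, stalkIdeal_prod,
      Finset.prod_eq_single_of_mem j (Finset.mem_univ j), stalkIdeal_pow, ht, Ideal.span_singleton_pow]
    intro l _ hl
    rw [stalkIdeal_pow, (notMem_support_iff_stalkIdeal_eq_top _ _).1, ← Ideal.one_eq_top, one_pow]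
    rw [hsupp]
    exact (hW _).1 hzW l hl
  exact StalkPt.mem_index f X.hom g h ((i j) z) ψ hψ (hreg _) t hregt (a j) hfib

end K435.RegIndex
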