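import Groth.Prelude.Def_W4c5delpairindexchiIndex
import Groth.Agent.QsChow.K934.PtNorm

/-!
# Membership in the index subgroup
-/

set_option autoImplicit false
universe u

open CategoryTheory CategoryTheory.Limits AlgebraicGeometry

namespace K435.IndexPt

/-- A point with values in a finite extension `L` of `K` shows that `[L : K]` is in the index subgroup. -/
theorem finrank_mem {K : Type u} [Field K] {X : Scheme.{u}} (f : X ⟶ Spec (CommRingCat.of K)) [IsSeparated f]
    (L : Type u) [Field L] [Algebra K L] [FiniteDimensional K L] (y : Spec (CommRingCat.of L) ⟶ X)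
    (hy : y ≫ f = Spec.map (CommRingCat.ofHom (algebraMap K L))) :
    (Module.finrank K L : ℤ) ∈ Curv2.indexSubgroup f := by
  let pt : Spec (CommRingCat.of L) := IsLocalRing.closedPoint L
  have h1 := Groth.Agent.CycB.Push.residueDegree_comp y f pt
  have h2 : (y ≫ f).residueDegree pt = Module.finrank K L := by
    rw [hy]
    exact K934.PtNorm.residueDegree_spec K L pt
  rw [h2] at h1
  have hfin : IsFinite (Spec.map (CommRingCat.ofHom (algebraMap K L))) := by
    rw [IsFinite.SpecMap_iff]
    exact RingHom.finite_algebraMap.2 inferInstance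
  have hprop : IsProper (y ≫ f) := by
    rw [hy]
    infer_instance
  have hyp : IsProper y := IsProper.of_comp y f
  have hclosed : IsClosed ({y pt} : Set X) := by
    have h3 : IsClosedMap y := y.isClosedMap
    have h4 := h3 Set.univ isClosed_univ
    have h5 : (y '' Set.univ) = {y pt} := by
      have hsub : Subsingleton (Spec (CommRingCat.of L)) := inferInstance
      ext x
      simp only [Set.mem_image, Set.mem_univ, true_and, Set.mem_singleton_iff]
      constructor
      · rintro ⟨z, rfl⟩
        rw [Subsingleton.elim z pt]
      · rintro rfl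
        exact ⟨pt, rfl⟩
    rwa [h5] at h4
  rw [h1, Nat.cast_mul, mul_comm]
  have h6 : (f.residueDegree (y pt) : ℤ) ∈ Curv2.indexSubgroup f :=
    AddSubgroup.subset_closure ⟨y pt, hclosed, rfl⟩
  have h7 := (Curv2.indexSubgroup f).zsmul_mem h6 (y.residueDegree pt : ℤ)
  rwa [smul_eq_mul] at h7

end K435.IndexPt
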