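import Groth.Agent.Variety.K435.LocPoint
import Groth.Agent.Variety.K435.IndexPt
import Groth.Agent.Models.H36.FibreFact

/-!
# Points of the generic fibre through a regular point of a component of the closed fibre
-/

set_option autoImplicit false
universe u

open CategoryTheory CategoryTheory.Limits AlgebraicGeometry IsLocalRing

namespace K435.StalkPt

open Groth.Agent.CurvesC.BlowUpCharts Groth.Agent.Models.H36.FibreFact

/-- A morphism to `Spec A` in terms of `Coh.toGlobal`. -/
theorem eq_toSpecΓ {A : Type u} [CommRing A] {Z : Scheme.{u}} (q : Z ⟶ Spec (CommRingCat.of A)) :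
    q = Z.toSpecΓ ≫ Spec.map (CommRingCat.ofHom (show A →+* Γ(Z, ⊤) from Coh.toGlobal q)) := by
  have h1 : CommRingCat.ofHom (show A →+* Γ(Z, ⊤) from Coh.toGlobal q) =
      (Scheme.ΓSpecIso (CommRingCat.of A)).inv ≫ q.appTop := rfl
  rw [h1, Spec.map_comp, ← Scheme.toSpecΓ_naturality_assoc, toSpecΓ_SpecMap_ΓSpecIso_inv, Category.comp_id]

variable {R : Type u} [CommRing R] [IsDomain R] [IsDiscreteValuationRing R]

omit [IsDomain R] [IsDiscreteValuationRing R] in
theorem fromSpecStalk_comp {X : Scheme.{u}} (p : X ⟶ Spec (CommRingCat.of R)) (x : X) :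
    X.fromSpecStalk x ≫ p = Spec.map (CommRingCat.ofHom (Models.stalkHom R (Over.mk p) x)) := by
  have h := eq_toSpecΓ p
  have h1 : X.fromSpecStalk x ≫ p = X.fromSpecStalk x ≫ X.toSpecΓ ≫
      Spec.map (CommRingCat.ofHom (show R →+* Γ(X, ⊤) from Coh.toGlobal p)) := by rw [← h]
  rw [h1, Scheme.fromSpecStalk_toSpecΓ_assoc, ← Spec.map_comp]
  rfl

theorem essFiniteType {X : Scheme.{u}} (p : X ⟶ Spec (CommRingCat.of R)) [LocallyOfFiniteType p] (x : X) :
    @Algebra.EssFiniteType R (X.presheaf.stalk x) _ _ (Models.stalkHom R (Over.mk p) x).toAlgebra := by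
  obtain ⟨U, hx⟩ := Groth.Agent.Divis.CartierBasic.exists_affine x
  let i1 : Algebra R (X.presheaf.stalk x) := (Models.stalkHom R (Over.mk p) x).toAlgebra
  let i2 : Algebra R Γ(X, U.1) := (phi p U).toAlgebra
  let i3 : Algebra Γ(X, U.1) (X.presheaf.stalk x) := X.presheaf.algebra_section_stalk (⟨x, hx⟩ : U.1)
  have htow : IsScalarTower R Γ(X, U.1) (X.presheaf.stalk x) := by
    refine IsScalarTower.of_algebraMap_eq' ?_
    exact (germ_comp_phi (X := Over.mk p) x U hx).symm
  have hloc := U.2.isLocalization_stalk ⟨x, hx⟩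
  have h1 : Algebra.EssFiniteType Γ(X, U.1) (X.presheaf.stalk x) :=
    Algebra.EssFiniteType.of_isLocalization _ (U.2.primeIdealOf ⟨x, hx⟩).asIdeal.primeCompl
  have h2 : Algebra.FiniteType R Γ(X, U.1) := by
    have h3 : (phi p U).FiniteType := by
      have h4 : (p.appLE ⊤ U.1 le_top).hom.FiniteType :=
        LocallyOfFiniteType.finiteType_appLE p (isAffineOpen_top _) U.2 le_top
      have h5 : (Scheme.ΓSpecIso (CommRingCat.of R)).inv.hom.FiniteType :=
        RingHom.FiniteType.of_surjective _ (ConcreteCategory.bijective_of_isIso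
          (Scheme.ΓSpecIso (CommRingCat.of R)).inv).2
      exact h4.comp h5
    exact h3
  exact Algebra.EssFiniteType.comp R Γ(X, U.1) (X.presheaf.stalk x)

variable [HenselianLocalRing R]

theorem mem_index {C X : Scheme.{u}} (f : C ⟶ Spec (CommRingCat.of (FractionRing R))) [IsSeparated f]
    (p : X ⟶ Spec (CommRingCat.of R)) [LocallyOfFiniteType p] [Flat p] (g : C ⟶ X)
    (h : IsPullback g f p (Spec.map (CommRingCat.ofHom (algebraMap R (FractionRing R)))))
    (x : X) (ψ : X.presheaf.stalk x →+* ResidueField R)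
    (hψ' : ψ.comp (Models.stalkHom R (Over.mk p) x) = residue R)
    (hreg : IsRegularLocalRing (X.presheaf.stalk x)) (t : X.presheaf.stalk x)
    (hregt : IsRegularLocalRing (X.presheaf.stalk x ⧸ Ideal.span {t}))
    (a : ℕ) (ha' : (maximalIdeal R).map (Models.stalkHom R (Over.mk p) x) = Ideal.span {t ^ a}) :
    (a : ℤ) ∈ Curv2.indexSubgroup f := by
  rcases Nat.eq_zero_or_pos a with rfl | hapos
  · exact_mod_cast (Curv2.indexSubgroup f).zero_mem
  obtain ⟨ϖ, hϖ⟩ := IsDiscreteValuationRing.exists_irreducible R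
  let i1 : Algebra R (X.presheaf.stalk x) := (Models.stalkHom R (Over.mk p) x).toAlgebra
  have ha : (maximalIdeal R).map (algebraMap R (X.presheaf.stalk x)) = Ideal.span {t ^ a} := ha'
  have hψ : ψ.comp (algebraMap R (X.presheaf.stalk x)) = residue R := hψ'
  have ht0 : t ≠ 0 := by
    rintro rfl
    rw [zero_pow hapos.ne', hϖ.maximalIdeal_eq, Ideal.map_span, Set.image_singleton,
      Ideal.span_singleton_eq_bot.2 rfl, Ideal.span_singleton_eq_bot] at ha
    have hfl : Flat (Over.mk p).hom := inferInstanceAs (Flat p)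
    exact nonZeroDivisors.ne_zero (stalkHom_mem_nonZeroDivisors (X := Over.mk p) hϖ.ne_zero x) ha
  have htm : t ∈ maximalIdeal (X.presheaf.stalk x) := by
    by_contra htm
    have hu : IsUnit t := by
      by_contra hu
      exact htm ((mem_maximalIdeal _).2 hu)
    have : Subsingleton (X.presheaf.stalk x ⧸ Ideal.span {t}) := by
      rw [Ideal.span_singleton_eq_top.2 hu]
      exact Ideal.Quotient.subsingleton_iff.2 rfl
    have hnt : Nontrivial (X.presheaf.stalk x ⧸ Ideal.span {t}) := hregt.toIsLocalRing.toNontrivial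
    exact not_subsingleton _ this
  have hess : Algebra.EssFiniteType R (X.presheaf.stalk x) := essFiniteType p x
  have hcomp : ∀ r : R, ψ (algebraMap R (X.presheaf.stalk x) r) = residue R r := fun r =>
    congrArg (fun F : R →+* ResidueField R => F r) hψ
  have hloc : IsLocalHom (algebraMap R (X.presheaf.stalk x)) := by
    refine ⟨fun r hr => ?_⟩
    have h1 := hr.map ψ
    rw [hcomp r] at h1
    exact (isUnit_map_iff (residue R) r).1 h1
  have hres : ∀ b : X.presheaf.stalk x, ∃ r : R, b - algebraMap R (X.presheaf.stalk x) r ∈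
      maximalIdeal (X.presheaf.stalk x) := by
    intro b
    obtain ⟨r, hr⟩ := residue_surjective (ψ b)
    refine ⟨r, ?_⟩
    have h3 : ψ (b - algebraMap R (X.presheaf.stalk x) r) = 0 := by
      rw [map_sub, hcomp r, hr, sub_self]
    rw [mem_maximalIdeal, mem_nonunits_iff]
    intro hu
    have := hu.map ψ
    rw [h3] at this
    exact not_isUnit_zero this
  obtain ⟨L, iL, iKL, φ, hfin, hrank, hφ⟩ :=
    LocPoint.exists_field R (X.presheaf.stalk x) hloc t htm ht0 hregt a ha hres
  rw [← hrank]
  let y0 : Spec (CommRingCat.of L) ⟶ X := Spec.map (CommRingCat.ofHom φ) ≫ X.fromSpecStalk x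
  have hy0 : y0 ≫ p = Spec.map (CommRingCat.ofHom (algebraMap (FractionRing R) L)) ≫
      Spec.map (CommRingCat.ofHom (algebraMap R (FractionRing R))) := by
    rw [← Spec.map_comp, ← CommRingCat.ofHom_comp, ← hφ, CommRingCat.ofHom_comp, Spec.map_comp]
    change (Spec.map (CommRingCat.ofHom φ) ≫ X.fromSpecStalk x) ≫ p = _
    rw [Category.assoc, fromSpecStalk_comp]
  exact IndexPt.finrank_mem f L (h.lift y0 _ hy0) (h.lift_snd _ _ _)

omit [HenselianLocalRing R] in
/-- A point of the closed fibre with values in the residue field gives a map from the local ring. -/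
theorem exists_stalk_hom {X : Scheme.{u}} (p : X ⟶ Spec (CommRingCat.of R))
    (σ : Spec (CommRingCat.of (ResidueField R)) ⟶ X)
    (hσ : σ ≫ p = Spec.map (CommRingCat.ofHom (residue R)))
    (x : X) (hx : σ.base (closedPoint (ResidueField R)) = x) :
    ∃ ψ : X.presheaf.stalk x →+* ResidueField R, ψ.comp (Models.stalkHom R (Over.mk p) x) = residue R := by
  subst hx
  let ψ := (Scheme.stalkClosedPointTo σ).hom
  refine ⟨ψ, ?_⟩
  have h1 : Spec.map (Scheme.stalkClosedPointTo σ) ≫ X.fromSpecStalk _ = σ :=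
    Scheme.Spec_stalkClosedPointTo_fromSpecStalk σ
  have h2 : Spec.map (CommRingCat.ofHom (ψ.comp (Models.stalkHom R (Over.mk p) _))) =
      Spec.map (CommRingCat.ofHom (residue R)) := by
    refine Eq.trans ?_ hσ
    refine Eq.trans ?_ (congrArg (fun τ => τ ≫ p) h1)
    simp only
    rw [Category.assoc, fromSpecStalk_comp, ← Spec.map_comp]
    rfl
  have h3 := Spec.map_injective h2
  exact congrArg CommRingCat.Hom.hom h3

end K435.StalkPt
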