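import Groth.Agent.VarietyA.EulerAdd
import Groth.Agent.Ega3B.EulerAlg
import Groth.Agent.VarietyB.HHPush
import Groth.Agent.Models.H47.EulerVert
import Groth.Agent.S0016

/-!
# Euler characteristics as alternating sums of lengths

`X` a scheme over `Spec R`. `Good R F`: all `H^i(X, F)` have finite length over `R` and vanish for large `i`.
`chi R F = Σ (-1)^i length_R H^i(X, F)`.
-/

set_option autoImplicit false
universe u

open CategoryTheory CategoryTheory.Limits AlgebraicGeometry Opposite TopologicalSpace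

namespace K435.ChiLen

open Groth.Agent Groth.Agent.VarietyA

variable (R : Type u) [CommRing R] {X : Scheme.{u}} [X.Over (Spec (CommRingCat.of R))]

/-- All `H^i(X, F)` have finite length over `R` and vanish for large `i`. -/
def Good (F : X.Modules) : Prop :=
  (∀ i, IsFiniteLength R (Coh.HH X F i)) ∧ ∃ N : ℕ, ∀ i, N ≤ i → Subsingleton (Coh.HH X F i)

/-- `Σ (-1)^i length_R H^i(X, F)`. -/
noncomputable def chi (F : X.Modules) : ℤ :=
  ∑ᶠ i : ℕ, (-1 : ℤ) ^ i * ((Module.length R (Coh.HH X F i)).toNat : ℤ)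

theorem length_congr {F G : X.Modules} (e : F ≅ G) (i : ℕ) :
    Module.length R (Coh.HH X F i) = Module.length R (Coh.HH X G i) :=
  (EulerLES.equivA R e i).length_eq

theorem chi_congr {F G : X.Modules} (e : F ≅ G) : chi R F = chi R G := by
  unfold chi
  exact finsum_congr fun i => by rw [length_congr R e i]

theorem chi_eq_sum (F : X.Modules) (N : ℕ) (h : ∀ i, N ≤ i → Subsingleton (Coh.HH X F i)) :
    chi R F = ∑ i ∈ Finset.range N, (-1 : ℤ) ^ i * ((Module.length R (Coh.HH X F i)).toNat : ℤ) := by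
  refine finsum_eq_sum_of_support_subset _ fun i hi => ?_
  simp only [Finset.coe_range, Set.mem_Iio]
  by_contra hN
  have := h i (not_lt.mp hN)
  exact hi (by simp [Module.length_eq_zero])

variable {R}

theorem Good.congr {F G : X.Modules} (h : Good R F) (e : F ≅ G) : Good R G := by
  obtain ⟨h1, N, h2⟩ := h
  refine ⟨fun i => (EulerLES.equivA R e i).isFiniteLength (h1 i), N, fun i hi => ?_⟩
  have := h2 i hi
  exact (EulerLES.equivA R e i).symm.injective.subsingleton

/-- Good modules are stable under extensions. -/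
theorem Good.ext {S : ShortComplex X.Modules} (hS : S.ShortExact) (h1 : Good R S.X₁) (h3 : Good R S.X₃) :
    Good R S.X₂ := by
  obtain ⟨h1, N, h1'⟩ := h1
  obtain ⟨h3, M, h3'⟩ := h3
  refine ⟨fun i => Models.H47.EulerLen.isFiniteLength_of_exact _ _ (EulerLES.exactA₂ R S hS i) (h1 i) (h3 i),
    max N M, fun i hi => ?_⟩
  exact Models.H47.EulerLen.subsingleton_of_exact (R := R) _ _ (EulerLES.exactA₂ R S hS i)
      (h1' i (le_trans (le_max_left _ _) hi)) (h3' i (le_trans (le_max_right _ _) hi))

/-- Quotients of good modules by good modules are good. -/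
theorem Good.quot {S : ShortComplex X.Modules} (hS : S.ShortExact) (h1 : Good R S.X₁) (h2 : Good R S.X₂) :
    Good R S.X₃ := by
  obtain ⟨h1, N, h1'⟩ := h1
  obtain ⟨h2, M, h2'⟩ := h2
  refine ⟨fun i => Models.H47.EulerLen.isFiniteLength_of_exact _ _
      (EulerLES.exactA₃ R S hS i (i + 1) rfl) (h2 i) (h1 (i + 1)), max N M, fun i hi => ?_⟩
  exact Models.H47.EulerLen.subsingleton_of_exact (R := R) _ _ (EulerLES.exactA₃ R S hS i (i + 1) rfl)
      (h2' i (le_trans (le_max_right _ _) hi)) (h1' (i + 1) (by have := le_trans (le_max_left _ _) hi; omega))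

/-- Additivity of `chi`. -/
theorem chi_add {S : ShortComplex X.Modules} (hS : S.ShortExact) (h1 : Good R S.X₁) (h2 : Good R S.X₂)
    (h3 : Good R S.X₃) : chi R S.X₂ = chi R S.X₁ + chi R S.X₃ := by
  obtain ⟨h1, N₁, h1'⟩ := h1
  obtain ⟨h2, N₂, h2'⟩ := h2
  obtain ⟨h3, N₃, h3'⟩ := h3
  set N := max N₁ (max N₂ N₃) with hN
  have b1 : N₁ ≤ N := le_max_left _ _
  have b2 : N₂ ≤ N := le_trans (le_max_left _ _) (le_max_right _ _)
  have b3 : N₃ ≤ N := le_trans (le_max_right _ _) (le_max_right _ _)
  have h := Ega3B.EulerAlg.alternating_length (A := R) (fun n => Coh.HH X S.X₁ n) (fun n => Coh.HH X S.X₂ n)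
    (fun n => Coh.HH X S.X₃ n) (fun n => EulerLES.mapA R S.f n) (fun n => EulerLES.mapA R S.g n)
    (fun n => EulerLES.deltaA R S hS n (n + 1) rfl) (fun n => EulerLES.exactA₂ R S hS n)
    (fun n => EulerLES.exactA₃ R S hS n (n + 1) rfl) (fun n => EulerLES.exactA₁ R S hS n (n + 1) rfl)
    (EulerLES.injectiveA₀ R S hS) h1 h2 h3 N (h1' (N + 1) (by omega))
  rw [chi_eq_sum R S.X₂ (N + 1) fun i hi => h2' i (by omega), chi_eq_sum R S.X₁ (N + 1) fun i hi => h1' i (by omega),
    chi_eq_sum R S.X₃ (N + 1) fun i hi => h3' i (by omega)]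
  exact h

theorem subsingleton_of_isZero {F : X.Modules} (h : IsZero F) (i : ℕ) : Subsingleton (Coh.HH X F i) := by
  refine subsingleton_of_forall_eq 0 fun x => ?_
  have h1 : EulerLES.mapΓ (𝟙 F) i x = x := by rw [EulerLES.mapΓ_id]; rfl
  rw [← h1, h.eq_of_src (𝟙 F) 0, EulerLES.mapΓ_zero]
  rfl

theorem good_of_isZero {F : X.Modules} (h : IsZero F) : Good R F :=
  ⟨fun i => by have := subsingleton_of_isZero h i; exact IsFiniteLength.of_subsingleton,
    0, fun i _ => subsingleton_of_isZero h i⟩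

theorem chi_of_isZero {F : X.Modules} (h : IsZero F) : chi R F = 0 := by
  rw [chi_eq_sum R F 0 fun i _ => subsingleton_of_isZero h i]
  simp

section Push

variable (R)
variable {Z : Scheme.{u}} [Z.Over (Spec (CommRingCat.of R))] (f : Z ⟶ X)

theorem chi_push [IsAffineHom f] (hf : f ≫ (X ↘ Spec (CommRingCat.of R)) = Z ↘ Spec (CommRingCat.of R))
    (M : Z.Modules) (hM : Coh.IsQCoh M) :
    chi R ((Scheme.Modules.pushforward f).obj M) = chi R M := by
  unfold chi
  exact finsum_congr fun i => by rw [Models.H47.EulerVert.length_push R f hf M hM i]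

theorem good_push_iff [IsAffineHom f] (hf : f ≫ (X ↘ Spec (CommRingCat.of R)) = Z ↘ Spec (CommRingCat.of R))
    (M : Z.Modules) (hM : Coh.IsQCoh M) :
    Good R ((Scheme.Modules.pushforward f).obj M) ↔ Good R M := by
  have key : ∀ i, Nonempty (Coh.HH X ((Scheme.Modules.pushforward f).obj M) i ≃ₗ[R] Coh.HH Z M i) :=
    fun i => VarietyB.HHPush.exists_linearEquiv f R hf M hM i
  constructor
  · rintro ⟨h, N, hN⟩
    refine ⟨fun i => ?_, N, fun i hi => ?_⟩
    · obtain ⟨e⟩ := key i
      exact e.isFiniteLength (h i)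
    · obtain ⟨e⟩ := key i
      have := hN i hi
      exact e.symm.injective.subsingleton
  · rintro ⟨h, N, hN⟩
    refine ⟨fun i => ?_, N, fun i hi => ?_⟩
    · obtain ⟨e⟩ := key i
      exact e.symm.isFiniteLength (h i)
    · obtain ⟨e⟩ := key i
      have := hN i hi
      exact e.injective.subsingleton

end Push

section Field

variable {S : Type u} [Field S] (φ : R →+* S) {Z : Scheme.{u}}
variable [Z.Over (Spec (CommRingCat.of R))] [Z.Over (Spec (CommRingCat.of S))]

/-- `chi` over `R` of a coherent module on a scheme proper over a residue field. -/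
theorem chi_eq_euler (hφ : Function.Surjective φ)
    (h : (Z ↘ Spec (CommRingCat.of R)) = (Z ↘ Spec (CommRingCat.of S)) ≫ Spec.map (CommRingCat.ofHom φ))
    (M : Z.Modules) (hM : ∀ i, Module.Finite S (Coh.HH Z M i)) : chi R M = Curv2.euler S Z M := by
  unfold chi Curv2.euler
  refine finsum_congr fun i => ?_
  have := hM i
  rw [Models.H47.EulerVert.length_over φ hφ h M i, Module.length_eq_finrank]
  simp

theorem good_of_surjective (hφ : Function.Surjective φ)
    (h : (Z ↘ Spec (CommRingCat.of R)) = (Z ↘ Spec (CommRingCat.of S)) ≫ Spec.map (CommRingCat.ofHom φ))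
    (M : Z.Modules) (hM : ∀ i, Module.Finite S (Coh.HH Z M i))
    (hN : ∃ N : ℕ, ∀ i, N ≤ i → Subsingleton (Coh.HH Z M i)) : Good R M := by
  refine ⟨fun i => ?_, hN⟩
  have := hM i
  rw [← Module.length_ne_top_iff, Models.H47.EulerVert.length_over φ hφ h M i, Module.length_eq_finrank]
  exact ENat.natCast_ne_top _

end Field

end K435.ChiLen
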