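import Groth.Agent.Variety.K435.ChiLen
import Groth.Agent.Models3.H44.EulerInv

/-!
# Constancy of the Euler characteristic over a discrete valuation ring

`X` proper over a discrete valuation ring `R` with uniformiser `ϖ` and generic fibre `C`. If `F` is a coherent module on
which `ϖ` is injective then `Σ (-1)^i length_R H^i(X, F / ϖ F) = χ(C, F|_C)`.
-/

set_option autoImplicit false
universe u

open CategoryTheory CategoryTheory.Limits AlgebraicGeometry Opposite TopologicalSpace

namespace K435.DvrChi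

open Groth.Agent Groth.Agent.VarietyA Groth.Agent.Ega3B.HLes Groth.Agent.Fdesc.LocGen
open Groth.Agent.Dix.IdealModCartier Groth.Agent.Divis.EffCartier Groth.Agent.Models3.H44
open K435.ChiLen

/-- The telescoping sum. -/
theorem tele (t r : ℕ → ℤ) (N : ℕ) :
    ∑ i ∈ Finset.range N, (-1 : ℤ) ^ i * (t i + r i + t (i + 1)) =
      ∑ i ∈ Finset.range N, (-1 : ℤ) ^ i * r i + t 0 - (-1) ^ N * t N := by
  induction N with
  | zero => simp
  | succ N ih =>
    rw [Finset.sum_range_succ, ih, Finset.sum_range_succ]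
    ring

variable (R : Type u) [CommRing R] [IsDomain R] [IsDiscreteValuationRing R]
  {C X : Scheme.{u}} [X.Over (Spec (CommRingCat.of R))] [C.Over (Spec (CommRingCat.of (FractionRing R)))]
  [IsProper (X ↘ Spec (CommRingCat.of R))]

theorem length_red {ϖ : R} (hϖ : Irreducible ϖ) {F Q : X.Modules} (hF : Coh.IsCoh F)
    (m : F ⟶ F) (q : F ⟶ Q) (w : m ≫ q = 0) (hS : (ShortComplex.mk m q w).ShortExact)
    (hm : toAbMap m = Coh.smulAb F (Coh.toGlobal (X ↘ Spec (CommRingCat.of R)) ϖ)) (i : ℕ) :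
    Module.length R (Coh.HH X Q i) =
      ((MulSeq.tors R ϖ (Coh.HH X F i) + MulSeq.rk R (Coh.HH X F i) +
        MulSeq.tors R ϖ (Coh.HH X F (i + 1)) : ℕ) : ℕ∞) :=
  MulSeq.length_H_eq R hϖ (F := Coh.toAb F) (Q := Coh.toAb Q) (toAbMap m) (toAbMap q)
    (by rw [← toAbMap_comp, w, toAbMap_zero]) (shortExact_abShort hS)
    (fun a => Coh.smulAb F (Coh.toGlobal (X ↘ Spec (CommRingCat.of R)) a))
    (fun a => Coh.smulAb Q (Coh.toGlobal (X ↘ Spec (CommRingCat.of R)) a))
    (fun a => smulAb_comp m _) (fun a => smulAb_comp q _)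
    (m₁ := fun n => Coh.moduleOver R X F n) (m₃ := fun n => Coh.moduleOver R X Q n)
    (fun n a x => rfl) (fun n a x => rfl) hm (fun n => Groth.Agent.S0002.result R X F hF n) i

omit [IsDomain R] [IsDiscreteValuationRing R] [IsProper (X ↘ Spec (CommRingCat.of R))] in
theorem tors_zero {ϖ : R} {F Q : X.Modules}
    (m : F ⟶ F) (q : F ⟶ Q) (w : m ≫ q = 0) (hS : (ShortComplex.mk m q w).ShortExact)
    (hm : toAbMap m = Coh.smulAb F (Coh.toGlobal (X ↘ Spec (CommRingCat.of R)) ϖ)) :
    MulSeq.tors R ϖ (Coh.HH X F 0) = 0 :=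
  MulSeq.tors_zero R (F := Coh.toAb F) (Q := Coh.toAb Q) (toAbMap m) (toAbMap q)
    (by rw [← toAbMap_comp, w, toAbMap_zero]) (shortExact_abShort hS)
    (fun a => Coh.smulAb F (Coh.toGlobal (X ↘ Spec (CommRingCat.of R)) a))
    (m₁ := fun n => Coh.moduleOver R X F n) (fun n a x => rfl) hm

omit [IsDomain R] [IsDiscreteValuationRing R] in
theorem tors_of_subsingleton {ϖ : R} (M : Type u) [AddCommGroup M] [Module R M] [Subsingleton M] :
    MulSeq.tors R ϖ M = 0 := by
  have : Subsingleton (LinearMap.ker (LinearMap.lsmul R M ϖ)) := inferInstance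
  rw [MulSeq.tors, Module.length_eq_zero]
  rfl

theorem rk_of_subsingleton (M : Type u) [AddCommGroup M] [Module R M] [Subsingleton M] :
    MulSeq.rk R M = 0 := by
  have : Subsingleton (TensorProduct R (FractionRing R) M) := by
    refine subsingleton_of_forall_eq 0 fun x => ?_
    induction x using TensorProduct.induction_on with
    | zero => rfl
    | tmul a b => rw [Subsingleton.elim b 0, TensorProduct.tmul_zero]
    | add x y hx hy => rw [hx, hy, add_zero]
  rw [MulSeq.rk]
  exact Module.finrank_zero_of_subsingleton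

/-- Euler characteristic of the reduction: `χ_R(F/ϖF) = χ(C, F|_C)`, and `F/ϖF` is good. -/
theorem chi_red (g : C ⟶ X)
    (h : IsPullback g (C ↘ Spec (CommRingCat.of (FractionRing R))) (X ↘ Spec (CommRingCat.of R))
      (Spec.map (CommRingCat.ofHom (algebraMap R (FractionRing R)))))
    {ϖ : R} (hϖ : Irreducible ϖ) {F Q : X.Modules} (hF : Coh.IsCoh F)
    (m : F ⟶ F) (q : F ⟶ Q) (w : m ≫ q = 0) (hS : (ShortComplex.mk m q w).ShortExact)
    (hm : toAbMap m = Coh.smulAb F (Coh.toGlobal (X ↘ Spec (CommRingCat.of R)) ϖ)) :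
    Good R Q ∧ chi R Q = Curv2.euler (FractionRing R) C ((Scheme.Modules.pullback g).obj F) := by
  have h1 : CompactSpace X := QuasiCompact.compactSpace_of_compactSpace (X ↘ Spec (CommRingCat.of R))
  have h2 : QuasiSeparatedSpace X := quasiSeparatedSpace_of_quasiSeparated (X ↘ Spec (CommRingCat.of R))
  obtain ⟨N, hN⟩ := Groth.Agent.S0016.result X
  have hFN : ∀ i, N ≤ i → Subsingleton (Coh.HH X F i) := hN F hF.1
  have hlen := length_red R hϖ hF m q w hS hm
  have hQN : ∀ i, N ≤ i → Subsingleton (Coh.HH X Q i) := by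
    intro i hi
    have := hFN i hi
    have := hFN (i + 1) (by omega)
    rw [← Module.length_eq_zero_iff (R := R), hlen i, tors_of_subsingleton, tors_of_subsingleton, rk_of_subsingleton]
    rfl
  have hFq : Coh.IsQCoh F := hF.1
  have hrk : ∀ i, MulSeq.rk R (Coh.HH X F i) =
      Module.finrank (FractionRing R) (Coh.HH C ((Scheme.Modules.pullback g).obj F) i) := by
    intro i
    obtain ⟨e⟩ := Groth.Agent.S0034.result R (FractionRing R) X C g h F i
    exact e.finrank_eq
  refine ⟨⟨fun i => ?_, N, hQN⟩, ?_⟩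
  · rw [← Module.length_ne_top_iff, hlen i]
    exact ENat.natCast_ne_top _
  · rw [chi_eq_sum R Q N hQN]
    have hs : ∀ i ∈ Finset.range N, (-1 : ℤ) ^ i * ((Module.length R (Coh.HH X Q i)).toNat : ℤ) =
        (-1 : ℤ) ^ i * ((fun i => (MulSeq.tors R ϖ (Coh.HH X F i) : ℤ)) i +
          (fun i => (MulSeq.rk R (Coh.HH X F i) : ℤ)) i + (fun i => (MulSeq.tors R ϖ (Coh.HH X F i) : ℤ)) (i + 1)) := by
      intro i _
      rw [hlen i, ENat.toNat_natCast]
      push_cast
      rfl
    rw [Finset.sum_congr rfl hs, tele]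
    have hN' := hFN N le_rfl
    have hz : MulSeq.tors R ϖ (Coh.HH X F N) = 0 := tors_of_subsingleton R _
    rw [tors_zero R m q w hS hm, hz]
    simp only [Nat.cast_zero, mul_zero, sub_zero, add_zero]
    rw [Curv2.euler]
    symm
    have hfs := finsum_eq_sum_of_support_subset (s := Finset.range N)
      (fun i : ℕ => (-1 : ℤ) ^ i *
        (Module.finrank (FractionRing R) (Coh.HH C ((Scheme.Modules.pullback g).obj F) i) : ℤ)) (fun i hi => by
      simp only [Finset.coe_range, Set.mem_Iio]
      by_contra hN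
      have := hFN i (not_lt.mp hN)
      refine hi ?_
      change (-1 : ℤ) ^ i * _ = 0
      rw [← hrk i, rk_of_subsingleton]
      simp)
    refine hfs.trans ?_
    exact Finset.sum_congr rfl fun i _ => by rw [← hrk i]

omit [X.Over (Spec (CommRingCat.of R))] [IsProper (X ↘ Spec (CommRingCat.of R))] in
/-- Constancy of the Euler characteristic of the structure sheaf of a flat proper scheme over a discrete valuation ring. -/
theorem chi_specialFibre (p : X ⟶ Spec (CommRingCat.of R)) [IsProper p] [Flat p] (g : C ⟶ X)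
    (h : IsPullback g (C ↘ Spec (CommRingCat.of (FractionRing R))) p
      (Spec.map (CommRingCat.ofHom (algebraMap R (FractionRing R))))) :
    @Good R _ X ⟨p⟩ (ClSub.quotMod (Models.specialFibreIdeal R (Over.mk p))) ∧
    @chi R _ X ⟨p⟩ (ClSub.quotMod (Models.specialFibreIdeal R (Over.mk p))) =
      Curv2.euler (FractionRing R) C (Coh.structureModule C) := by
  let _ : X.Over (Spec (CommRingCat.of R)) := ⟨p⟩
  have hp : IsProper (X ↘ Spec (CommRingCat.of R)) := inferInstanceAs (IsProper p)
  obtain ⟨ϖ, hϖ⟩ := IsDiscreteValuationRing.exists_irreducible R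
  obtain ⟨w, hS⟩ := EulerInv.exists_shortExact (EulerInv.genOn_specialFibreIdeal p hϖ)
  obtain ⟨h1, h2⟩ := chi_red R g h hϖ (CurvesB.UnitCoh.isCoh_structureModule X) _ _ w hS
    (EulerInv.toAbMap_mulHom _)
  exact ⟨h1, h2.trans (EulerAdd.euler_congr _ (CurvesA.HHMap.pullbackUnit g))⟩

end K435.DvrChi
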