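import Groth.Agent.S5035
import Mathlib.RingTheory.EssentialFiniteness
import Mathlib.RingTheory.ZariskisMainTheorem

/-!
# Essentially finite type local algebras over a henselian local ring with finite closed fibre are finite
-/

set_option autoImplicit false
universe u

open IsLocalRing

namespace K435.HensFin

/-- A local algebra, essentially of finite type over a henselian local ring, with finite closed fibre, is finite. -/
theorem finite_of_essFiniteType (R B : Type u) [CommRing R] [HenselianLocalRing R] [CommRing B] [IsLocalRing B]
    [Algebra R B] [Algebra.EssFiniteType R B] [IsLocalHom (algebraMap R B)]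
    (h : Module.Finite R (B ⧸ (maximalIdeal R).map (algebraMap R B))) : Module.Finite R B := by
  let S := Algebra.EssFiniteType.subalgebra R B
  let M := Algebra.EssFiniteType.submonoid R B
  have hloc : IsLocalization M B := Algebra.EssFiniteType.isLocalization R B
  let q : Ideal S := (maximalIdeal B).comap (algebraMap S B)
  have hq : q.IsPrime := Ideal.comap_isPrime _ _
  have hM : M = q.primeCompl := by
    ext x
    change IsUnit (algebraMap S B x) ↔ ¬ (algebraMap S B x ∈ maximalIdeal B)
    rw [IsLocalRing.mem_maximalIdeal, mem_nonunits_iff, not_not]
  have hat : IsLocalization.AtPrime B q := by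
    change IsLocalization q.primeCompl B
    rw [← hM]
    exact hloc
  have hover : q.LiesOver (maximalIdeal R) := by
    constructor
    change maximalIdeal R = (q.comap (algebraMap R S))
    rw [Ideal.comap_comap]
    change maximalIdeal R = (maximalIdeal B).comap (algebraMap R B)
    have h04 : IsLocalHom (algebraMap R B) ↔ (maximalIdeal B).comap (algebraMap R B) = maximalIdeal R :=
      (IsLocalRing.local_hom_TFAE (algebraMap R B)).out 0 4
    exact (h04.1 inferInstance).symm
  let e : Localization.AtPrime q ≃ₐ[S] B := IsLocalization.algEquiv q.primeCompl (Localization.AtPrime q) B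
  let e' : Localization.AtPrime q ≃ₐ[R] B := e.restrictScalars R
  have hweak : Algebra.WeaklyQuasiFiniteAt R q := by
    rw [Algebra.weaklyQuasiFiniteAt_iff]
    have hunder : q.under R = maximalIdeal R := hover.over.symm
    rw [hunder]
    let I : Ideal (Localization.AtPrime q) := (maximalIdeal R).map (algebraMap R (Localization.AtPrime q))
    let J : Ideal B := (maximalIdeal R).map (algebraMap R B)
    have hIJ : J = I.map (e' : Localization.AtPrime q →+* B) := by
      change (maximalIdeal R).map (algebraMap R B) = _
      rw [Ideal.map_map]
      congr 1
      ext r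
      exact (e'.commutes r).symm
    have e2 : (Localization.AtPrime q ⧸ I) ≃ₐ[R] (B ⧸ J) := Ideal.quotientEquivAlg I J e' hIJ
    have hf : Module.Finite R (Localization.AtPrime q ⧸ I) := Module.Finite.equiv e2.symm.toLinearEquiv
    change Algebra.QuasiFinite R (Localization.AtPrime q ⧸ I)
    infer_instance
  have hqf : Algebra.QuasiFiniteAt R q := Algebra.QuasiFiniteAt.of_weaklyQuasiFiniteAt q
  have := (Groth.Agent.S5035.result R).1 inferInstance S q hover hqf
  exact Module.Finite.equiv e'.toLinearEquiv

end K435.HensFin
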