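import Groth.Agent.Variety.K435.HilbCyc

/-!
# The admissible set of quasi-polynomials
-/

set_option autoImplicit false
set_option linter.unusedSectionVars false
set_option linter.style.haveILetI false

open Filter Polynomial

namespace K435.HilbP

open K435.Hilb K435.Cyc

/-- `ℤ̄[1/q] ⊂ ℂ` -/
def RR (q : ℕ) : Subring ℂ where
  carrier := {x | ∃ N : ℕ, IsIntegral ℤ ((q : ℂ) ^ N * x)}
  mul_mem' := by
    rintro x y ⟨N, hN⟩ ⟨M, hM⟩
    refine ⟨N + M, ?_⟩
    have : (q : ℂ) ^ (N + M) * (x * y) = ((q : ℂ) ^ N * x) * ((q : ℂ) ^ M * y) := by ring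
    rw [this]
    exact hN.mul hM
  one_mem' := ⟨0, by simpa using isIntegral_one⟩
  add_mem' := by
    rintro x y ⟨N, hN⟩ ⟨M, hM⟩
    refine ⟨N + M, ?_⟩
    have : (q : ℂ) ^ (N + M) * (x + y) =
        (q : ℂ) ^ M * ((q : ℂ) ^ N * x) + (q : ℂ) ^ N * ((q : ℂ) ^ M * y) := by ring
    rw [this]
    have hq : IsIntegral ℤ (q : ℂ) := by
      have := isIntegral_algebraMap (R := ℤ) (A := ℂ) (x := (q : ℤ))
      simpa using this
    exact ((hq.pow M).mul hN).add ((hq.pow N).mul hM)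
  zero_mem' := ⟨0, by simpa using isIntegral_zero⟩
  neg_mem' := by
    rintro x ⟨N, hN⟩
    exact ⟨N, by rw [mul_neg]; exact hN.neg⟩

lemma mem_RR {q : ℕ} {x : ℂ} : x ∈ RR q ↔ ∃ N : ℕ, IsIntegral ℤ ((q : ℂ) ^ N * x) := Iff.rfl

lemma mem_RR_of_isIntegral (q : ℕ) {x : ℂ} (h : IsIntegral ℤ x) : x ∈ RR q :=
  ⟨0, by simpa using h⟩

lemma inv_mem_RR {q : ℕ} (hq : q ≠ 0) : (q : ℂ)⁻¹ ∈ RR q := by
  refine ⟨1, ?_⟩
  rw [pow_one, mul_inv_cancel₀ (by exact_mod_cast hq)]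
  exact isIntegral_one

section char

variable {q : ℕ} [Fact q.Prime] (ψ : AddChar (ZMod q) ℂ)

lemma char_pow (a : ZMod q) : ψ a ^ q = 1 := by
  rw [← AddChar.map_nsmul_eq_pow, nsmul_eq_mul, CharP.cast_eq_zero, zero_mul,
    AddChar.map_zero_eq_one]

lemma char_mem (a : ZMod q) : ψ a ∈ RR q := by
  apply mem_RR_of_isIntegral
  refine IsIntegral.of_pow (Nat.Prime.pos Fact.out) (n := q) ?_
  rw [char_pow]
  exact isIntegral_one

lemma inv_one_sub_mem {η : ℂ} (h1 : η ≠ 1) (hq : η ^ q = 1) : (1 - η)⁻¹ ∈ RR q := by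
  have hη : η ∈ RR q := by
    apply mem_RR_of_isIntegral
    refine IsIntegral.of_pow (Nat.Prime.pos Fact.out) (n := q) ?_
    rw [hq]
    exact isIntegral_one
  set u : ℂ := ∑ j ∈ Finset.range q, ∑ i ∈ Finset.range j, η ^ i with hu
  have humem : u ∈ RR q := Subring.sum_mem _ fun j _ => Subring.sum_mem _ fun i _ =>
    Subring.pow_mem _ hη _
  have hne : (1 - η) ≠ 0 := sub_ne_zero.2 (Ne.symm h1)
  have hsum : ∑ j ∈ Finset.range q, η ^ j = 0 := by
    have := geom_sum_mul η q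
    rw [hq, sub_self] at this
    exact (mul_eq_zero.1 this).resolve_right (sub_ne_zero.2 h1)
  have key : (1 - η) * u = q := by
    rw [hu, Finset.mul_sum]
    have : ∀ j ∈ Finset.range q, (1 - η) * ∑ i ∈ Finset.range j, η ^ i = 1 - η ^ j := by
      intro j _
      have := geom_sum_mul η j
      linear_combination -this
    rw [Finset.sum_congr rfl this, Finset.sum_sub_distrib, hsum]
    simp
  have hq0 : (q : ℂ) ≠ 0 := by exact_mod_cast (Nat.Prime.ne_zero (Fact.out : q.Prime))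
  have : (1 - η)⁻¹ = (q : ℂ)⁻¹ * u := by
    field_simp
    rw [key]
  rw [this]
  exact Subring.mul_mem _ (inv_mem_RR (Nat.Prime.ne_zero Fact.out)) humem

lemma inv_sub_mem (hψ : ψ ≠ 1) {a b : ZMod q} (hab : a ≠ b) :
    (ψ a - ψ b)⁻¹ ∈ RR q ∧ ψ a - ψ b ≠ 0 := by
  have hη : ψ (b - a) ≠ 1 := by
    have hp : ψ.IsPrimitive := AddChar.IsPrimitive.of_ne_one hψ
    rw [Ne, hp.zmod_char_eq_one_iff]
    exact sub_ne_zero.2 (Ne.symm hab)
  have h1 : ψ a - ψ b = ψ a * (1 - ψ (b - a)) := by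
    rw [mul_sub, mul_one, ← AddChar.map_add_eq_mul, add_sub_cancel]
  have ha : ψ a ≠ 0 := by
    intro h
    have := char_pow ψ a
    rw [h, zero_pow (Nat.Prime.ne_zero Fact.out)] at this
    exact zero_ne_one this
  have hai : (ψ a)⁻¹ = ψ (-a) := by
    refine inv_eq_of_mul_eq_one_right ?_
    rw [← AddChar.map_add_eq_mul, add_neg_cancel, AddChar.map_zero_eq_one]
  refine ⟨?_, ?_⟩
  · rw [h1, mul_inv, hai]
    exact Subring.mul_mem _ (char_mem ψ _) (inv_one_sub_mem hη (char_pow ψ _))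
  · rw [h1]
    exact mul_ne_zero ha (sub_ne_zero.2 (Ne.symm hη))

end char

lemma dvd_of_mem {q L : ℕ} {z : ℤ} {y : ℂ} (hy : y ∈ RR q) (h : (z : ℂ) = L * y)
    (hc : Nat.Coprime L q) : (L : ℤ) ∣ z := by
  rcases Nat.eq_zero_or_pos L with rfl | hL
  · have : (z : ℂ) = 0 := by rw [h]; simp
    have : z = 0 := by exact_mod_cast this
    rw [this]; exact dvd_zero _
  obtain ⟨N, hN⟩ := hy
  have hL0 : (L : ℂ) ≠ 0 := by exact_mod_cast hL.ne'
  have e1 : (q : ℂ) ^ N * y = algebraMap ℚ ℂ ((q : ℚ) ^ N * z / L) := by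
    rw [map_div₀, map_mul, map_pow]
    simp only [map_natCast, map_intCast]
    rw [h]; field_simp
  rw [e1, isIntegral_algebraMap_iff (algebraMap ℚ ℂ).injective] at hN
  obtain ⟨w, hw⟩ := IsIntegrallyClosed.isIntegral_iff.1 hN
  have e2 : (q : ℤ) ^ N * z = L * w := by
    have hLq : (L : ℚ) ≠ 0 := by exact_mod_cast hL.ne'
    rw [eq_div_iff hLq] at hw
    have : ((q : ℚ)) ^ N * z = L * w := by
      rw [← hw]
      simp [mul_comm]
    exact_mod_cast this
  have h3 : (L : ℤ) ∣ (q : ℤ) ^ N * z := ⟨w, e2⟩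
  have hcop : IsCoprime (L : ℤ) ((q : ℤ) ^ N) := by
    have : IsCoprime (L : ℤ) (q : ℤ) := Nat.isCoprime_iff_coprime.2 hc
    exact this.pow_right
  exact hcop.dvd_of_dvd_mul_left h3

/-- the set of polynomials -/
def MM (q : ℕ) (PC : ℂ[X]) (i : ℕ) (c₀ : ℂ) (L : ℕ) : Set ℂ[X] :=
  {P | ∃ c ∈ RR q, (P - C c * PC).degree < (i : WithBot ℕ) ∧
    ∀ e : ℤ, ∃ y ∈ RR q, P.eval (e : ℂ) - c * c₀ = L * y}

section MM

lemma degree_C_mul_le' (r : ℂ) (P : ℂ[X]) : (C r * P).degree ≤ P.degree := by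
  by_cases hr : r = 0
  · rw [hr, C_0, zero_mul, degree_zero]; exact bot_le
  · rw [degree_C_mul hr]

variable {q : ℕ} {PC : ℂ[X]} {i : ℕ} {c₀ : ℂ} {L : ℕ}

lemma MM_zero : (0 : ℂ[X]) ∈ MM q PC i c₀ L :=
  ⟨0, Subring.zero_mem _, by simp [WithBot.bot_lt_coe], fun e => ⟨0, Subring.zero_mem _, by simp⟩⟩

lemma MM_add {P Q : ℂ[X]} (hP : P ∈ MM q PC i c₀ L) (hQ : Q ∈ MM q PC i c₀ L) :
    P + Q ∈ MM q PC i c₀ L := by
  obtain ⟨c, hc, hd, he⟩ := hP
  obtain ⟨c', hc', hd', he'⟩ := hQ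
  refine ⟨c + c', Subring.add_mem _ hc hc', ?_, fun e => ?_⟩
  · have : P + Q - C (c + c') * PC = (P - C c * PC) + (Q - C c' * PC) := by
      rw [C_add]; ring
    rw [this]
    exact lt_of_le_of_lt (degree_add_le _ _) (max_lt hd hd')
  · obtain ⟨y, hy, h⟩ := he e
    obtain ⟨y', hy', h'⟩ := he' e
    refine ⟨y + y', Subring.add_mem _ hy hy', ?_⟩
    rw [eval_add]
    linear_combination h + h'

lemma MM_mul {r : ℂ} (hr : r ∈ RR q) {P : ℂ[X]} (hP : P ∈ MM q PC i c₀ L) :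
    C r * P ∈ MM q PC i c₀ L := by
  obtain ⟨c, hc, hd, he⟩ := hP
  refine ⟨r * c, Subring.mul_mem _ hr hc, ?_, fun e => ?_⟩
  · have : C r * P - C (r * c) * PC = C r * (P - C c * PC) := by
      rw [C_mul]; ring
    rw [this]
    exact lt_of_le_of_lt (degree_C_mul_le' _ _) hd
  · obtain ⟨y, hy, h⟩ := he e
    refine ⟨r * y, Subring.mul_mem _ hr hy, ?_⟩
    rw [eval_mul, eval_C]
    linear_combination r * h

lemma MM_comp (hPC : PC.degree ≤ (i : WithBot ℕ)) (s : ℤ) {P : ℂ[X]} (hP : P ∈ MM q PC i c₀ L) :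
    P.comp (X + C (s : ℂ)) ∈ MM q PC i c₀ L := by
  obtain ⟨c, hc, hd, he⟩ := hP
  refine ⟨c, hc, ?_, fun e => ?_⟩
  · have hPd : P.degree ≤ (i : WithBot ℕ) := by
      have : P = (P - C c * PC) + C c * PC := by ring
      rw [this]
      exact (degree_add_le _ _).trans (max_le hd.le ((degree_C_mul_le' _ _).trans hPC))
    have e1 : P.comp (X + C (s : ℂ)) - C c * PC = (taylor (s : ℂ) P - P) + (P - C c * PC) := by
      rw [taylor_apply]; ring
    rw [e1]
    refine lt_of_le_of_lt (degree_add_le _ _) (max_lt ?_ hd)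
    by_cases hP0 : P = 0
    · rw [hP0]; simp [WithBot.bot_lt_coe]
    have hd2 : (taylor (s : ℂ) P).degree = P.degree := degree_taylor _ _
    have h0 : taylor (s : ℂ) P ≠ 0 := by
      intro h0
      rw [h0, degree_zero] at hd2
      exact hP0 (degree_eq_bot.1 hd2.symm)
    have := degree_sub_lt_left hd2 h0 (leadingCoeff_taylor _ _)
    exact lt_of_lt_of_le this (hd2.le.trans hPd)
  · obtain ⟨y, hy, h⟩ := he (e + s)
    refine ⟨y, hy, ?_⟩
    rw [eval_comp, eval_add, eval_X, eval_C]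
    push_cast at h
    exact h

lemma MM_sum {ι : Type*} (S : Finset ι) (P : ι → ℂ[X]) (h : ∀ a ∈ S, P a ∈ MM q PC i c₀ L) :
    ∑ a ∈ S, P a ∈ MM q PC i c₀ L := by
  classical
  induction S using Finset.induction_on with
  | empty => simpa using MM_zero
  | insert a S ha ih =>
    rw [Finset.sum_insert ha]
    exact MM_add (h _ (Finset.mem_insert_self _ _)) (ih fun b hb => h b (Finset.mem_insert_of_mem hb))

variable [Fact q.Prime]

/-- the set of quasi-polynomials -/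
def MQ (ψ : AddChar (ZMod q) ℂ) (PC : ℂ[X]) (i : ℕ) (c₀ : ℂ) (L : ℕ) (g : ℕ → ℂ) : Prop :=
  ∃ P : ZMod q → ℂ[X], (∀ a, P a ∈ MM q PC i c₀ L) ∧
    ∀ᶠ N : ℕ in atTop, g N = ∑ a, ψ (N • a) * (P a).eval (N : ℂ)

lemma adm (ψ : AddChar (ZMod q) ℂ) (hψ : ψ ≠ 1) (hPC : PC.degree ≤ (i : WithBot ℕ)) :
    Adm ψ (MQ ψ PC i c₀ L) where
  add := by
    rintro f g ⟨P, hP, hf⟩ ⟨Q, hQ, hg⟩
    refine ⟨fun a => P a + Q a, fun a => MM_add (hP a) (hQ a), ?_⟩
    filter_upwards [hf, hg] with N h1 h2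
    rw [h1, h2, ← Finset.sum_add_distrib]
    refine Finset.sum_congr rfl fun a _ => ?_
    rw [eval_add]; ring
  mul := by
    rintro f b ⟨P, hP, hf⟩
    refine ⟨fun a => C (ψ b) * P a, fun a => MM_mul (char_mem ψ b) (hP a), ?_⟩
    filter_upwards [hf] with N h1
    rw [h1, Finset.mul_sum]
    refine Finset.sum_congr rfl fun a _ => ?_
    rw [eval_mul, eval_C]; ring
  neg := by
    rintro f ⟨P, hP, hf⟩
    refine ⟨fun a => C (-1) * P a, fun a => MM_mul (Subring.neg_mem _ (Subring.one_mem _)) (hP a), ?_⟩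
    filter_upwards [hf] with N h1
    rw [h1, ← Finset.sum_neg_distrib]
    refine Finset.sum_congr rfl fun a _ => ?_
    rw [eval_mul, eval_C]; ring
  div := by
    rintro f a₁ a₂ ha ⟨P, hP, hf⟩
    obtain ⟨hinv, hne⟩ := inv_sub_mem ψ hψ ha
    refine ⟨fun a => C ((ψ a₁ - ψ a₂)⁻¹) * P a, fun a => MM_mul hinv (hP a), ?_⟩
    filter_upwards [hf] with N h1
    have : f N = (ψ a₁ - ψ a₂)⁻¹ * ((ψ a₁ - ψ a₂) * f N) := by
      rw [← mul_assoc, inv_mul_cancel₀ hne, one_mul]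
    rw [this, h1, Finset.mul_sum]
    refine Finset.sum_congr rfl fun a _ => ?_
    rw [eval_mul, eval_C]; ring
  shift := by
    intro f
    constructor
    · rintro ⟨P, hP, hf⟩
      refine ⟨fun a => C (ψ (-a)) * (P a).comp (X + C ((-1 : ℤ) : ℂ)),
        fun a => MM_mul (char_mem ψ _) (MM_comp hPC _ (hP a)), ?_⟩
      obtain ⟨N₀, hN₀⟩ := eventually_atTop.1 hf
      refine eventually_atTop.2 ⟨N₀ + 1, fun N hN => ?_⟩
      obtain ⟨j, rfl⟩ := Nat.exists_eq_add_of_le hN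
      have h1 := hN₀ (N₀ + j) (Nat.le_add_right _ _)
      rw [show N₀ + 1 + j = N₀ + j + 1 by omega]
      refine h1.trans ?_
      refine Finset.sum_congr rfl fun a _ => ?_
      rw [eval_mul, eval_C, eval_comp, eval_add, eval_X, eval_C, ← mul_assoc,
        ← AddChar.map_add_eq_mul, succ_nsmul a (N₀ + j), add_neg_cancel_right]
      congr 2
      push_cast; ring
    · rintro ⟨P, hP, hf⟩
      refine ⟨fun a => C (ψ a) * (P a).comp (X + C ((1 : ℤ) : ℂ)),
        fun a => MM_mul (char_mem ψ _) (MM_comp hPC _ (hP a)), ?_⟩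
      filter_upwards [(tendsto_add_atTop_nat 1).eventually hf] with N h1
      refine h1.trans ?_
      refine Finset.sum_congr rfl fun a _ => ?_
      rw [eval_mul, eval_C, eval_comp, eval_add, eval_X, eval_C, ← mul_assoc,
        ← AddChar.map_add_eq_mul, add_smul, one_smul]
      congr 2
      push_cast; ring

end MM

end K435.HilbP
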