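import Groth.Agent.Variety.K435.HilbCyc

/-!
# The bigraded polynomial ring `k[X (s,a)]`, `(s,a) ∈ n × ZMod q`, weight `(1,a)`

`base` : the base case of the Noetherian induction of `HilbCyc`.
-/

set_option autoImplicit false
set_option linter.unusedSectionVars false
set_option linter.style.haveILetI false

open DirectSum MvPolynomial Finsupp

namespace K435.Cyc

open K435.Hilb

section general

variable {k B M τ : Type*} [Field k] [CommRing B] [Algebra k B] [AddCommMonoid M]

lemma aeval_mem (𝒬 : M → Submodule k B) [SetLike.GradedMonoid 𝒬] (f : τ → B) (w : τ → M)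
    (hf : ∀ i, f i ∈ 𝒬 (w i)) {m : M} {G : MvPolynomial τ k}
    (hG : G ∈ weightedHomogeneousSubmodule k w m) : aeval f G ∈ 𝒬 m := by
  rw [G.as_sum, map_sum]
  refine Submodule.sum_mem _ fun d hd => ?_
  rw [aeval_monomial, ← Algebra.smul_def]
  refine Submodule.smul_mem _ _ ?_
  have h : weight w d = m := hG (MvPolynomial.mem_support_iff.1 hd)
  rw [← h, weight_apply]
  exact SetLike.prod_pow_mem_graded 𝒬 _ _ _ fun i _ => hf i

/-- compatibility of a map of graded rings with decompositions -/
lemma decompose_map {A B ι κ : Type*} [CommRing A] [CommRing B] [Algebra k A] [Algebra k B]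
    [DecidableEq ι] [DecidableEq κ] [AddCommMonoid ι] [AddCommMonoid κ]
    (𝒜 : ι → Submodule k A) (ℬ : κ → Submodule k B) [GradedAlgebra 𝒜] [GradedAlgebra ℬ]
    (ρ : A →ₐ[k] B) (g : ι → κ) (hg : Function.Injective g) (hρ : ∀ i, ∀ a ∈ 𝒜 i, ρ a ∈ ℬ (g i))
    (F : A) (i : ι) : (decompose ℬ (ρ F) (g i) : B) = ρ (decompose 𝒜 F i : A) := by
  induction F using DirectSum.Decomposition.inductionOn 𝒜 with
  | zero => simp
  | @homogeneous j m =>
    have h1 := hρ j m m.2
    by_cases hij : j = i
    · subst hij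
      rw [decompose_of_mem_same _ h1, decompose_of_mem_same _ m.2]
    · rw [decompose_of_mem_ne _ h1 (fun h => hij (hg h)), decompose_of_mem_ne _ m.2 hij, map_zero]
  | add m m' h h' => simp [decompose_add, h, h']

end general

section

variable (k : Type*) [Field k] (n : Type*) [Finite n] (q : ℕ) [NeZero q]

/-- the weights -/
def wt : n × ZMod q → ℕ × ZMod q := fun p => (1, p.2)

/-- the grading by `ℕ × ZMod q` -/
abbrev TT : ℕ × ZMod q → Submodule k (MvPolynomial (n × ZMod q) k) :=
  weightedHomogeneousSubmodule k (wt n q)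

noncomputable instance : GradedAlgebra (TT k n q) := weightedGradedAlgebra k (wt n q)

lemma weight_fst (d : n × ZMod q →₀ ℕ) : (weight (wt n q) d).1 = d.degree := by
  rw [Finsupp.degree_eq_weight_one, weight_apply, weight_apply]
  simp only [Finsupp.sum, Prod.fst_sum]
  rfl

instance finDimTT (i : ℕ × ZMod q) : FiniteDimensional k (TT k n q i) := by
  haveI : Finite (n × ZMod q) := Finite.instProd
  unfold TT
  rw [weightedHomogeneousSubmodule_eq_finsupp_supported]
  have hfin : {d : n × ZMod q →₀ ℕ | weight (wt n q) d = i}.Finite := by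
    refine (Finsupp.finite_of_degree_eq (σ := n × ZMod q) i.1).subset fun d hd => ?_
    have h := weight_fst n q d
    have hd' : weight (wt n q) d = i := hd
    rw [hd'] at h
    exact h.symm
  have := hfin.to_subtype
  exact Module.Finite.of_basis (basisRestrictSupport k {d | weight (wt n q) d = i})

instance finDimS (i : ℕ) : FiniteDimensional k (homogeneousSubmodule n k i) := by
  have h := weightedHomogeneousSubmodule_fg (R := k) (σ := n) (fun _ => 1) (fun _ => one_ne_zero) i
  exact Module.Finite.iff_fg.2 h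

variable {k n q}

lemma isHomogeneous_of_mem {i : ℕ × ZMod q} {F : MvPolynomial (n × ZMod q) k}
    (hF : F ∈ TT k n q i) : F.IsHomogeneous i.1 := by
  intro d hd
  have h : weight (wt n q) d = i := hF hd
  have := weight_fst n q d
  rw [h] at this
  rw [this, Finsupp.degree_eq_weight_one]
  rfl

/-- `x_s ↦ X (s,a)` -/
noncomputable def rho (a : ZMod q) : MvPolynomial n k →ₐ[k] MvPolynomial (n × ZMod q) k :=
  aeval fun s => X (s, a)

/-- `X (s,b) ↦ x_s` if `b = a`, `0` otherwise -/
noncomputable def pr (a : ZMod q) : MvPolynomial (n × ZMod q) k →ₐ[k] MvPolynomial n k :=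
  aeval fun p => if p.2 = a then X p.1 else 0

/-- `x_s ↦ ∑ a, X (s,a)` -/
noncomputable def phi0 : MvPolynomial n k →ₐ[k] MvPolynomial (n × ZMod q) k :=
  aeval fun s => ∑ a, X (s, a)

lemma X_mem (s : n) (a : ZMod q) : (X (s, a) : MvPolynomial (n × ZMod q) k) ∈ TT k n q (1, a) :=
  isWeightedHomogeneous_X _ _ _

lemma rho_mem (a : ZMod q) {N : ℕ} {F : MvPolynomial n k} (hF : F ∈ homogeneousSubmodule n k N) :
    rho (q := q) a F ∈ TT k n q (N, N • a) := by
  let 𝒬 : ℕ → Submodule k (MvPolynomial (n × ZMod q) k) := fun N => TT k n q (N, N • a)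
  haveI : SetLike.GradedMonoid 𝒬 :=
    { one_mem := by
        change (1 : MvPolynomial (n × ZMod q) k) ∈ TT k n q (0, 0 • a)
        rw [zero_smul]
        exact isWeightedHomogeneous_one k _
      mul_mem := fun i j a' b' (ha : a' ∈ TT k n q (i, i • a)) (hb : b' ∈ TT k n q (j, j • a)) => by
        change a' * b' ∈ TT k n q (i + j, (i + j) • a)
        rw [add_smul]
        exact SetLike.GradedMul.mul_mem ha hb }
  exact aeval_mem 𝒬 (fun s => X (s, a)) (1 : n → ℕ) (fun s => by
    change (X (s, a) : MvPolynomial (n × ZMod q) k) ∈ TT k n q (1, 1 • a)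
    rw [one_smul]; exact X_mem s a) hF

lemma pr_mem (a : ZMod q) {i : ℕ × ZMod q} {F : MvPolynomial (n × ZMod q) k} (hF : F ∈ TT k n q i) :
    pr a F ∈ homogeneousSubmodule n k i.1 := by
  have h := (isHomogeneous_of_mem hF).aeval (τ := n) (S := k) (n := 1)
    (fun p : n × ZMod q => if p.2 = a then (X p.1 : MvPolynomial n k) else 0) (fun p => by
      split_ifs
      · exact isHomogeneous_X k _
      · exact isHomogeneous_zero _ _ _)
  rw [one_mul] at h
  exact h

attribute [local instance] MvPolynomial.gradedAlgebra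

variable (ψ : AddChar (ZMod q) ℂ)

theorem base {I : Ideal (MvPolynomial (n × ZMod q) k)} (hI : I.IsHomogeneous (TT k n q))
    (a : ZMod q) (hX : ∀ b, b ≠ a → ∀ s, (X (s, b) : MvPolynomial (n × ZMod q) k) ∈ I)
    {𝔭 : Ideal (MvPolynomial n k)} (h𝔭 : ∀ F ∈ 𝔭, phi0 (q := q) F ∈ I) :
    ∃ 𝔟 : Ideal (MvPolynomial n k), 𝔟.IsHomogeneous (homogeneousSubmodule n k) ∧ 𝔭 ≤ 𝔟 ∧
      ∀ N, cf ψ (TT k n q) I N = ψ (N • a) * (H (homogeneousSubmodule n k) 𝔟 N : ℂ) := by
  set mk : MvPolynomial (n × ZMod q) k →ₐ[k] _ := Ideal.Quotient.mkₐ k I with hmk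
  have hmk0 : ∀ F, mk F = 0 ↔ F ∈ I := fun F => Ideal.Quotient.eq_zero_iff_mem
  have e1 : (mk.comp (rho a)).comp (pr a) = mk := by
    refine MvPolynomial.algHom_ext fun p => ?_
    obtain ⟨s, b⟩ := p
    simp only [AlgHom.comp_apply, pr, rho, aeval_X]
    by_cases hb : b = a
    · subst hb; simp
    · simp only [hb, if_false, map_zero]
      exact ((hmk0 _).2 (hX b hb s)).symm
  have e2 : mk.comp (phi0 (n := n)) = mk.comp (rho a) := by
    refine MvPolynomial.algHom_ext fun s => ?_
    simp only [AlgHom.comp_apply, phi0, rho, aeval_X, map_sum]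
    exact Finset.sum_eq_single_of_mem a (Finset.mem_univ _) fun b _ hb => (hmk0 _).2 (hX b hb s)
  refine ⟨I.comap (rho a), ?_, ?_, ?_⟩
  · intro m F hF
    rw [Ideal.mem_comap] at hF ⊢
    have h := decompose_map (homogeneousSubmodule n k) (TT k n q) (rho (q := q) a)
      (fun m => (m, m • a)) (fun i j hij => (Prod.mk.inj hij).1) (fun i F hF => rho_mem a hF) F m
    rw [← h]
    exact hI _ hF
  · intro F hF
    rw [Ideal.mem_comap, ← hmk0]
    have : mk (rho a F) = mk (phi0 F) := (DFunLike.congr_fun e2 F).symm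
    rw [this, hmk0]
    exact h𝔭 F hF
  · intro N
    unfold cf
    rw [Finset.sum_eq_single_of_mem (N • a) (Finset.mem_univ _)]
    · have hsub : Submodule.map mk.toLinearMap (TT k n q (N, N • a)) =
          Submodule.map (mk.comp (rho a)).toLinearMap (homogeneousSubmodule n k N) := by
        apply le_antisymm
        · rintro _ ⟨F, hF, rfl⟩
          refine ⟨pr a F, pr_mem a hF, ?_⟩
          exact DFunLike.congr_fun e1 F
        · rintro _ ⟨F, hF, rfl⟩
          exact ⟨rho a F, rho_mem a hF, rfl⟩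
      rw [H_eq_finrank_map (TT k n q) I (N, N • a) mk.toLinearMap (fun F _ => hmk0 F),
        H_eq_finrank_map (homogeneousSubmodule n k) (I.comap (rho a)) N
          (mk.comp (rho a)).toLinearMap (fun F _ => hmk0 _), hsub]
    · intro b _ hb
      rw [H_eq_zero, Nat.cast_zero, mul_zero]
      intro F hF
      have h1 : F - rho a (pr a F) ∈ I := by
        rw [← hmk0, map_sub, sub_eq_zero]
        exact (DFunLike.congr_fun e1 F).symm
      have h2 := hI (N, b) h1
      have h3 : rho (q := q) a (pr a F) ∈ TT k n q (N, N • a) := rho_mem a (pr_mem a hF)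
      rw [decompose_sub, DirectSum.sub_apply, Submodule.coe_sub, decompose_of_mem_same _ hF,
        decompose_of_mem_ne _ h3 (fun h => hb (Prod.mk.inj h).2.symm), sub_zero] at h2
      exact h2

end

end K435.Cyc
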