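import Groth.Agent.Variety.K435.HilbFun

/-!
# Hilbert functions with a cyclic character

`T` graded by `ℕ × ZMod q`, `cf ψ 𝒯 I N = ∑ b, ψ b * dim (T/I)_(N,b)`.
`induct` : Noetherian induction reducing statements on `cf I` to ideals `I` such that the degree
one generators outside `I` have a single weight.
-/

set_option autoImplicit false

open DirectSum

namespace K435.Cyc

open K435.Hilb

variable {k T : Type*} [Field k] [CommRing T] [Algebra k T] {q : ℕ} [NeZero q]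

/-- The Hilbert function with character. -/
noncomputable def cf (ψ : AddChar (ZMod q) ℂ) (𝒯 : ℕ × ZMod q → Submodule k T) (I : Ideal T)
    (N : ℕ) : ℂ := ∑ b : ZMod q, ψ b * (H 𝒯 I (N, b) : ℂ)

/-- closure properties of a set of functions -/
structure Adm (ψ : AddChar (ZMod q) ℂ) (P : (ℕ → ℂ) → Prop) : Prop where
  add : ∀ {f g}, P f → P g → P (fun N => f N + g N)
  mul : ∀ {f} (a : ZMod q), P f → P (fun N => ψ a * f N)
  neg : ∀ {f}, P f → P (fun N => - f N)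
  div : ∀ {f} (a b : ZMod q), a ≠ b → P (fun N => (ψ a - ψ b) * f N) → P f
  shift : ∀ {f}, P (fun N => f (N + 1)) ↔ P f

section

variable (ψ : AddChar (ZMod q) ℂ) (𝒯 : ℕ × ZMod q → Submodule k T) [GradedAlgebra 𝒯]
  [∀ i, FiniteDimensional k (𝒯 i)]

lemma cf_succ {I : Ideal T} (hI : I.IsHomogeneous 𝒯) {a : ZMod q} {y : T} (hy : y ∈ 𝒯 (1, a))
    (N : ℕ) : cf ψ 𝒯 I (N + 1) =
      ψ a * cf ψ 𝒯 (col I y) N + cf ψ 𝒯 (I ⊔ Ideal.span {y}) (N + 1) := by
  have key : ∀ (c : ZMod q), ((H 𝒯 I (N + 1, a + c) : ℕ) : ℂ) =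
      H 𝒯 (col I y) (N, c) + H 𝒯 (I ⊔ Ideal.span {y}) (N + 1, a + c) := by
    intro c
    have h := H_add 𝒯 hI hy (N, c)
    have e : ((1, a) : ℕ × ZMod q) + (N, c) = (N + 1, a + c) := by
      rw [Prod.mk_add_mk, add_comm 1 N]
    rw [e] at h
    rw [h]; push_cast; rfl
  unfold cf
  rw [← Equiv.sum_comp (Equiv.addLeft a), ← Equiv.sum_comp (Equiv.addLeft a)
    (fun b => ψ b * (H 𝒯 (I ⊔ Ideal.span {y}) (N + 1, b) : ℂ)), Finset.mul_sum,
    ← Finset.sum_add_distrib]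
  refine Finset.sum_congr rfl fun c _ => ?_
  simp only [Equiv.coe_addLeft]
  rw [key, AddChar.map_add_eq_mul]
  ring

theorem induct [IsNoetherianRing T] {P : (ℕ → ℂ) → Prop} (hA : Adm ψ P) (I₀ : Ideal T)
    {n : Type*} (y : n → ZMod q → T) (hy : ∀ s a, y s a ∈ 𝒯 (1, a))
    (hbase : ∀ I : Ideal T, I.IsHomogeneous 𝒯 → I₀ ≤ I →
      (∃ a, ∀ b, b ≠ a → ∀ s, y s b ∈ I) → P (cf ψ 𝒯 I)) :
    ∀ I : Ideal T, I.IsHomogeneous 𝒯 → I₀ ≤ I → P (cf ψ 𝒯 I) := by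
  intro I
  induction I using IsNoetherian.induction with
  | hgt I ih =>
  intro hI hI₀
  by_cases h : ∃ a, ∀ b, b ≠ a → ∀ s, y s b ∈ I
  · exact hbase I hI hI₀ h
  push Not at h
  have step : ∀ (a : ZMod q) (z : T), z ∈ 𝒯 (1, a) → z ∉ I →
      P (cf ψ 𝒯 I) ∨ P (fun N => cf ψ 𝒯 I (N + 1) + - (ψ a * cf ψ 𝒯 I N)) := by
    intro a z hz hzI
    have hlt : I < I ⊔ Ideal.span {z} := by
      refine lt_of_le_of_ne le_sup_left fun h => hzI ?_
      rw [h]; exact Ideal.mem_sup_right (Ideal.mem_span_singleton_self z)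
    have hP1 := ih _ hlt (isHomogeneous_sup_span 𝒯 hI hz) (hI₀.trans hlt.le)
    by_cases hc : col I z = I
    · right
      have : (fun N => cf ψ 𝒯 I (N + 1) + - (ψ a * cf ψ 𝒯 I N)) =
          fun N => cf ψ 𝒯 (I ⊔ Ideal.span {z}) (N + 1) := by
        funext N
        rw [cf_succ ψ 𝒯 hI hz N, hc]; ring
      rw [this]
      exact hA.shift.2 hP1
    · left
      have hlt2 : I < col I z := lt_of_le_of_ne (le_col I z) (Ne.symm hc)
      have hP2 := ih _ hlt2 (isHomogeneous_col 𝒯 hI hz) (hI₀.trans hlt2.le)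
      rw [← hA.shift]
      have : (fun N => cf ψ 𝒯 I (N + 1)) =
          fun N => ψ a * cf ψ 𝒯 (col I z) N + cf ψ 𝒯 (I ⊔ Ideal.span {z}) (N + 1) := by
        funext N
        exact cf_succ ψ 𝒯 hI hz N
      rw [this]
      exact hA.add (hA.mul a hP2) (hA.shift.2 hP1)
  obtain ⟨b, -, s, hs⟩ := h 0
  obtain ⟨b', hb', s', hs'⟩ := h b
  rcases step b _ (hy s b) hs with h1 | h1
  · exact h1
  rcases step b' _ (hy s' b') hs' with h2 | h2
  · exact h2
  refine hA.div b' b hb' ?_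
  have : (fun N => (ψ b' - ψ b) * cf ψ 𝒯 I N) = fun N =>
      (cf ψ 𝒯 I (N + 1) + - (ψ b * cf ψ 𝒯 I N)) + - (cf ψ 𝒯 I (N + 1) + - (ψ b' * cf ψ 𝒯 I N)) := by
    funext N; ring
  rw [this]
  exact hA.add h1 (hA.neg h2)

end

end K435.Cyc
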