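import Mathlib

/-!
# Hilbert functions of homogeneous ideals

`A` a commutative `k`-algebra graded by a cancellative commutative monoid `ι` with finite
dimensional pieces; for a homogeneous ideal `I`, `H 𝒜 I i = dim_k (A/I)_i`.
Main result: `H_add` : for `y` homogeneous of degree `j`
`H I (j+i) = H (I : y) i + H (I + (y)) (j + i)`.
-/

set_option autoImplicit false

open DirectSum

namespace K435.Hilb

variable {k A ι : Type*} [Field k] [CommRing A] [Algebra k A]

/-- the ideal `(I : y)` -/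
def col (I : Ideal A) (y : A) : Ideal A := Submodule.comap (LinearMap.mulLeft A y) I

@[simp] lemma mem_col {I : Ideal A} {y a : A} : a ∈ col I y ↔ y * a ∈ I := Iff.rfl

lemma le_col (I : Ideal A) (y : A) : I ≤ col I y := fun _ ha => I.mul_mem_left _ ha

/-- Hilbert function of `A/I`. -/
noncomputable def H (𝒜 : ι → Submodule k A) (I : Ideal A) (i : ι) : ℕ :=
  Module.finrank k (𝒜 i ⧸ (I.restrictScalars k).comap (𝒜 i).subtype)

lemma H_eq_zero (𝒜 : ι → Submodule k A) {I : Ideal A} {i : ι} (h : ∀ a ∈ 𝒜 i, a ∈ I) :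
    H 𝒜 I i = 0 := by
  have : (I.restrictScalars k).comap (𝒜 i).subtype = ⊤ := by
    rw [eq_top_iff]; intro a _; exact h _ a.2
  unfold H
  rw [this]
  haveI : Subsingleton (𝒜 i ⧸ (⊤ : Submodule k (𝒜 i))) := Submodule.Quotient.subsingleton_iff.2 rfl
  exact Module.finrank_zero_of_subsingleton

lemma H_top (𝒜 : ι → Submodule k A) (i : ι) : H 𝒜 (⊤ : Ideal A) i = 0 :=
  H_eq_zero 𝒜 fun _ _ => trivial

lemma H_mono (𝒜 : ι → Submodule k A) {i : ι} [FiniteDimensional k (𝒜 i)] {I J : Ideal A}
    (h : I ≤ J) : H 𝒜 J i ≤ H 𝒜 I i := by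
  have hle : (I.restrictScalars k).comap (𝒜 i).subtype ≤
      (J.restrictScalars k).comap (𝒜 i).subtype := fun a ha => h ha
  exact LinearMap.finrank_le_finrank_of_surjective (f := Submodule.mapQ _ _ LinearMap.id hle)
    (by
      intro x
      obtain ⟨x, rfl⟩ := Submodule.Quotient.mk_surjective _ x
      exact ⟨Submodule.Quotient.mk x, rfl⟩)

/-- `H` as the dimension of the image under a linear map with kernel `I`. -/
lemma H_eq_finrank_map (𝒜 : ι → Submodule k A) (I : Ideal A) (i : ι)
    {P : Type*} [AddCommGroup P] [Module k P] (Θ : A →ₗ[k] P)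
    (h : ∀ a ∈ 𝒜 i, Θ a = 0 ↔ a ∈ I) :
    H 𝒜 I i = Module.finrank k ((𝒜 i).map Θ) := by
  have hk : (I.restrictScalars k).comap (𝒜 i).subtype = LinearMap.ker (Θ.comp (𝒜 i).subtype) := by
    ext a
    simp only [Submodule.mem_comap, Submodule.restrictScalars_mem, LinearMap.mem_ker,
      LinearMap.comp_apply]
    exact (h _ a.2).symm
  unfold H
  rw [hk]
  have e := (Θ.comp (𝒜 i).subtype).quotKerEquivRange
  rw [e.finrank_eq, LinearMap.range_comp, Submodule.range_subtype]

section graded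

variable [DecidableEq ι] [AddCancelCommMonoid ι] (𝒜 : ι → Submodule k A) [GradedAlgebra 𝒜]

lemma isHomogeneous_col {I : Ideal A} (hI : I.IsHomogeneous 𝒜) {j : ι} {y : A} (hy : y ∈ 𝒜 j) :
    (col I y).IsHomogeneous 𝒜 := by
  intro i a ha
  have h := hI (j + i) ha
  rw [mem_col, ← coe_decompose_mul_add_of_left_mem 𝒜 hy]
  exact h

lemma isHomogeneous_sup_span {I : Ideal A} (hI : I.IsHomogeneous 𝒜) {j : ι} {y : A}
    (hy : y ∈ 𝒜 j) : (I ⊔ Ideal.span {y}).IsHomogeneous 𝒜 := by
  refine hI.sup ?_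
  refine Ideal.homogeneous_span 𝒜 _ ?_
  rintro x hx
  rw [Set.mem_singleton_iff] at hx
  subst hx
  exact ⟨j, hy⟩

theorem H_add {I : Ideal A} (hI : I.IsHomogeneous 𝒜) {j : ι} {y : A} (hy : y ∈ 𝒜 j) (i : ι)
    [FiniteDimensional k (𝒜 (j + i))] :
    H 𝒜 I (j + i) = H 𝒜 (col I y) i + H 𝒜 (I ⊔ Ideal.span {y}) (j + i) := by
  set W := 𝒜 (j + i) with hW
  set V := 𝒜 i with hV
  let m : V →ₗ[k] W :=
    ((LinearMap.mulLeft k y).comp V.subtype).codRestrict W
      (fun v => SetLike.GradedMul.mul_mem hy v.2)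
  set S : Submodule k W := (I.restrictScalars k).comap W.subtype with hS
  set T : Submodule k W := ((I ⊔ Ideal.span {y}).restrictScalars k).comap W.subtype with hT
  have hST : S ≤ T := fun a ha => Ideal.mem_sup_left ha
  have hker : LinearMap.ker (S.mkQ.comp m) = ((col I y).restrictScalars k).comap V.subtype := by
    ext v
    simp only [LinearMap.mem_ker, LinearMap.comp_apply, Submodule.mkQ_apply,
      Submodule.Quotient.mk_eq_zero]
    rfl
  have hrange : T.map S.mkQ = LinearMap.range (S.mkQ.comp m) := by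
    apply le_antisymm
    · rintro _ ⟨w, hw, rfl⟩
      have hw' : (w : A) ∈ I ⊔ Ideal.span {y} := hw
      rw [Submodule.mem_sup] at hw'
      obtain ⟨a, ha, z, hz, haz⟩ := hw'
      rw [Ideal.mem_span_singleton'] at hz
      obtain ⟨g, rfl⟩ := hz
      have h1 : (w : A) = (decompose 𝒜 a (j + i) : A) + y * (decompose 𝒜 g i : A) := by
        rw [← coe_decompose_mul_add_of_left_mem 𝒜 hy, mul_comm y g,
          ← DirectSum.decompose_of_mem_same 𝒜 (i := j + i) (show (w : A) ∈ 𝒜 (j + i) from w.2),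
          ← haz, DirectSum.decompose_add, DirectSum.add_apply]
        rfl
      refine ⟨⟨decompose 𝒜 g i, (decompose 𝒜 g i).2⟩, ?_⟩
      rw [LinearMap.comp_apply, Submodule.mkQ_apply, Submodule.mkQ_apply,
        Submodule.Quotient.eq]
      have h2 : (decompose 𝒜 a (j + i) : A) ∈ I := hI _ ha
      change (y * (decompose 𝒜 g i : A) - w : A) ∈ I
      rw [h1]
      have : (y * (decompose 𝒜 g i : A) - ((decompose 𝒜 a (j + i) : A) + y * (decompose 𝒜 g i : A)))
          = - (decompose 𝒜 a (j + i) : A) := by ring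
      rw [this]
      exact I.neg_mem h2
    · rintro _ ⟨v, rfl⟩
      refine ⟨m v, ?_, rfl⟩
      change y * (v : A) ∈ I ⊔ Ideal.span {y}
      exact Ideal.mem_sup_right (Ideal.mul_mem_right _ _ (Ideal.mem_span_singleton_self y))
  have e1 : Module.finrank k (V ⧸ ((col I y).restrictScalars k).comap V.subtype) =
      Module.finrank k (T.map S.mkQ) := by
    rw [hrange, ← hker]
    exact (S.mkQ.comp m).quotKerEquivRange.finrank_eq
  have e2 := (Submodule.quotientQuotientEquivQuotient S T hST).finrank_eq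
  have e3 := Submodule.finrank_quotient_add_finrank (T.map S.mkQ)
  unfold H
  change Module.finrank k (W ⧸ S) = Module.finrank k (V ⧸ _) + Module.finrank k (W ⧸ T)
  rw [e1, ← e2, ← e3, add_comm]

end graded

end K435.Hilb
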