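import Groth.Agent.Variety.K435.HilbPoly

/-!
# Homogeneous primes with constant Hilbert polynomial have a point of that degree
-/

set_option autoImplicit false
set_option linter.unusedSectionVars false
set_option linter.style.haveILetI false

open DirectSum MvPolynomial Filter

namespace K435.HilbP

open K435.Hilb K435.Cyc

universe u

attribute [local instance] MvPolynomial.gradedAlgebra

variable {k : Type u} [Field k] {n : Type} [Finite n]

/-- all nonzero points of `𝔞` with values in finite extensions of `k` have degree divisible by `L` -/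
def PPt (L : ℕ) (𝔞 : Ideal (MvPolynomial n k)) : Prop :=
  ∀ (K : Type u) [Field K] [Algebra k K] [FiniteDimensional k K] (v : n → K), v ≠ 0 →
    (∀ F ∈ 𝔞, aeval v F = 0) → L ∣ Module.finrank k K

lemma PPt.mono {L : ℕ} {𝔞 𝔟 : Ideal (MvPolynomial n k)} (h : PPt L 𝔞) (hle : 𝔞 ≤ 𝔟) : PPt L 𝔟 :=
  fun K _ _ _ v hv hF => h K v hv fun F hF' => hF F (hle hF')

theorem dvd_of_eventually_eq {𝔭 : Ideal (MvPolynomial n k)} [h𝔭p : 𝔭.IsPrime]
    (h𝔭 : 𝔭.IsHomogeneous (homogeneousSubmodule n k)) {s : n}
    (hs : (X s : MvPolynomial n k) ∉ 𝔭) {a : ℕ}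
    (ha : ∀ᶠ m : ℕ in atTop, H (homogeneousSubmodule n k) 𝔭 m = a) {L : ℕ} (hL : PPt L 𝔭) :
    L ∣ a := by
  classical
  let Cf := FractionRing (MvPolynomial n k ⧸ 𝔭)
  let mk : MvPolynomial n k →ₐ[k] Cf :=
    (IsScalarTower.toAlgHom k (MvPolynomial n k ⧸ 𝔭) Cf).comp (Ideal.Quotient.mkₐ k 𝔭)
  have hmk0 : ∀ F, mk F = 0 ↔ F ∈ 𝔭 := by
    intro F
    change algebraMap (MvPolynomial n k ⧸ 𝔭) Cf (Ideal.Quotient.mk 𝔭 F) = 0 ↔ _
    rw [map_eq_zero_iff _ (IsFractionRing.injective (MvPolynomial n k ⧸ 𝔭) Cf),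
      Ideal.Quotient.eq_zero_iff_mem]
  have hxs : mk (X s) ≠ 0 := fun h => hs ((hmk0 _).1 h)
  let θ : MvPolynomial n k →ₐ[k] Cf := aeval fun j => mk (X j) / mk (X s)
  have hθ : ∀ m, ∀ F ∈ homogeneousSubmodule n k m, θ F * (mk (X s)) ^ m = mk F := by
    intro m F hF
    have e1 : mk F = aeval (fun j => mk (X j)) F := by
      have : mk = aeval (fun j => mk (X j)) := MvPolynomial.algHom_ext fun j => by simp
      exact DFunLike.congr_fun this F
    rw [e1]
    rw [F.as_sum, map_sum, map_sum, Finset.sum_mul]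
    refine Finset.sum_congr rfl fun d hd => ?_
    have hd' : d.degree = m := by
      rw [Finsupp.degree_eq_weight_one]
      exact hF (mem_support_iff.1 hd)
    simp only [θ, aeval_monomial]
    rw [mul_assoc]
    congr 1
    rw [Finsupp.prod, Finsupp.prod, ← hd', Finsupp.degree_apply, ← Finset.prod_pow_eq_pow_sum,
      ← Finset.prod_mul_distrib]
    refine Finset.prod_congr rfl fun j _ => ?_
    rw [← mul_pow, div_mul_cancel₀ _ hxs]
  have hθs : θ (X s) = 1 := by
    simp only [θ, aeval_X]
    exact div_self hxs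
  have hθ0 : ∀ m, ∀ F ∈ homogeneousSubmodule n k m, θ F = 0 ↔ F ∈ 𝔭 := by
    intro m F hF
    rw [← hmk0, ← hθ m F hF]
    constructor
    · intro h; rw [h, zero_mul]
    · intro h
      exact (mul_eq_zero.1 h).resolve_right (pow_ne_zero _ hxs)
  let W : ℕ → Submodule k Cf := fun m => (homogeneousSubmodule n k m).map θ.toLinearMap
  have hWfin : ∀ m, FiniteDimensional k (W m) := fun m => inferInstance
  have hWd : ∀ m, Module.finrank k (W m) = H (homogeneousSubmodule n k) 𝔭 m := fun m =>
    (H_eq_finrank_map _ 𝔭 m θ.toLinearMap (hθ0 m)).symm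
  have hWle : ∀ m, W m ≤ W (m + 1) := by
    rintro m _ ⟨F, hF, rfl⟩
    refine ⟨F * X s, IsHomogeneous.mul hF (isHomogeneous_X k s), ?_⟩
    change θ (F * X s) = θ F
    rw [map_mul, hθs, mul_one]
  have hWmono : Monotone W := monotone_nat_of_le_succ hWle
  obtain ⟨m₀, hm₀⟩ := eventually_atTop.1 ha
  have hWeq : ∀ m, W m ≤ W m₀ := by
    intro m
    rcases le_total m m₀ with h | h
    · exact hWmono h
    · refine (Submodule.eq_of_le_of_finrank_eq (hWmono h) ?_).ge
      rw [hWd, hWd, hm₀ m₀ le_rfl, hm₀ m h]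
  let A : Subalgebra k Cf := θ.range
  have hA : Subalgebra.toSubmodule A = W m₀ := by
    apply le_antisymm
    · rintro _ ⟨F, rfl⟩
      change θ F ∈ W m₀
      rw [← DirectSum.sum_support_decompose (homogeneousSubmodule n k) F, map_sum]
      refine Submodule.sum_mem _ fun j _ => hWeq j ?_
      exact ⟨_, (decompose (homogeneousSubmodule n k) F j).2, rfl⟩
    · rintro _ ⟨F, _, rfl⟩
      exact ⟨F, rfl⟩
  haveI hAfin : FiniteDimensional k A := by
    have : FiniteDimensional k (Subalgebra.toSubmodule A) := by rw [hA]; infer_instance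
    exact this
  have hAfield : IsField A := (fieldOfFiniteDimensional k A).toIsField
  let K : IntermediateField k Cf := A.toIntermediateField' hAfield
  haveI : FiniteDimensional k K := hAfin
  have hKd : Module.finrank k K = a := by
    have h1 : Module.finrank k K = Module.finrank k (Subalgebra.toSubmodule A) := rfl
    rw [h1, hA, hWd, hm₀ m₀ le_rfl]
  rw [← hKd]
  let v : n → K := fun j => ⟨θ (X j), ⟨X j, rfl⟩⟩
  refine hL K v ?_ ?_
  · intro h0
    have h1 := congrArg (Subtype.val) (congrFun h0 s)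
    change θ (X s) = 0 at h1
    rw [hθs] at h1
    exact one_ne_zero h1
  · intro F hF
    have key : ∀ G, (aeval v G : K).1 = θ G := by
      intro G
      have : (K.val).comp (aeval v) = θ := MvPolynomial.algHom_ext fun j => by
        simp only [AlgHom.comp_apply, aeval_X]; rfl
      exact DFunLike.congr_fun this G
    apply Subtype.ext
    rw [key]
    change θ F = 0
    rw [← DirectSum.sum_support_decompose (homogeneousSubmodule n k) F, map_sum]
    refine Finset.sum_eq_zero fun j _ => ?_
    exact (hθ0 j _ (decompose (homogeneousSubmodule n k) F j).2).2 (h𝔭 j hF)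

end K435.HilbP
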