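import Groth.Agent.Variety.K435.HilbTPow
import Groth.Agent.Variety.K435.HilbAdm
import Groth.Agent.Variety.K435.HilbPoint

/-!
# Divisibility of the values of Hilbert polynomials

`val_of_pp` : let `𝔞 ⊂ k[x_s]` be a homogeneous ideal all of whose nonzero points over finite
extensions have degree divisible by `L`, with Hilbert polynomial `P` of degree `≤ d`, and suppose
that for `1 ≤ i ≤ d` there is a prime `q ≠ char k` with `μ_q ⊂ k` and `q`, `q^i - 1` prime to `L`.
Then all values of `P` on integers are divisible by `L`.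
-/

set_option autoImplicit false
set_option linter.unusedSectionVars false
set_option linter.style.haveILetI false

open DirectSum MvPolynomial Filter

namespace K435.HilbP

open K435.Hilb K435.Cyc

universe u

attribute [local instance] MvPolynomial.gradedAlgebra

variable {k : Type u} [Field k] {n : Type} [Finite n]

/-- all integer values are divisible by `L` -/
def Val (L : ℕ) (P : Polynomial ℚ) : Prop := ∀ e : ℤ, ∃ z : ℤ, P.eval (e : ℚ) = L * z

lemma eval_map' (P : Polynomial ℚ) (e : ℤ) :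
    (P.map (algebraMap ℚ ℂ)).eval (e : ℂ) = ((P.eval (e : ℚ) : ℚ) : ℂ) := by
  have : (e : ℂ) = algebraMap ℚ ℂ (e : ℚ) := by simp
  rw [this, Polynomial.eval_map_algebraMap, Polynomial.aeval_algebraMap_apply]
  simp

lemma eval_map_nat (P : Polynomial ℚ) (e : ℕ) :
    (P.map (algebraMap ℚ ℂ)).eval (e : ℂ) = ((P.eval (e : ℚ) : ℚ) : ℂ) := by
  have := eval_map' P (e : ℤ)
  simpa using this

/-- the main step: prime ideals with Hilbert polynomial of positive degree -/
lemma main_step {L : ℕ} {i : ℕ} {𝔭 : Ideal (MvPolynomial n k)} [𝔭.IsPrime]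
    (h𝔭 : 𝔭.IsHomogeneous (homogeneousSubmodule n k)) {P : Polynomial ℚ} (hP : IsHP 𝔭 P)
    (hi : P.natDegree = i) (hi1 : 1 ≤ i) {q : ℕ} [Fact q.Prime] (hqk : (q : k) ≠ 0)
    (hLq : Nat.Coprime L q) (hLi : Nat.Coprime L (q ^ i - 1)) {χ : AddChar (ZMod q) k}
    (hχ : χ.IsPrimitive) (c₀ : ℤ) (hc₀ : ∀ e : ℤ, ∃ z : ℤ, P.eval (e : ℚ) = c₀ + L * z)
    (ih : ∀ 𝔟 : Ideal (MvPolynomial n k), 𝔭 < 𝔟 → 𝔟.IsHomogeneous (homogeneousSubmodule n k) →
      ∀ Q, IsHP 𝔟 Q → Val L Q) : (L : ℤ) ∣ c₀ := by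
  classical
  obtain ⟨𝔅⟩ := exists_grBasis h𝔭
  let 𝔗 := tpow 𝔅 q
  let ψ : AddChar (ZMod q) ℂ := ZMod.stdAddChar
  have hψp : ψ.IsPrimitive := ZMod.isPrimitive_stdAddChar q
  have hψ : ψ ≠ 1 := by
    intro h
    have := hψp (one_ne_zero : (1 : ZMod q) ≠ 0)
    apply this
    rw [h]
    exact DFunLike.ext _ _ fun x => by simp
  set PC : Polynomial ℂ := P.map (algebraMap ℚ ℂ) with hPCdef
  have hPCd : PC.natDegree = i := by
    rw [hPCdef, Polynomial.natDegree_map, hi]
  have hPC : PC.degree ≤ (i : WithBot ℕ) := by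
    rw [← hPCd]; exact Polynomial.degree_le_natDegree
  have hP0 : P ≠ 0 := by rintro rfl; simp at hi; omega
  have hPC0 : PC ≠ 0 := (Polynomial.map_ne_zero_iff (algebraMap ℚ ℂ).injective).2 hP0
  have hbase : ∀ I : Ideal (MvPolynomial (n × ZMod q) k), I.IsHomogeneous (TT k n q) → I0 𝔗 χ ≤ I →
      (∃ a, ∀ b, b ≠ a → ∀ s : n, (X (s, b) : MvPolynomial (n × ZMod q) k) ∈ I) →
      MQ ψ PC i (c₀ : ℂ) L (cf ψ (TT k n q) I) := by
    rintro I hI hI0 ⟨a, ha⟩
    obtain ⟨𝔟, h𝔟, hle, hcf⟩ := base ψ hI a ha (𝔭 := 𝔭)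
      (fun F hF => hI0 (phi0_mem_I0 𝔗 χ h𝔭 hχ hqk F hF))
    obtain ⟨Q, hQ⟩ := exists_isHP 𝔟 h𝔟
    have hQM : Q.map (algebraMap ℚ ℂ) ∈ MM q PC i (c₀ : ℂ) L := by
      rcases eq_or_lt_of_le hle with rfl | hlt
      · have hQP : Q = P := hQ.unique hP
        subst hQP
        refine ⟨1, Subring.one_mem _, ?_, fun e => ?_⟩
        · rw [Polynomial.C_1, one_mul, sub_self, Polynomial.degree_zero]
          exact WithBot.bot_lt_coe _
        · obtain ⟨z, hz⟩ := hc₀ e
          refine ⟨z, mem_RR_of_isIntegral _ ?_, ?_⟩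
          · have := isIntegral_algebraMap (R := ℤ) (A := ℂ) (x := z)
            simpa using this
          · rw [eval_map', hz]; push_cast; ring
      · have hd : Q.natDegree < i := by
          rw [← hi]
          exact IsHP.degree_lt h𝔭 h𝔟 hP hQ hlt (by omega)
        refine ⟨0, Subring.zero_mem _, ?_, fun e => ?_⟩
        · rw [Polynomial.C_0, zero_mul, sub_zero]
          refine lt_of_le_of_lt Polynomial.degree_le_natDegree ?_
          rw [Polynomial.natDegree_map]
          exact_mod_cast hd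
        · obtain ⟨z, hz⟩ := ih 𝔟 hlt h𝔟 Q hQ e
          refine ⟨z, mem_RR_of_isIntegral _ ?_, ?_⟩
          · have := isIntegral_algebraMap (R := ℤ) (A := ℂ) (x := z)
            simpa using this
          · rw [eval_map', hz]; push_cast; ring
    refine ⟨fun a' => if a' = a then Q.map (algebraMap ℚ ℂ) else 0, fun a' => ?_, ?_⟩
    · dsimp only
      split_ifs
      · exact hQM
      · exact MM_zero
    · filter_upwards [hQ] with N hN
      rw [hcf, Finset.sum_eq_single a]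
      · rw [if_pos rfl, eval_map_nat, ← hN]
        push_cast; rfl
      · intro b _ hb
        rw [if_neg hb]; simp
      · intro h; exact absurd (Finset.mem_univ _) h
  obtain ⟨Pa, hPa, hev⟩ := induct ψ (TT k n q) (adm ψ hψ hPC) (I0 𝔗 χ)
    (fun (s : n) a => X (s, a)) (fun s a => X_mem s a) hbase (I0 𝔗 χ) (I0_hom 𝔗 χ) le_rfl
  have hS := MM_sum Finset.univ Pa fun a _ => hPa a
  set S : Polynomial ℂ := ∑ a, Pa a with hSdef
  have hcomp : PC = S.comp (Polynomial.C (q : ℂ) * Polynomial.X) := by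
    apply poly_ext
    have hmul : Tendsto (fun m : ℕ => q * m) atTop atTop :=
      tendsto_id.const_mul_atTop' (Nat.Prime.pos (Fact.out : q.Prime))
    filter_upwards [hP, hmul.eventually hev] with m h1 h2
    rw [cf_I0 𝔗 χ hχ hqk hψ] at h2
    rw [hPCdef, eval_map_nat, ← h1, Polynomial.eval_comp, Polynomial.eval_mul, Polynomial.eval_C,
      Polynomial.eval_X, hSdef, Polynomial.eval_finsetSum]
    push_cast at h2 ⊢
    rw [h2]
    refine Finset.sum_congr rfl fun a _ => ?_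
    rw [mul_nsmul, nsmul_eq_mul q, CharP.cast_eq_zero, zero_mul, smul_zero,
      AddChar.map_zero_eq_one, one_mul]
  obtain ⟨c, hc, hdeg, hval⟩ := hS
  have hcoef : S.coeff i = c * PC.coeff i := by
    have := Polynomial.coeff_eq_zero_of_degree_lt hdeg
    rw [Polynomial.coeff_sub, Polynomial.coeff_C_mul, sub_eq_zero] at this
    exact this
  have hlc : PC.coeff i ≠ 0 := by
    rw [← hPCd]
    exact Polynomial.leadingCoeff_ne_zero.2 hPC0
  have hc1 : c * (q : ℂ) ^ i = 1 := by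
    have h1 : PC.coeff i = S.coeff i * (q : ℂ) ^ i := by
      conv_lhs => rw [hcomp]
      rw [Polynomial.comp_C_mul_X_coeff]
    rw [hcoef] at h1
    have : PC.coeff i * (c * (q : ℂ) ^ i - 1) = 0 := by linear_combination -h1
    rcases mul_eq_zero.1 this with h | h
    · exact absurd h hlc
    · exact sub_eq_zero.1 h
  obtain ⟨y, hy, hy0⟩ := hval 0
  obtain ⟨z₀, hz₀⟩ := hc₀ 0
  have hPC00 : PC.eval 0 = S.eval 0 := by
    conv_lhs => rw [hcomp]
    simp [Polynomial.eval_comp]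
  have hPC01 : PC.eval 0 = (c₀ : ℂ) + L * z₀ := by
    have := eval_map' P 0
    rw [Int.cast_zero] at this
    rw [hPCdef, this]
    rw [hz₀]; push_cast; rfl
  rw [Int.cast_zero, ← hPC00, hPC01] at hy0
  have hqi : 1 ≤ q ^ i := Nat.one_le_pow _ _ (Nat.Prime.pos (Fact.out : q.Prime))
  have hfin : ((c₀ * ((q ^ i - 1 : ℕ) : ℤ) : ℤ) : ℂ) =
      L * ((q : ℂ) ^ i * y - (q : ℂ) ^ i * z₀) := by
    push_cast [Nat.cast_sub hqi]
    linear_combination (q : ℂ) ^ i * hy0 + (c₀ : ℂ) * hc1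
  have hmem : (q : ℂ) ^ i * y - (q : ℂ) ^ i * z₀ ∈ RR q := by
    have hqm : (q : ℂ) ∈ RR q := by
      apply mem_RR_of_isIntegral
      have := isIntegral_algebraMap (R := ℤ) (A := ℂ) (x := (q : ℤ))
      simpa using this
    have hzm : (z₀ : ℂ) ∈ RR q := by
      apply mem_RR_of_isIntegral
      have := isIntegral_algebraMap (R := ℤ) (A := ℂ) (x := z₀)
      simpa using this
    exact Subring.sub_mem _ (Subring.mul_mem _ (Subring.pow_mem _ hqm _) hy)
      (Subring.mul_mem _ (Subring.pow_mem _ hqm _) hzm)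
  have hdvd := dvd_of_mem hmem hfin hLq
  have hcop : IsCoprime (L : ℤ) ((q ^ i - 1 : ℕ) : ℤ) := Nat.isCoprime_iff_coprime.2 hLi
  exact hcop.dvd_of_dvd_mul_right hdvd

theorem val_of_pp {L : ℕ} (d : ℕ)
    (hq : ∀ i, 1 ≤ i → i ≤ d → ∃ q : ℕ, q.Prime ∧ (q : k) ≠ 0 ∧ Nat.Coprime L q ∧
      Nat.Coprime L (q ^ i - 1) ∧ ∃ (χ : AddChar (ZMod q) k), χ.IsPrimitive)
    (𝔞 : Ideal (MvPolynomial n k)) (h𝔞 : 𝔞.IsHomogeneous (homogeneousSubmodule n k))
    (P : Polynomial ℚ) (hP : IsHP 𝔞 P) (hd : P.natDegree ≤ d) (pp : PPt L 𝔞) : Val L P := by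
  classical
  induction 𝔞 using IsNoetherian.induction generalizing P with
  | hgt 𝔞 ih =>
  by_cases htop : 𝔞 = ⊤
  · have h0 : IsHP 𝔞 0 := isHP_zero fun s => by rw [htop]; trivial
    rw [hP.unique h0]
    exact fun e => ⟨0, by simp⟩
  by_cases hprime : Ideal.IsPrime 𝔞
  swap
  · -- not prime
    have : ∃ x y : MvPolynomial n k, SetLike.IsHomogeneousElem (homogeneousSubmodule n k) x ∧
        x * y ∈ 𝔞 ∧ x ∉ 𝔞 ∧ y ∉ 𝔞 := by
      by_contra hcon
      push Not at hcon
      refine hprime (h𝔞.isPrime_of_homogeneous_mem_or_mem htop fun {x y} hx _ hxy => ?_)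
      by_contra h
      rw [not_or] at h
      exact h.2 (hcon x y hx hxy h.1)
    obtain ⟨x, y, ⟨j, hx⟩, hxy, hxa, hya⟩ := this
    have h1 : 𝔞 < col 𝔞 x := by
      refine lt_of_le_of_ne (le_col _ _) fun h => hya ?_
      rw [h]; exact hxy
    have h2 : 𝔞 < 𝔞 ⊔ Ideal.span {x} := by
      refine lt_of_le_of_ne le_sup_left fun h => hxa ?_
      rw [h]; exact Ideal.mem_sup_right (Ideal.mem_span_singleton_self _)
    have hh1 := isHomogeneous_col _ h𝔞 hx
    have hh2 := isHomogeneous_sup_span _ h𝔞 hx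
    obtain ⟨P₁, hP₁⟩ := exists_isHP _ hh1
    obtain ⟨P₂, hP₂⟩ := exists_isHP _ hh2
    have hrel := IsHP.add h𝔞 hx hP hP₁ hP₂
    have v1 := ih _ h1 hh1 P₁ hP₁ ((hP.natDegree_le hP₁ h1.le).trans hd) (pp.mono h1.le)
    have v2 := ih _ h2 hh2 P₂ hP₂ ((hP.natDegree_le hP₂ h2.le).trans hd) (pp.mono h2.le)
    intro e
    obtain ⟨z1, hz1⟩ := v1 (e - j)
    obtain ⟨z2, hz2⟩ := v2 e
    refine ⟨z1 + z2, ?_⟩
    have := congrArg (Polynomial.eval ((e - j : ℤ) : ℚ)) hrel
    simp only [Polynomial.eval_add, Polynomial.eval_comp, Polynomial.eval_X, Polynomial.eval_C]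
      at this
    have e1 : (((e - j : ℤ) : ℚ) + (j : ℚ)) = e := by push_cast; ring
    rw [e1, hz1, hz2] at this
    rw [this]; push_cast; ring
  · -- prime
    by_cases hX : ∀ s, (X s : MvPolynomial n k) ∈ 𝔞
    · rw [hP.unique (isHP_zero hX)]
      exact fun e => ⟨0, by simp⟩
    push Not at hX
    obtain ⟨s, hs⟩ := hX
    by_cases hi0 : P.natDegree = 0
    · obtain ⟨m, hm⟩ := hP.exists
      have hPc : P = Polynomial.C (P.coeff 0) := Polynomial.eq_C_of_natDegree_eq_zero hi0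
      have hcoef : P.coeff 0 = (H (homogeneousSubmodule n k) 𝔞 m : ℚ) := by
        rw [hm]; conv_rhs => rw [hPc]
        rw [Polynomial.eval_C]
      have hev : ∀ᶠ m' : ℕ in atTop, H (homogeneousSubmodule n k) 𝔞 m' =
          H (homogeneousSubmodule n k) 𝔞 m := by
        filter_upwards [hP] with m' hm'
        rw [hPc, Polynomial.eval_C, hcoef] at hm'
        exact_mod_cast hm'
      obtain ⟨t, ht⟩ := dvd_of_eventually_eq h𝔞 hs hev pp
      intro e
      refine ⟨t, ?_⟩
      rw [hPc, Polynomial.eval_C, hcoef, ht]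
      push_cast; rfl
    · have hi1 : 1 ≤ P.natDegree := by omega
      obtain ⟨q, hqp, hqk, hLq, hLi, χ, hχ⟩ := hq _ hi1 hd
      haveI : Fact q.Prime := ⟨hqp⟩
      -- differences
      have hlt : 𝔞 < 𝔞 ⊔ Ideal.span {X s} := by
        refine lt_of_le_of_ne le_sup_left fun h => hs ?_
        rw [h]; exact Ideal.mem_sup_right (Ideal.mem_span_singleton_self _)
      have hh2 := isHomogeneous_sup_span (homogeneousSubmodule n k) h𝔞 (X_hom s)
      obtain ⟨P₂, hP₂⟩ := exists_isHP _ hh2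
      have v2 := ih _ hlt hh2 P₂ hP₂ ((hP.natDegree_le hP₂ hlt.le).trans hd) (pp.mono hlt.le)
      have hcol : col 𝔞 (X s) = 𝔞 := by
        apply le_antisymm _ (le_col _ _)
        intro a ha
        exact (hprime.mem_or_mem (mem_col.1 ha)).resolve_left hs
      have hrel := IsHP.add h𝔞 (X_hom s) hP (by rw [hcol]; exact hP) hP₂
      have hstep : ∀ e : ℤ, ∃ z : ℤ, P.eval ((e + 1 : ℤ) : ℚ) = P.eval (e : ℚ) + L * z := by
        intro e
        obtain ⟨z, hz⟩ := v2 (e + 1)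
        refine ⟨z, ?_⟩
        have := congrArg (Polynomial.eval (e : ℚ)) hrel
        simp only [Polynomial.eval_add, Polynomial.eval_comp, Polynomial.eval_X, Polynomial.eval_C,
          Nat.cast_one] at this
        rw [← hz]
        push_cast
        exact this
      obtain ⟨m, hm⟩ := hP.exists
      set c₀ : ℤ := ((H (homogeneousSubmodule n k) 𝔞 m : ℕ) : ℤ) with hc₀def
      have hc₀ : ∀ e : ℤ, ∃ z : ℤ, P.eval (e : ℚ) = c₀ + L * z := by
        have key : ∀ t : ℤ, ∃ z : ℤ, P.eval (((m : ℤ) + t : ℤ) : ℚ) = c₀ + L * z := by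
          intro t
          induction t using Int.induction_on with
          | zero => exact ⟨0, by rw [add_zero]; push_cast; rw [← hm, hc₀def]; push_cast; ring⟩
          | succ t iht =>
            obtain ⟨z, hz⟩ := iht
            obtain ⟨z', hz'⟩ := hstep ((m : ℤ) + t)
            refine ⟨z + z', ?_⟩
            rw [show (m : ℤ) + (t + 1) = (m : ℤ) + t + 1 by ring, hz', hz]
            push_cast; ring
          | pred t iht =>
            obtain ⟨z, hz⟩ := iht
            obtain ⟨z', hz'⟩ := hstep ((m : ℤ) + (-(t : ℤ) - 1))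
            refine ⟨z - z', ?_⟩
            rw [show (m : ℤ) + (-(t : ℤ) - 1) + 1 = (m : ℤ) + -(t : ℤ) by ring, hz] at hz'
            push_cast at hz' ⊢
            linarith
        intro e
        have := key (e - m)
        rwa [show (m : ℤ) + (e - m) = e by ring] at this
      have hdvd : (L : ℤ) ∣ c₀ := main_step h𝔞 hP rfl hi1 hqk hLq hLi hχ c₀ hc₀
        (fun 𝔟 hlt𝔟 h𝔟 Q hQ => ih 𝔟 hlt𝔟 h𝔟 Q hQ ((hP.natDegree_le hQ hlt𝔟.le).trans hd)
          (pp.mono hlt𝔟.le))
      obtain ⟨t, ht⟩ := hdvd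
      intro e
      obtain ⟨z, hz⟩ := hc₀ e
      refine ⟨t + z, ?_⟩
      rw [hz, ht]; push_cast; ring

end K435.HilbP
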