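import Mathlib

/-!
# Characters of permutation representations of `ZMod q`

For a finite set `X` with an action of `ZMod q` (`q` prime), `U χ b` the space of functions of
weight `b`; `∑ b, ψ b * dim (U χ b) = #Fix`.
-/

set_option autoImplicit false
set_option linter.unusedSectionVars false
set_option linter.style.haveILetI false

namespace K435.Cyc

variable {k : Type*} [Field k] (X : Type*) [Finite X] {q : ℕ} [Fact q.Prime]
  [AddAction (ZMod q) X] (χ : AddChar (ZMod q) k)

/-- functions of weight `b` -/
def U (b : ZMod q) : Submodule k (X → k) where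
  carrier := {c | ∀ (t : ZMod q) (x : X), c (t +ᵥ x) = χ (-(t * b)) * c x}
  add_mem' {c d} hc hd t x := by
    change c _ + d _ = _ * (c x + d x)
    rw [hc t x, hd t x]; ring
  zero_mem' t x := by simp
  smul_mem' r c hc t x := by
    change r * c _ = _ * (r * c x)
    rw [hc t x]; ring

variable {X} in
lemma mem_U {b : ZMod q} {c : X → k} :
    c ∈ U X χ b ↔ ∀ (t : ZMod q) (x : X), c (t +ᵥ x) = χ (-(t * b)) * c x := Iff.rfl

/-- fixed points -/
def Fx : Set X := {x | ∀ t : ZMod q, t +ᵥ x = x}

variable {X} in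
lemma mem_Fx_of_vadd {x : X} {s : ZMod q} (hs : s ≠ 0) (h : s +ᵥ x = x) : x ∈ Fx (q := q) X := by
  intro t
  have key : ∀ m : ℕ, (m • s) +ᵥ x = x := by
    intro m
    induction m with
    | zero => simp
    | succ m ih => rw [succ_nsmul, add_vadd, h, ih]
  have : t = (t * s⁻¹).val • s := by
    rw [nsmul_eq_mul, ZMod.natCast_val, ZMod.cast_id', id, mul_assoc, inv_mul_cancel₀ hs, mul_one]
  rw [this]
  exact key _

variable {X} in
lemma vadd_mem_Fx {x : X} (s : ZMod q) : s +ᵥ x ∈ Fx (q := q) X ↔ x ∈ Fx (q := q) X := by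
  constructor
  · intro h t
    have := h t
    rw [vadd_vadd, add_comm, ← vadd_vadd] at this
    exact AddAction.injective s this
  · intro h t
    rw [vadd_vadd, add_comm, ← vadd_vadd, h t]

lemma exists_j : ∃ j : X → ZMod q, ∀ x, x ∉ Fx (q := q) X → ∀ t, j (t +ᵥ x) = t + j x := by
  classical
  let r : X → X := fun x => Quotient.out (s := AddAction.orbitRel (ZMod q) X) (Quotient.mk _ x)
  have hr : ∀ x, ∃ t : ZMod q, t +ᵥ r x = x := by
    intro x
    have h : AddAction.orbitRel (ZMod q) X x (r x) := by
      have := Quotient.mk_out (s := AddAction.orbitRel (ZMod q) X) x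
      exact (AddAction.orbitRel (ZMod q) X).symm this
    rw [AddAction.orbitRel_apply] at h
    exact h
  choose j hj using hr
  refine ⟨j, fun x hx t => ?_⟩
  have hrt : r (t +ᵥ x) = r x := by
    have : (Quotient.mk (AddAction.orbitRel (ZMod q) X) (t +ᵥ x)) = Quotient.mk _ x :=
      Quotient.sound (by
        change AddAction.orbitRel (ZMod q) X _ _
        rw [AddAction.orbitRel_apply]; exact ⟨t, rfl⟩)
    simp only [r, this]
  have h1 := hj (t +ᵥ x)
  rw [hrt] at h1
  have h2 : (t + j x) +ᵥ r x = t +ᵥ x := by rw [add_vadd, hj]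
  by_contra hne
  have h3 : (j (t +ᵥ x) - (t + j x)) +ᵥ r x = r x := by
    apply AddAction.injective (t + j x)
    change (t + j x) +ᵥ (_ +ᵥ r x) = (t + j x) +ᵥ r x
    rw [vadd_vadd, add_sub_cancel, h1, h2]
  have h4 := mem_Fx_of_vadd (sub_ne_zero.2 hne) h3
  apply hx
  rw [← hj x, vadd_mem_Fx]
  exact h4

/-- `dim U 0 = dim U b + #Fix` for `b ≠ 0`. -/
lemma finrank_U (hχ : χ.IsPrimitive) {b : ZMod q} (hb : b ≠ 0) :
    Module.finrank k (U X χ 0) = Module.finrank k (U X χ b) + Nat.card (Fx (q := q) X) := by
  classical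
  obtain ⟨j, hj⟩ := exists_j X (q := q)
  have hχ0 : ∀ x : ZMod q, χ x * χ (-x) = 1 := by
    intro x; rw [← AddChar.map_add_eq_mul, add_neg_cancel, AddChar.map_zero_eq_one]
  -- the twisting map
  let Φ : U X χ 0 →ₗ[k] U X χ b :=
    { toFun := fun c => ⟨fun x => if x ∈ Fx (q := q) X then 0 else χ (-(j x * b)) * c.1 x, by
        rw [mem_U]
        intro t x
        by_cases hx : x ∈ Fx (q := q) X
        · have : t +ᵥ x ∈ Fx (q := q) X := (vadd_mem_Fx t).2 hx
          simp [hx, this]
        · have h' : t +ᵥ x ∉ Fx (q := q) X := fun h => hx ((vadd_mem_Fx t).1 h)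
          have hc := c.2 t x
          rw [mul_zero, neg_zero, AddChar.map_zero_eq_one, one_mul] at hc
          simp only [hx, h', if_false]
          rw [hc, hj x hx t, add_mul, neg_add, AddChar.map_add_eq_mul]
          ring⟩
      map_add' := fun c d => by
        ext x
        by_cases hx : x ∈ Fx (q := q) X
        · simp [hx]
        · simp [hx, mul_add]
      map_smul' := fun r c => by
        ext x
        by_cases hx : x ∈ Fx (q := q) X
        · simp [hx]
        · simp only [hx, if_false, SetLike.val_smul, Pi.smul_apply, smul_eq_mul, RingHom.id_apply]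
          ring }
  have hsurj : Function.Surjective Φ := by
    intro d
    have hd0 : ∀ x, x ∈ Fx (q := q) X → d.1 x = 0 := by
      intro x hx
      have hne : AddChar.mulShift χ (-b) ≠ 1 := hχ (neg_ne_zero.2 hb)
      obtain ⟨t, ht⟩ : ∃ t, AddChar.mulShift χ (-b) t ≠ 1 := by
        by_contra hcon
        push Not at hcon
        exact hne (DFunLike.ext _ _ fun t => (hcon t).trans (AddChar.one_apply t).symm)
      have h := d.2 t x
      rw [hx t] at h
      rw [AddChar.mulShift_apply, neg_mul, mul_comm b t] at ht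
      have : (1 - χ (-(t * b))) * d.1 x = 0 := by
        rw [sub_mul, one_mul, ← h, sub_self]
      rcases mul_eq_zero.1 this with h1 | h1
      · exact absurd (sub_eq_zero.1 h1).symm ht
      · exact h1
    refine ⟨⟨fun x => if x ∈ Fx (q := q) X then 0 else χ (j x * b) * d.1 x, ?_⟩, ?_⟩
    · rw [mem_U]
      intro t x
      rw [mul_zero, neg_zero, AddChar.map_zero_eq_one, one_mul]
      by_cases hx : x ∈ Fx (q := q) X
      · have : t +ᵥ x ∈ Fx (q := q) X := (vadd_mem_Fx t).2 hx
        simp [hx, this]
      · have h' : t +ᵥ x ∉ Fx (q := q) X := fun h => hx ((vadd_mem_Fx t).1 h)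
        simp only [hx, h', if_false]
        rw [d.2 t x, hj x hx t, add_mul, AddChar.map_add_eq_mul]
        linear_combination (χ (j x * b) * d.1 x) * hχ0 (t * b)
    · ext x
      by_cases hx : x ∈ Fx (q := q) X
      · simp [Φ, hx, hd0 x hx]
      · simp only [Φ, LinearMap.coe_mk, AddHom.coe_mk, hx, if_false]
        linear_combination (d.1 x) * hχ0 (j x * b)
  have hker : LinearMap.ker Φ ≃ₗ[k] (Fx (q := q) X → k) :=
    { toFun := fun c x => c.1.1 x.1
      map_add' := fun _ _ => rfl
      map_smul' := fun _ _ => rfl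
      invFun := fun d => ⟨⟨fun x => if h : x ∈ Fx (q := q) X then d ⟨x, h⟩ else 0, by
        rw [mem_U]
        intro t x
        rw [mul_zero, neg_zero, AddChar.map_zero_eq_one, one_mul]
        by_cases hx : x ∈ Fx (q := q) X
        · rw [hx t]
        · have h' : t +ᵥ x ∉ Fx (q := q) X := fun h => hx ((vadd_mem_Fx t).1 h)
          simp [hx, h']⟩, by
        rw [LinearMap.mem_ker]
        ext x
        by_cases hx : x ∈ Fx (q := q) X
        · simp [Φ, hx]
        · simp [Φ, hx]⟩
      left_inv := by
        rintro ⟨⟨c, hc⟩, hc'⟩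
        ext x
        change (if h : x ∈ Fx (q := q) X then _ else _) = c x
        by_cases hx : x ∈ Fx (q := q) X
        · simp [hx]
        · simp only [hx, dif_neg, not_false_iff]
          rw [LinearMap.mem_ker] at hc'
          have h := congrFun (congrArg Subtype.val hc') x
          change (if x ∈ Fx (q := q) X then (0 : k) else χ (-(j x * b)) * c x) = 0 at h
          rw [if_neg hx] at h
          have h2 := hχ0 (j x * b)
          have : c x = (χ (j x * b) * χ (-(j x * b))) * c x := by rw [h2, one_mul]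
          rw [this, mul_assoc, h, mul_zero]
      right_inv := by
        intro d
        ext ⟨x, hx⟩
        change (if h : x ∈ Fx (q := q) X then _ else _) = _
        simp [hx] }
  have h1 := Φ.finrank_range_add_finrank_ker
  haveI := Fintype.ofFinite (Fx (q := q) X)
  rw [LinearMap.range_eq_top.2 hsurj, finrank_top, hker.finrank_eq,
    Module.finrank_fintype_fun_eq_card, ← Nat.card_eq_fintype_card] at h1
  exact h1.symm

theorem sum_finrank_U (hχ : χ.IsPrimitive) {ψ : AddChar (ZMod q) ℂ} (hψ : ψ ≠ 1) :
    ∑ b : ZMod q, ψ b * (Module.finrank k (U X χ b) : ℂ) = Nat.card (Fx (q := q) X) := by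
  classical
  have h : ∀ b : ZMod q, ψ b * (Module.finrank k (U X χ b) : ℂ) =
      ψ b * ((Module.finrank k (U X χ 0) : ℂ) - Nat.card (Fx (q := q) X)) +
        (if b = 0 then (Nat.card (Fx (q := q) X) : ℂ) else 0) := by
    intro b
    by_cases hb : b = 0
    · subst hb; rw [AddChar.map_zero_eq_one, if_pos rfl]; ring
    · rw [if_neg hb, finrank_U X χ hχ hb]; push_cast; ring
  rw [Finset.sum_congr rfl fun b _ => h b, Finset.sum_add_distrib, ← Finset.sum_mul,
    AddChar.sum_eq_zero_of_ne_one hψ, zero_mul, zero_add, Finset.sum_ite_eq' Finset.univ (0 : ZMod q),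
    if_pos (Finset.mem_univ _)]

end K435.Cyc
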