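import Groth.Agent.Variety.K435.HilbBase
import Groth.Agent.Ega3B.DiffPoly

/-!
# Hilbert polynomials of homogeneous ideals of a polynomial ring
-/

set_option autoImplicit false
set_option linter.unusedSectionVars false
set_option linter.style.haveILetI false

open DirectSum MvPolynomial Filter

namespace K435.HilbP

open K435.Hilb K435.Cyc

section poly

lemma poly_ext {F : Type*} [Field F] [CharZero F] {P Q : Polynomial F}
    (h : ∀ᶠ m : ℕ in atTop, P.eval (m : F) = Q.eval (m : F)) : P = Q := by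
  refine Polynomial.eq_of_infinite_eval_eq P Q ?_
  obtain ⟨N, hN⟩ := eventually_atTop.1 h
  have hinj : Function.Injective (fun m : ℕ => ((m + N : ℕ) : F)) := fun a b hab => by
    have := Nat.cast_injective (R := F) hab
    omega
  exact (Set.infinite_range_of_injective hinj).mono (by
    rintro _ ⟨m, rfl⟩
    exact hN _ (Nat.le_add_left _ _))

lemma natDegree_le_of_le {P Q : Polynomial ℚ}
    (h : ∀ᶠ m : ℕ in atTop, 0 ≤ P.eval (m : ℚ) ∧ P.eval (m : ℚ) ≤ Q.eval (m : ℚ)) :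
    P.natDegree ≤ Q.natDegree := by
  by_contra hlt
  push Not at hlt
  have hP0 : 0 < P.degree := Polynomial.natDegree_pos_iff_degree_pos.1 (by omega)
  have hPne : P ≠ 0 := Polynomial.ne_zero_of_degree_gt hP0
  have hcast : Tendsto (fun m : ℕ => (m : ℚ)) atTop atTop := tendsto_natCast_atTop_atTop
  have hlc : 0 < P.leadingCoeff := by
    rcases lt_trichotomy P.leadingCoeff 0 with h1 | h1 | h1
    · exfalso
      have h2 := (Polynomial.tendsto_atBot_of_leadingCoeff_nonpos P hP0 h1.le).comp hcast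
      have h3 := (h2.eventually (eventually_lt_atBot 0)).and h
      obtain ⟨m, hm1, hm2⟩ := h3.exists
      exact absurd hm2.1 (not_le.2 hm1)
    · exact absurd (Polynomial.leadingCoeff_eq_zero.1 h1) hPne
    · exact h1
  have hdeg : Q.degree < P.degree := by
    rw [Polynomial.degree_eq_natDegree hPne]
    exact lt_of_le_of_lt Polynomial.degree_le_natDegree (by exact_mod_cast hlt)
  have hR : (Q - P).degree = P.degree := Polynomial.degree_sub_eq_right_of_degree_lt hdeg
  have hRl : (Q - P).leadingCoeff = - P.leadingCoeff :=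
    Polynomial.leadingCoeff_sub_of_degree_lt' hdeg
  have h2 := (Polynomial.tendsto_atBot_of_leadingCoeff_nonpos (Q - P) (by rw [hR]; exact hP0)
    (by rw [hRl]; linarith)).comp hcast
  have h3 := (h2.eventually (eventually_lt_atBot 0)).and h
  obtain ⟨m, hm1, hm2⟩ := h3.exists
  simp only [Function.comp_apply, Polynomial.eval_sub] at hm1
  linarith [hm2.2]

end poly

universe u v

attribute [local instance] MvPolynomial.gradedAlgebra

variable {k : Type u} [Field k] {n : Type v} [Finite n]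

/-- `P` is the Hilbert polynomial of `k[x]/𝔞`. -/
def IsHP (𝔞 : Ideal (MvPolynomial n k)) (P : Polynomial ℚ) : Prop :=
  ∀ᶠ m : ℕ in atTop, (H (homogeneousSubmodule n k) 𝔞 m : ℚ) = P.eval (m : ℚ)

lemma mem_of_forall_X {𝔞 : Ideal (MvPolynomial n k)} (h : ∀ s, (X s : MvPolynomial n k) ∈ 𝔞)
    {m : ℕ} (hm : 1 ≤ m) {F : MvPolynomial n k} (hF : F ∈ homogeneousSubmodule n k m) : F ∈ 𝔞 := by
  rw [F.as_sum]
  refine Ideal.sum_mem _ fun d hd => ?_
  have hd' : d.degree = m := by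
    rw [Finsupp.degree_eq_weight_one]
    exact hF (mem_support_iff.1 hd)
  have hne : d ≠ 0 := by
    rintro rfl
    simp at hd'
    omega
  obtain ⟨s, hs⟩ := Finsupp.ne_iff.1 hne
  have hdiv : (X s : MvPolynomial n k) ∣ monomial d (coeff d F) := by
    rw [X_dvd_monomial]
    exact Or.inr hs
  obtain ⟨G, hG⟩ := hdiv
  rw [hG]
  exact Ideal.mul_mem_right _ _ (h s)

lemma isHP_zero {𝔞 : Ideal (MvPolynomial n k)} (h : ∀ s, (X s : MvPolynomial n k) ∈ 𝔞) :
    IsHP 𝔞 0 := by
  refine eventually_atTop.2 ⟨1, fun m hm => ?_⟩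
  rw [H_eq_zero _ fun F hF => mem_of_forall_X h hm hF]
  simp

lemma X_hom (s : n) : (X s : MvPolynomial n k) ∈ homogeneousSubmodule n k 1 := isHomogeneous_X k s

lemma IsHP.add {𝔞 : Ideal (MvPolynomial n k)} (h𝔞 : 𝔞.IsHomogeneous (homogeneousSubmodule n k))
    {j : ℕ} {y : MvPolynomial n k} (hy : y ∈ homogeneousSubmodule n k j) {P P₁ P₂ : Polynomial ℚ}
    (h : IsHP 𝔞 P) (h₁ : IsHP (col 𝔞 y) P₁) (h₂ : IsHP (𝔞 ⊔ Ideal.span {y}) P₂) :
    P.comp (Polynomial.X + Polynomial.C (j : ℚ)) =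
      P₁ + P₂.comp (Polynomial.X + Polynomial.C (j : ℚ)) := by
  apply poly_ext
  have h' := (tendsto_add_atTop_nat j).eventually h
  have h₂' := (tendsto_add_atTop_nat j).eventually h₂
  filter_upwards [h', h₁, h₂'] with m e e₁ e₂
  simp only [Polynomial.eval_comp, Polynomial.eval_add, Polynomial.eval_X, Polynomial.eval_C]
  push_cast at e e₂
  rw [← e, ← e₁, ← e₂]
  have := H_add (homogeneousSubmodule n k) h𝔞 hy m
  rw [add_comm j m] at this
  rw [this]
  push_cast
  rfl

lemma exists_isHP (𝔞 : Ideal (MvPolynomial n k)) (h𝔞 : 𝔞.IsHomogeneous (homogeneousSubmodule n k)) :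
    ∃ P, IsHP 𝔞 P := by
  induction 𝔞 using IsNoetherian.induction with
  | hgt 𝔞 ih =>
  by_cases hX : ∀ s, (X s : MvPolynomial n k) ∈ 𝔞
  · exact ⟨0, isHP_zero hX⟩
  push Not at hX
  obtain ⟨s, hs⟩ := hX
  have hlt : 𝔞 < 𝔞 ⊔ Ideal.span {X s} := by
    refine lt_of_le_of_ne le_sup_left fun h => hs ?_
    rw [h]; exact Ideal.mem_sup_right (Ideal.mem_span_singleton_self _)
  obtain ⟨P₂, h₂⟩ := ih _ hlt (isHomogeneous_sup_span _ h𝔞 (X_hom s))
  have h₂' := (tendsto_add_atTop_nat 1).eventually h₂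
  have key : ∀ m, (H (homogeneousSubmodule n k) 𝔞 (m + 1) : ℚ) =
      H (homogeneousSubmodule n k) (col 𝔞 (X s)) m +
        H (homogeneousSubmodule n k) (𝔞 ⊔ Ideal.span {X s}) (m + 1) := by
    intro m
    have := H_add (homogeneousSubmodule n k) h𝔞 (X_hom s) m
    rw [add_comm 1 m] at this
    exact_mod_cast this
  by_cases hc : col 𝔞 (X s) = 𝔞
  · obtain ⟨P, hP⟩ := Groth.Agent.Ega3B.DiffPoly.exists_antidifference
      (P₂.comp (Polynomial.X + 1))
    -- `H - P` is eventually constant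
    have hstep : ∀ᶠ m : ℕ in atTop, (H (homogeneousSubmodule n k) 𝔞 (m + 1) : ℚ) -
        P.eval ((m + 1 : ℕ) : ℚ) = (H (homogeneousSubmodule n k) 𝔞 m : ℚ) - P.eval (m : ℚ) := by
      filter_upwards [h₂'] with m e₂
      rw [key, hc, e₂]
      have := congrArg (Polynomial.eval (m : ℚ)) hP
      simp only [Polynomial.eval_sub, Polynomial.eval_comp, Polynomial.eval_add,
        Polynomial.eval_X, Polynomial.eval_one] at this
      push_cast
      linarith
    obtain ⟨N, hN⟩ := eventually_atTop.1 hstep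
    refine ⟨P + Polynomial.C ((H (homogeneousSubmodule n k) 𝔞 N : ℚ) - P.eval (N : ℚ)),
      eventually_atTop.2 ⟨N, fun m hm => ?_⟩⟩
    have hc' : ∀ j, (H (homogeneousSubmodule n k) 𝔞 (N + j) : ℚ) - P.eval ((N + j : ℕ) : ℚ) =
        (H (homogeneousSubmodule n k) 𝔞 N : ℚ) - P.eval (N : ℚ) := by
      intro j
      induction j with
      | zero => simp
      | succ j ihj => rw [← ihj]; exact hN (N + j) (Nat.le_add_right _ _)
    obtain ⟨j, rfl⟩ := Nat.exists_eq_add_of_le hm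
    have := hc' j
    rw [Polynomial.eval_add, Polynomial.eval_C]
    linarith
  · have hlt2 : 𝔞 < col 𝔞 (X s) := lt_of_le_of_ne (le_col _ _) (Ne.symm hc)
    obtain ⟨P₁, h₁⟩ := ih _ hlt2 (isHomogeneous_col _ h𝔞 (X_hom s))
    refine ⟨P₁.comp (Polynomial.X - 1) + P₂, ?_⟩
    have h3 : ∀ᶠ m : ℕ in atTop, (H (homogeneousSubmodule n k) 𝔞 (m + 1) : ℚ) =
        (P₁.comp (Polynomial.X - 1) + P₂).eval ((m + 1 : ℕ) : ℚ) := by
      filter_upwards [h₂', h₁] with m e₂ e₁
      rw [key, e₁, e₂]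
      simp
    obtain ⟨N, hN⟩ := eventually_atTop.1 h3
    refine eventually_atTop.2 ⟨N + 1, fun m hm => ?_⟩
    obtain ⟨j, rfl⟩ := Nat.exists_eq_add_of_le hm
    have := hN (N + j) (Nat.le_add_right _ _)
    rw [show N + 1 + j = N + j + 1 by omega]
    exact this

lemma IsHP.unique {𝔞 : Ideal (MvPolynomial n k)} {P Q : Polynomial ℚ} (h : IsHP 𝔞 P)
    (h' : IsHP 𝔞 Q) : P = Q := by
  apply poly_ext
  filter_upwards [h, h'] with m e e'
  rw [← e, ← e']

lemma IsHP.natDegree_le {𝔞 𝔟 : Ideal (MvPolynomial n k)} {P Q : Polynomial ℚ} (h : IsHP 𝔞 P)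
    (h' : IsHP 𝔟 Q) (hle : 𝔞 ≤ 𝔟) : Q.natDegree ≤ P.natDegree := by
  apply natDegree_le_of_le
  filter_upwards [h, h'] with m e e'
  rw [← e, ← e']
  exact ⟨Nat.cast_nonneg _, Nat.cast_le.2 (H_mono _ hle)⟩

/-- for `𝔭` prime and `𝔟 > 𝔭` the degree drops. -/
lemma IsHP.degree_lt {𝔭 𝔟 : Ideal (MvPolynomial n k)} [𝔭.IsPrime]
    (h𝔭 : 𝔭.IsHomogeneous (homogeneousSubmodule n k))
    (h𝔟 : 𝔟.IsHomogeneous (homogeneousSubmodule n k)) {P Q : Polynomial ℚ} (h : IsHP 𝔭 P)
    (h' : IsHP 𝔟 Q) (hlt : 𝔭 < 𝔟) (hP : 1 ≤ P.natDegree) : Q.natDegree < P.natDegree := by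
  classical
  obtain ⟨y, hy𝔟, hy𝔭⟩ := Set.exists_of_ssubset hlt
  -- a homogeneous element
  obtain ⟨j, hj⟩ : ∃ j, (decompose (homogeneousSubmodule n k) y j : MvPolynomial n k) ∉ 𝔭 := by
    by_contra hcon
    push Not at hcon
    apply hy𝔭
    change y ∈ 𝔭
    rw [← DirectSum.sum_support_decompose (homogeneousSubmodule n k) y]
    exact Ideal.sum_mem _ fun j _ => hcon j
  set z := (decompose (homogeneousSubmodule n k) y j : MvPolynomial n k) with hz
  have hz1 : z ∈ homogeneousSubmodule n k j := (decompose (homogeneousSubmodule n k) y j).2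
  have hz2 : z ∈ 𝔟 := h𝔟 j hy𝔟
  have hcol : col 𝔭 z = 𝔭 := by
    apply le_antisymm _ (le_col _ _)
    intro a ha
    exact (Ideal.IsPrime.mem_or_mem inferInstance (mem_col.1 ha)).resolve_left hj
  obtain ⟨P₂, h₂⟩ := exists_isHP _ (isHomogeneous_sup_span _ h𝔭 hz1)
  have hrel := IsHP.add h𝔭 hz1 h (by rw [hcol]; exact h) h₂
  have h1 : Q.natDegree ≤ P₂.natDegree :=
    IsHP.natDegree_le h₂ h' (sup_le hlt.le (by rw [Ideal.span_le, Set.singleton_subset_iff]; exact hz2))
  have hP0 : P ≠ 0 := by rintro rfl; simp at hP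
  have h2 : (P₂.comp (Polynomial.X + Polynomial.C (j : ℚ))).degree < P.degree := by
    have e : P₂.comp (Polynomial.X + Polynomial.C (j : ℚ)) = Polynomial.taylor (j : ℚ) P - P := by
      rw [Polynomial.taylor_apply, hrel]; ring
    rw [e]
    have hd : (Polynomial.taylor (j : ℚ) P).degree = P.degree := Polynomial.degree_taylor _ _
    rw [← hd]
    refine Polynomial.degree_sub_lt_left hd ?_ (Polynomial.leadingCoeff_taylor _ _)
    intro h0
    rw [h0, Polynomial.degree_zero] at hd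
    exact hP0 (Polynomial.degree_eq_bot.1 hd.symm)
  have h3 : P₂.natDegree = (P₂.comp (Polynomial.X + Polynomial.C (j : ℚ))).natDegree := by
    rw [← Polynomial.taylor_apply, Polynomial.natDegree_taylor]
  have h4 : (P₂.comp (Polynomial.X + Polynomial.C (j : ℚ))).natDegree < P.natDegree := by
    by_cases h0 : P₂.comp (Polynomial.X + Polynomial.C (j : ℚ)) = 0
    · rw [h0, Polynomial.natDegree_zero]; omega
    · exact (Polynomial.natDegree_lt_natDegree_iff h0).2 h2
  omega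

end K435.HilbP
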