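import Groth.Agent.Variety.K435.HilbTensor3

/-!
# Existence of the tensor power
-/

set_option autoImplicit false
set_option linter.unusedSectionVars false
set_option linter.style.haveILetI false

open DirectSum MvPolynomial Finsupp

open scoped TensorProduct

namespace K435.Cyc

universe u v

variable {k : Type u} [Field k] {n : Type v} [Finite n] {𝔭 : Ideal (MvPolynomial n k)}

/-- the cyclic shift -/
noncomputable def sgP (𝔭 : Ideal (MvPolynomial n k)) (q : ℕ) [NeZero q] (t : ZMod q) :
    (⨂[k] _ : ZMod q, (MvPolynomial n k ⧸ 𝔭)) →ₐ[k] (⨂[k] _ : ZMod q, (MvPolynomial n k ⧸ 𝔭)) :=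
  PiTensorProduct.liftAlgHom
    ((PiTensorProduct.tprod k (s := fun _ : ZMod q => MvPolynomial n k ⧸ 𝔭)).domDomCongr
      (Equiv.subRight t))
    (by
      rw [MultilinearMap.domDomCongr_apply]
      rfl)
    (by
      intro x y
      simp only [MultilinearMap.domDomCongr_apply, PiTensorProduct.tprod_mul_tprod]
      rfl)

lemma sgP_tprod (𝔭 : Ideal (MvPolynomial n k)) (q : ℕ) [NeZero q] (t : ZMod q)
    (c : ZMod q → MvPolynomial n k ⧸ 𝔭) :
    sgP 𝔭 q t (PiTensorProduct.tprod k c) = PiTensorProduct.tprod k fun i => c (i - t) := by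
  unfold sgP
  rw [PiTensorProduct.liftAlgHom_apply, PiTensorProduct.lift.tprod,
    MultilinearMap.domDomCongr_apply]
  rfl

lemma tprod_eq_prod (𝔭 : Ideal (MvPolynomial n k)) (q : ℕ) [NeZero q]
    (c : ZMod q → MvPolynomial n k ⧸ 𝔭) :
    PiTensorProduct.tprod k c = ∏ i, PiTensorProduct.singleAlgHom (R := k)
      (A := fun _ : ZMod q => MvPolynomial n k ⧸ 𝔭) i (c i) := by
  simp only [PiTensorProduct.singleAlgHom_apply]
  rw [← PiTensorProduct.tprod_prod]
  congr 1
  exact (Finset.univ_prod_mulSingle c).symm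

/-- the tensor power -/
noncomputable def tpow (𝔅 : GrBasis 𝔭) (q : ℕ) [NeZero q] : TPow 𝔅 q where
  P := ⨂[k] _ : ZMod q, (MvPolynomial n k ⧸ 𝔭)
  ring := inferInstance
  alg := inferInstance
  s := fun i => PiTensorProduct.singleAlgHom (R := k)
      (A := fun _ : ZMod q => MvPolynomial n k ⧸ 𝔭) i
  sg := sgP 𝔭 q
  sg_s := by
    intro t i c
    rw [PiTensorProduct.singleAlgHom_apply, PiTensorProduct.singleAlgHom_apply, sgP_tprod]
    congr 1
    funext j
    simp only [MonoidHom.mulSingle_apply, Pi.mulSingle_apply, sub_eq_iff_eq_add]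
  E := Basis.piTensorProduct fun _ => 𝔅.β
  repr_E := by
    intro c f
    have h := Basis.piTensorProduct_repr_tprod_apply (fun _ : ZMod q => 𝔅.β) c f
    rw [tprod_eq_prod] at h
    exact h

end K435.Cyc
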