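import Groth.Agent.Variety.K435.HilbBase
import Groth.Agent.Variety.K435.HilbPerm

/-!
# The cyclic tensor power of a homogeneous coordinate ring

`C = k[x_s]/𝔭` with `𝔭` homogeneous, `P = C^{⊗ q}` with the cyclic action; the bigraded polynomial ring
maps onto `P`, and the trace of the cyclic action on the part of degree `q m` is `dim C_m`.
-/

set_option autoImplicit false
set_option linter.unusedSectionVars false
set_option linter.style.haveILetI false

open DirectSum MvPolynomial Finsupp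

open scoped TensorProduct

namespace K435.Cyc

open K435.Hilb

universe u v

attribute [local instance] MvPolynomial.gradedAlgebra

section basis

variable {k : Type u} [Field k] {n : Type v} [Finite n]

/-- a basis of `k[x]/𝔭` of classes of homogeneous polynomials -/
structure GrBasis (𝔭 : Ideal (MvPolynomial n k)) where
  B : Type v
  β : Module.Basis B k (MvPolynomial n k ⧸ 𝔭)
  deg : B → ℕ
  g : B → MvPolynomial n k
  hg : ∀ b, g b ∈ homogeneousSubmodule n k (deg b)
  hβ : ∀ b, β b = Ideal.Quotient.mkₐ k 𝔭 (g b)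
  hdeg : ∀ m, ∀ F ∈ homogeneousSubmodule n k m, ∀ b,
    β.repr (Ideal.Quotient.mkₐ k 𝔭 F) b ≠ 0 → deg b = m

lemma exists_grBasis {𝔭 : Ideal (MvPolynomial n k)}
    (h𝔭 : 𝔭.IsHomogeneous (homogeneousSubmodule n k)) : Nonempty (GrBasis 𝔭) := by
  classical
  set mk : MvPolynomial n k →ₐ[k] _ := Ideal.Quotient.mkₐ k 𝔭 with hmk
  have hmk0 : ∀ F, mk F = 0 ↔ F ∈ 𝔭 := fun F => Ideal.Quotient.eq_zero_iff_mem
  obtain ⟨κ, a, -, hspan, hli⟩ := exists_linearIndependent' k
    (fun d : n →₀ ℕ => mk (monomial d 1))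
  have htop : ⊤ ≤ Submodule.span k (Set.range (fun b : κ => mk (monomial (a b) 1))) := by
    have e : Set.range (fun b : κ => mk (monomial (a b) 1)) =
      Set.range ((fun d : n →₀ ℕ => mk (monomial d 1)) ∘ a) := rfl
    rw [e, hspan]
    rintro x -
    obtain ⟨F, rfl⟩ := Ideal.Quotient.mkₐ_surjective k 𝔭 x
    rw [← hmk, F.as_sum, map_sum]
    refine Submodule.sum_mem _ fun d _ => ?_
    have : (monomial d) (coeff d F) = coeff d F • (monomial d (1 : k)) := by
      rw [smul_monomial, smul_eq_mul, mul_one]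
    rw [this, map_smul]
    exact Submodule.smul_mem _ _ (Submodule.subset_span ⟨d, rfl⟩)
  let β : Module.Basis κ k (MvPolynomial n k ⧸ 𝔭) := Module.Basis.mk hli htop
  have hβ : ∀ b, β b = mk (monomial (a b) 1) := fun b => Module.Basis.mk_apply _ _ _
  refine ⟨⟨κ, β, fun b => (a b).degree, fun b => monomial (a b) 1, ?_, hβ, ?_⟩⟩
  · intro b
    exact isHomogeneous_monomial _ rfl
  · intro m F hF b₀ hb₀
    by_contra hne
    apply hb₀
    set c := β.repr (mk F) with hc
    have h1 : F - ∑ b ∈ c.support, c b • monomial (a b) (1 : k) ∈ 𝔭 := by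
      rw [← hmk0, map_sub, map_sum, sub_eq_zero]
      conv_lhs => rw [← β.linearCombination_repr (mk F)]
      rw [Finsupp.linearCombination_apply, Finsupp.sum]
      refine Finset.sum_congr rfl fun b _ => ?_
      rw [map_smul, hβ]
    have h2 := h𝔭 m h1
    rw [decompose_sub, DirectSum.sub_apply, Submodule.coe_sub, decompose_of_mem_same _ hF,
      ← hmk0, map_sub, sub_eq_zero] at h2
    have h3 : mk (decompose (homogeneousSubmodule n k)
        (∑ b ∈ c.support, c b • monomial (a b) (1 : k)) m : MvPolynomial n k) =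
        ∑ b ∈ c.support, if (a b).degree = m then c b • β b else 0 := by
      rw [decompose_sum, DirectSum.sum_apply, Submodule.coe_sum, map_sum]
      refine Finset.sum_congr rfl fun b _ => ?_
      have hb : (monomial (a b) (1 : k)) ∈ homogeneousSubmodule n k (a b).degree :=
        isHomogeneous_monomial _ rfl
      have hb' := (homogeneousSubmodule n k (a b).degree).smul_mem (c b) hb
      split_ifs with hm
      · rw [← hm, decompose_of_mem_same _ hb', map_smul, hβ]
      · rw [decompose_of_mem_ne _ hb' hm, map_zero]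
    rw [h3] at h2
    rw [hc, h2, map_sum, Finsupp.finsetSum_apply]
    refine Finset.sum_eq_zero fun b _ => ?_
    split_ifs with hm
    · rw [map_smul, β.repr_self, Finsupp.smul_apply, Finsupp.single_apply, if_neg, smul_zero]
      rintro rfl
      exact hne hm
    · simp

end basis

section tensor

variable {k : Type u} [Field k] {n : Type v} [Finite n] {𝔭 : Ideal (MvPolynomial n k)}

/-- `q`-th tensor power of `k[x]/𝔭` with its cyclic action -/
structure TPow (𝔅 : GrBasis 𝔭) (q : ℕ) [NeZero q] where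
  P : Type (max u v)
  [ring : CommRing P]
  [alg : Algebra k P]
  s : ZMod q → (MvPolynomial n k ⧸ 𝔭) →ₐ[k] P
  sg : ZMod q → P →ₐ[k] P
  sg_s : ∀ t i c, sg t (s i c) = s (i + t) c
  E : Module.Basis (ZMod q → 𝔅.B) k P
  repr_E : ∀ (c : ZMod q → MvPolynomial n k ⧸ 𝔭) (f : ZMod q → 𝔅.B),
    E.repr (∏ i, s i (c i)) f = ∏ i, 𝔅.β.repr (c i) (f i)

attribute [instance] TPow.ring TPow.alg

variable {𝔅 : GrBasis 𝔭} {q : ℕ} [NeZero q] (𝔗 : TPow 𝔅 q)

lemma E_apply (f : ZMod q → 𝔅.B) : 𝔗.E f = ∏ i, 𝔗.s i (𝔅.β (f i)) := by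
  classical
  apply 𝔗.E.repr.injective
  ext g
  rw [𝔗.repr_E, 𝔗.E.repr_self, Finsupp.single_apply]
  simp only [Module.Basis.repr_self, Finsupp.single_apply]
  rw [Fintype.prod_ite_zero]
  simp [funext_iff]

variable (𝔅 q) in
/-- degree of a basis element -/
def dg (f : ZMod q → 𝔅.B) : ℕ := ∑ i, 𝔅.deg (f i)

/-- the degree `N` part of the tensor power -/
noncomputable def Q (N : ℕ) : Submodule k 𝔗.P :=
  Submodule.span k (𝔗.E '' {f | dg 𝔅 q f = N})

lemma mem_Q {N : ℕ} {w : 𝔗.P} :
    w ∈ Q 𝔗 N ↔ ∀ f, 𝔗.E.repr w f ≠ 0 → dg 𝔅 q f = N := by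
  unfold Q
  rw [Module.Basis.mem_span_image]
  constructor
  · intro h f hf
    exact h (Finsupp.mem_support_iff.2 hf)
  · intro h f hf
    exact h f (Finsupp.mem_support_iff.1 hf)

lemma prod_mem {c : ZMod q → MvPolynomial n k ⧸ 𝔭} {ν : ZMod q → ℕ}
    (hc : ∀ i, ∃ F ∈ homogeneousSubmodule n k (ν i), Ideal.Quotient.mkₐ k 𝔭 F = c i) :
    (∏ i, 𝔗.s i (c i)) ∈ Q 𝔗 (∑ i, ν i) := by
  rw [mem_Q]
  intro f hf
  rw [𝔗.repr_E, Finset.prod_ne_zero_iff] at hf
  unfold dg
  refine Finset.sum_congr rfl fun i _ => ?_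
  obtain ⟨F, hF, hFc⟩ := hc i
  refine 𝔅.hdeg (ν i) F hF (f i) ?_
  rw [hFc]
  exact hf i (Finset.mem_univ _)

instance gradedQ : SetLike.GradedMonoid (Q 𝔗) where
  one_mem := by
    have h := prod_mem 𝔗 (c := 1) (ν := 0) (fun i => ⟨1, isHomogeneous_one _ _, map_one _⟩)
    simpa using h
  mul_mem := by
    intro M N a b ha hb
    unfold Q at ha hb
    induction ha using Submodule.span_induction with
    | zero => rw [zero_mul]; exact Submodule.zero_mem _
    | add x y _ _ hx hy => rw [add_mul]; exact Submodule.add_mem _ hx hy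
    | smul r x _ hx => rw [smul_mul_assoc]; exact Submodule.smul_mem _ _ hx
    | mem x hx =>
      obtain ⟨f, hf, rfl⟩ := hx
      induction hb using Submodule.span_induction with
      | zero => rw [mul_zero]; exact Submodule.zero_mem _
      | add x y _ _ hx hy => rw [mul_add]; exact Submodule.add_mem _ hx hy
      | smul r x _ hx => rw [mul_smul_comm]; exact Submodule.smul_mem _ _ hx
      | mem y hy =>
        obtain ⟨g, hg, rfl⟩ := hy
        rw [E_apply, E_apply, ← Finset.prod_mul_distrib]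
        simp only [← map_mul]
        have h := prod_mem 𝔗 (c := fun i => 𝔅.β (f i) * 𝔅.β (g i))
          (ν := fun i => 𝔅.deg (f i) + 𝔅.deg (g i)) (fun i =>
            ⟨𝔅.g (f i) * 𝔅.g (g i), IsHomogeneous.mul (𝔅.hg _) (𝔅.hg _), by
              rw [map_mul, 𝔅.hβ, 𝔅.hβ]⟩)
        rw [Finset.sum_add_distrib] at h
        change dg 𝔅 q f = M at hf
        change dg 𝔅 q g = N at hg
        rw [← hf, ← hg]
        exact h

variable (χ : AddChar (ZMod q) k)

/-- weight spaces of the cyclic shift -/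
noncomputable def V (b : ZMod q) : Submodule k 𝔗.P where
  carrier := {w | ∀ t, 𝔗.sg t w = χ (t * b) • w}
  add_mem' {x y} hx hy t := by rw [map_add, hx t, hy t, smul_add]
  zero_mem' t := by rw [map_zero, smul_zero]
  smul_mem' r x hx t := by rw [map_smul, hx t, smul_comm]

lemma mem_V {b : ZMod q} {w : 𝔗.P} : w ∈ V 𝔗 χ b ↔ ∀ t, 𝔗.sg t w = χ (t * b) • w := Iff.rfl

/-- the bigrading -/
noncomputable def QV (i : ℕ × ZMod q) : Submodule k 𝔗.P := Q 𝔗 i.1 ⊓ V 𝔗 χ i.2

instance gradedQV : SetLike.GradedMonoid (QV 𝔗 χ) where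
  one_mem := ⟨SetLike.GradedOne.one_mem (A := Q 𝔗), fun t => by
    rw [map_one, Prod.snd_zero, mul_zero, AddChar.map_zero_eq_one, one_smul]⟩
  mul_mem := by
    intro i j a b ha hb
    refine ⟨SetLike.GradedMul.mul_mem (A := Q 𝔗) ha.1 hb.1, fun t => ?_⟩
    rw [map_mul, ha.2 t, hb.2 t, smul_mul_smul_comm, Prod.snd_add, mul_add,
      AddChar.map_add_eq_mul]

/-- the map from the bigraded polynomial ring -/
noncomputable def Th : MvPolynomial (n × ZMod q) k →ₐ[k] 𝔗.P :=
  aeval fun p => (q : k)⁻¹ • ∑ i, χ (-(i * p.2)) • 𝔗.s i (Ideal.Quotient.mkₐ k 𝔭 (X p.1))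

lemma Th_mem {i : ℕ × ZMod q} {F : MvPolynomial (n × ZMod q) k} (hF : F ∈ TT k n q i) :
    Th 𝔗 χ F ∈ QV 𝔗 χ i := by
  refine aeval_mem (QV 𝔗 χ) _ (wt n q) (fun p => ?_) hF
  constructor
  · refine Submodule.smul_mem _ _ (Submodule.sum_mem _ fun i _ => Submodule.smul_mem _ _ ?_)
    have h := prod_mem 𝔗 (c := fun j => if j = i then Ideal.Quotient.mkₐ k 𝔭 (X p.1) else 1)
      (ν := Pi.single i 1) (fun j => by
        by_cases hj : j = i
        · subst hj
          rw [Pi.single_eq_same]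
          exact ⟨X p.1, isHomogeneous_X _ _, by simp⟩
        · rw [Pi.single_eq_of_ne hj]
          exact ⟨1, isHomogeneous_one _ _, by simp [hj]⟩)
    rw [Finset.sum_pi_single'] at h
    simp only [Finset.mem_univ, if_true] at h
    have e : (∏ j, 𝔗.s j (if j = i then Ideal.Quotient.mkₐ k 𝔭 (X p.1) else 1)) =
        𝔗.s i (Ideal.Quotient.mkₐ k 𝔭 (X p.1)) := by
      rw [Finset.prod_eq_single i]
      · simp
      · intro j _ hj; simp [hj]
      · intro h; exact absurd (Finset.mem_univ _) h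
    rw [e] at h
    exact h
  · rw [SetLike.mem_coe, mem_V]
    intro t
    simp only [map_smul, map_sum, 𝔗.sg_s]
    rw [smul_comm (χ _), ← Equiv.sum_comp (Equiv.subRight t), Finset.smul_sum (r := χ _)]
    congr 1
    refine Finset.sum_congr rfl fun i _ => ?_
    simp only [Equiv.subRight_apply, sub_add_cancel]
    rw [smul_smul, ← AddChar.map_add_eq_mul]
    congr 2
    change _ = t * p.2 + _
    ring

end tensor

end K435.Cyc
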