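import Groth.Agent.Variety.K435.HilbTensor

/-!
# The trace of the cyclic action on the tensor power

`cf_I0` : `cf ψ (TT k n q) (I0 𝔗 χ) (q * m) = dim (k[x]/𝔭)_m`.
-/

set_option autoImplicit false
set_option linter.unusedSectionVars false
set_option linter.style.haveILetI false

open DirectSum MvPolynomial Finsupp

namespace K435.Cyc

open K435.Hilb

universe u v

attribute [local instance] MvPolynomial.gradedAlgebra

variable {k : Type u} [Field k] {n : Type v} [Finite n] {𝔭 : Ideal (MvPolynomial n k)}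
  {𝔅 : GrBasis 𝔭} {q : ℕ} [NeZero q] (𝔗 : TPow 𝔅 q) (χ : AddChar (ZMod q) k)

/-- `x_s ↦ ∑ a, χ (j a) X (s,a)` -/
noncomputable def phi (j : ZMod q) : MvPolynomial n k →ₐ[k] MvPolynomial (n × ZMod q) k :=
  aeval fun s => ∑ a, χ (j * a) • X (s, a)

lemma phi_zero : phi (n := n) χ 0 = phi0 := by
  unfold phi phi0
  congr 1
  funext s
  refine Finset.sum_congr rfl fun a _ => ?_
  rw [zero_mul, AddChar.map_zero_eq_one, one_smul]

lemma phi_hom (j : ZMod q) {N : ℕ} {F : MvPolynomial n k} (hF : F ∈ homogeneousSubmodule n k N) :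
    (phi χ j F).IsHomogeneous N := by
  have hF' : F.IsHomogeneous N := hF
  have h := hF'.aeval (τ := n × ZMod q) (S := k) (n := 1)
    (fun s : n => ∑ a, χ (j * a) • (X (s, a) : MvPolynomial (n × ZMod q) k)) (fun s => by
      refine IsHomogeneous.sum _ _ _ fun a _ => ?_
      exact (homogeneousSubmodule (n × ZMod q) k 1).smul_mem _ (isHomogeneous_X k _))
  rw [one_mul] at h
  exact h

lemma Th_phi (hχ : χ.IsPrimitive) (hq : (q : k) ≠ 0) (j : ZMod q) (F : MvPolynomial n k) :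
    Th 𝔗 χ (phi χ j F) = 𝔗.s j (Ideal.Quotient.mkₐ k 𝔭 F) := by
  have : (Th 𝔗 χ).comp (phi χ j) = (𝔗.s j).comp (Ideal.Quotient.mkₐ k 𝔭) := by
    refine MvPolynomial.algHom_ext fun s => ?_
    simp only [AlgHom.comp_apply, phi, Th, aeval_X, map_sum, map_smul]
    have e1 : ∀ a : ZMod q, χ (j * a) • (q : k)⁻¹ • ∑ i, χ (-(i * a)) •
        𝔗.s i (Ideal.Quotient.mkₐ k 𝔭 (X s)) =
        ∑ i, ((q : k)⁻¹ * χ (a * (j - i))) • 𝔗.s i (Ideal.Quotient.mkₐ k 𝔭 (X s)) := by
      intro a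
      rw [smul_smul, Finset.smul_sum]
      refine Finset.sum_congr rfl fun i _ => ?_
      rw [smul_smul]
      congr 1
      rw [mul_comm (χ (j * a)), mul_assoc, ← AddChar.map_add_eq_mul]
      congr 2
      ring
    simp only [e1]
    rw [Finset.sum_comm]
    have e2 : ∀ i : ZMod q, ∑ a : ZMod q, ((q : k)⁻¹ * χ (a * (j - i))) •
        𝔗.s i (Ideal.Quotient.mkₐ k 𝔭 (X s)) =
        if i = j then 𝔗.s i (Ideal.Quotient.mkₐ k 𝔭 (X s)) else 0 := by
      intro i
      rw [← Finset.sum_smul, ← Finset.mul_sum, AddChar.sum_mulShift _ hχ, ZMod.card]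
      by_cases h : i = j
      · subst h; simp [hq]
      · rw [if_neg h, if_neg (fun h' => h (sub_eq_zero.1 h').symm)]; simp
    simp only [e2]
    rw [Finset.sum_ite_eq' Finset.univ j, if_pos (Finset.mem_univ _)]
  exact DFunLike.congr_fun this F

lemma decompose_TT (F : MvPolynomial (n × ZMod q) k) (i : ℕ × ZMod q) :
    (decompose (TT k n q) F i : MvPolynomial (n × ZMod q) k) =
      weightedHomogeneousComponent (wt n q) i F := by
  classical
  exact MvPolynomial.decompose'_apply k (wt n q) F i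

lemma sum_comp {F : MvPolynomial (n × ZMod q) k} {N : ℕ} (hF : F.IsHomogeneous N) :
    F = ∑ b, (decompose (TT k n q) F (N, b) : MvPolynomial (n × ZMod q) k) := by
  classical
  ext d
  rw [coeff_sum]
  simp only [decompose_TT, coeff_weightedHomogeneousComponent]
  by_cases hd : coeff d F = 0
  · simp [hd]
  · have h1 : (weight (wt n q) d).1 = N := by
      rw [weight_fst, Finsupp.degree_eq_weight_one]
      exact hF hd
    have h2 : ∀ b : ZMod q, weight (wt n q) d = (N, b) ↔ (weight (wt n q) d).2 = b := by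
      intro b
      rw [Prod.ext_iff]
      simp [h1]
    simp only [h2]
    rw [Finset.sum_ite_eq Finset.univ, if_pos (Finset.mem_univ _)]

lemma Th_comp (hχ : χ.IsPrimitive) (hq : (q : k) ≠ 0) {F : MvPolynomial (n × ZMod q) k} {N : ℕ}
    (hF : F.IsHomogeneous N) {b : ZMod q} (hb : Th 𝔗 χ F ∈ V 𝔗 χ b) :
    Th 𝔗 χ F = Th 𝔗 χ (decompose (TT k n q) F (N, b) : MvPolynomial (n × ZMod q) k) := by
  have e1 : ∀ t, 𝔗.sg t (Th 𝔗 χ F) = ∑ c : ZMod q,
      χ (t * c) • Th 𝔗 χ (decompose (TT k n q) F (N, c) : MvPolynomial (n × ZMod q) k) := by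
    intro t
    conv_lhs => rw [sum_comp hF, map_sum, map_sum]
    refine Finset.sum_congr rfl fun c _ => ?_
    exact (Th_mem 𝔗 χ (decompose (TT k n q) F (N, c)).2).2 t
  have e2 : (q : k) • Th 𝔗 χ F = ∑ t : ZMod q, χ (-(t * b)) • 𝔗.sg t (Th 𝔗 χ F) := by
    have : ∀ t : ZMod q, χ (-(t * b)) • 𝔗.sg t (Th 𝔗 χ F) = Th 𝔗 χ F := by
      intro t
      rw [hb t, smul_smul, ← AddChar.map_add_eq_mul, neg_add_cancel, AddChar.map_zero_eq_one,
        one_smul]
    simp only [this]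
    rw [Finset.sum_const, Finset.card_univ, ZMod.card, ← Nat.cast_smul_eq_nsmul k]
  have e3 : (q : k) • Th 𝔗 χ F =
      (q : k) • Th 𝔗 χ (decompose (TT k n q) F (N, b) : MvPolynomial (n × ZMod q) k) := by
    rw [e2]
    simp only [e1, Finset.smul_sum, smul_smul]
    rw [Finset.sum_comm]
    have : ∀ c : ZMod q, ∑ t : ZMod q, (χ (-(t * b)) * χ (t * c)) •
        Th 𝔗 χ (decompose (TT k n q) F (N, c) : MvPolynomial (n × ZMod q) k) =
        if c = b then (q : k) • Th 𝔗 χ (decompose (TT k n q) F (N, c) : MvPolynomial (n × ZMod q) k)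
          else 0 := by
      intro c
      rw [← Finset.sum_smul]
      have h1 : ∀ t : ZMod q, χ (-(t * b)) * χ (t * c) = χ (t * (c - b)) := by
        intro t
        rw [← AddChar.map_add_eq_mul]
        congr 1; ring
      simp only [h1]
      rw [AddChar.sum_mulShift _ hχ, ZMod.card]
      by_cases h : c = b
      · subst h; simp
      · rw [if_neg h, if_neg (fun h' => h (sub_eq_zero.1 h'))]; simp
    simp only [this]
    rw [Finset.sum_ite_eq' Finset.univ b, if_pos (Finset.mem_univ _)]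
  exact smul_right_injective _ hq e3

lemma map_Th (hχ : χ.IsPrimitive) (hq : (q : k) ≠ 0) (N : ℕ) (b : ZMod q) :
    (TT k n q (N, b)).map (Th 𝔗 χ).toLinearMap = QV 𝔗 χ (N, b) := by
  apply le_antisymm
  · rintro _ ⟨F, hF, rfl⟩
    exact Th_mem 𝔗 χ hF
  · intro w hw
    have hQ : Q 𝔗 N ≤ (homogeneousSubmodule (n × ZMod q) k N).map (Th 𝔗 χ).toLinearMap := by
      unfold Q
      rw [Submodule.span_le]
      rintro _ ⟨f, hf, rfl⟩
      refine ⟨∏ i, phi χ i (𝔅.g (f i)), ?_, ?_⟩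
      · have h := IsHomogeneous.prod Finset.univ (fun i => phi χ i (𝔅.g (f i)))
          (fun i => 𝔅.deg (f i)) (fun i _ => phi_hom χ i (𝔅.hg (f i)))
        change dg 𝔅 q f = N at hf
        rw [← hf]
        exact h
      · change Th 𝔗 χ _ = _
        rw [map_prod, E_apply]
        refine Finset.prod_congr rfl fun i _ => ?_
        rw [Th_phi 𝔗 χ hχ hq, 𝔅.hβ]
    obtain ⟨F, hF, hFw⟩ := hQ hw.1
    change Th 𝔗 χ F = w at hFw
    have hV := hw.2
    rw [← hFw] at hV ⊢
    rw [Th_comp 𝔗 χ hχ hq hF hV]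
    exact ⟨_, (decompose (TT k n q) F (N, b)).2, rfl⟩

/-- the bihomogeneous ideal of the tensor power -/
noncomputable def I0 : Ideal (MvPolynomial (n × ZMod q) k) :=
  (Ideal.homogeneousCore (TT k n q) (RingHom.ker (Th 𝔗 χ))).toIdeal

lemma I0_hom : (I0 𝔗 χ).IsHomogeneous (TT k n q) :=
  (Ideal.homogeneousCore (TT k n q) (RingHom.ker (Th 𝔗 χ))).isHomogeneous

lemma mem_I0 {i : ℕ × ZMod q} {F : MvPolynomial (n × ZMod q) k} (hF : F ∈ TT k n q i) :
    Th 𝔗 χ F = 0 ↔ F ∈ I0 𝔗 χ := by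
  constructor
  · intro h
    exact Ideal.mem_homogeneousCore_of_homogeneous_of_mem ⟨i, hF⟩ h
  · intro h
    exact Ideal.toIdeal_homogeneousCore_le (TT k n q) (RingHom.ker (Th 𝔗 χ)) h

lemma phi0_mem_I0 (h𝔭 : 𝔭.IsHomogeneous (homogeneousSubmodule n k)) (hχ : χ.IsPrimitive)
    (hq : (q : k) ≠ 0) : ∀ F ∈ 𝔭, phi0 F ∈ I0 𝔗 χ := by
  classical
  intro F hF
  have key : ∀ N, phi0 (decompose (homogeneousSubmodule n k) F N : MvPolynomial n k) ∈ I0 𝔗 χ := by
    intro N
    set G := (decompose (homogeneousSubmodule n k) F N : MvPolynomial n k) with hG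
    have hG1 : G ∈ homogeneousSubmodule n k N := (decompose (homogeneousSubmodule n k) F N).2
    have hG2 : G ∈ 𝔭 := h𝔭 N hF
    have h0 : Th 𝔗 χ (phi0 G) = 0 := by
      rw [← phi_zero χ, Th_phi 𝔗 χ hχ hq]
      have : Ideal.Quotient.mkₐ k 𝔭 G = 0 := Ideal.Quotient.eq_zero_iff_mem.2 hG2
      rw [this, map_zero]
    have hh : (phi0 (q := q) G).IsHomogeneous N := by
      rw [← phi_zero χ]; exact phi_hom χ 0 hG1
    rw [sum_comp hh]
    refine Ideal.sum_mem _ fun b _ => ?_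
    rw [← mem_I0 𝔗 χ (decompose (TT k n q) (phi0 G) (N, b)).2,
      ← Th_comp 𝔗 χ hχ hq hh (b := b) (by rw [h0]; exact Submodule.zero_mem _), h0]
  rw [← DirectSum.sum_support_decompose (homogeneousSubmodule n k) F, map_sum]
  exact Ideal.sum_mem _ fun N _ => key N

end K435.Cyc
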