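import Groth.Agent.Variety.K435.HilbTensor2

/-!
# Dimension count

`cf_I0` : `cf ψ (TT k n q) (I0 𝔗 χ) (q * m) = dim (k[x]/𝔭)_m`.
-/

set_option autoImplicit false
set_option linter.unusedSectionVars false
set_option linter.style.haveILetI false

open DirectSum MvPolynomial Finsupp

namespace K435.Cyc

open K435.Hilb

universe u v

attribute [local instance] MvPolynomial.gradedAlgebra

section card

variable {k : Type u} [Field k] {n : Type v} [Finite n] {𝔭 : Ideal (MvPolynomial n k)}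
  (𝔅 : GrBasis 𝔭)

/-- basis elements of degree `m` -/
abbrev Bm (m : ℕ) : Type v := {b : 𝔅.B // 𝔅.deg b = m}

lemma span_Bm (m : ℕ) : Submodule.span k (Set.range fun b : Bm 𝔅 m => 𝔅.β b.1) =
    (homogeneousSubmodule n k m).map (Ideal.Quotient.mkₐ k 𝔭).toLinearMap := by
  apply le_antisymm
  · rw [Submodule.span_le]
    rintro _ ⟨⟨b, hb⟩, rfl⟩
    refine ⟨𝔅.g b, ?_, ?_⟩
    · have := 𝔅.hg b
      rw [hb] at this
      exact this
    · exact (𝔅.hβ b).symm
  · rintro _ ⟨F, hF, rfl⟩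
    change Ideal.Quotient.mkₐ k 𝔭 F ∈ _
    rw [← 𝔅.β.linearCombination_repr (Ideal.Quotient.mkₐ k 𝔭 F),
      Finsupp.linearCombination_apply, Finsupp.sum]
    refine Submodule.sum_mem _ fun b hb => Submodule.smul_mem _ _ (Submodule.subset_span ?_)
    exact ⟨⟨b, 𝔅.hdeg m F hF b (Finsupp.mem_support_iff.1 hb)⟩, rfl⟩

lemma finite_Bm (m : ℕ) : Finite (Bm 𝔅 m) := by
  have hli : LinearIndependent k (fun b : Bm 𝔅 m => 𝔅.β b.1) :=
    𝔅.β.linearIndependent.comp _ Subtype.val_injective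
  let e := Module.Basis.span hli
  haveI : Module.Finite k (Submodule.span k (Set.range fun b : Bm 𝔅 m => 𝔅.β b.1)) := by
    rw [span_Bm]; infer_instance
  exact Module.Finite.finite_basis e

lemma card_Bm (m : ℕ) : Nat.card (Bm 𝔅 m) = H (homogeneousSubmodule n k) 𝔭 m := by
  have hli : LinearIndependent k (fun b : Bm 𝔅 m => 𝔅.β b.1) :=
    𝔅.β.linearIndependent.comp _ Subtype.val_injective
  rw [H_eq_finrank_map (homogeneousSubmodule n k) 𝔭 m (Ideal.Quotient.mkₐ k 𝔭).toLinearMap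
    (fun F _ => Ideal.Quotient.eq_zero_iff_mem), ← span_Bm,
    Module.finrank_eq_nat_card_basis (Module.Basis.span hli)]

end card

section

variable {k : Type u} [Field k] {n : Type v} [Finite n] {𝔭 : Ideal (MvPolynomial n k)}
  (𝔅 : GrBasis 𝔭) (q : ℕ) [NeZero q]

/-- the basis elements of degree `N` of the tensor power -/
abbrev XN (N : ℕ) : Type v := {f : ZMod q → 𝔅.B // dg 𝔅 q f = N}

lemma dg_shift (f : ZMod q → 𝔅.B) (t : ZMod q) : dg 𝔅 q (fun i => f (i - t)) = dg 𝔅 q f := by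
  unfold dg
  exact Equiv.sum_comp (Equiv.subRight t) fun i => 𝔅.deg (f i)

instance (N : ℕ) : AddAction (ZMod q) (XN 𝔅 q N) where
  vadd t f := ⟨fun i => f.1 (i - t), by rw [dg_shift]; exact f.2⟩
  zero_vadd f := by
    apply Subtype.ext
    funext i
    change f.1 (i - 0) = f.1 i
    rw [sub_zero]
  add_vadd t t' f := by
    apply Subtype.ext
    funext i
    change f.1 (i - (t + t')) = f.1 (i - t - t')
    rw [sub_sub]

lemma vadd_val {N : ℕ} (t : ZMod q) (f : XN 𝔅 q N) : (t +ᵥ f).1 = fun i => f.1 (i - t) := rfl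

instance (N : ℕ) : Finite (XN 𝔅 q N) := by
  haveI : ∀ m, Finite (Bm 𝔅 m) := finite_Bm 𝔅
  have hfin : Finite (Σ m : Fin (N + 1), Bm 𝔅 m) := inferInstance
  have hle : ∀ (f : XN 𝔅 q N) (i : ZMod q), 𝔅.deg (f.1 i) < N + 1 := by
    intro f i
    have h := f.2
    unfold dg at h
    have := Finset.single_le_sum (f := fun i => 𝔅.deg (f.1 i)) (fun _ _ => Nat.zero_le _)
      (Finset.mem_univ i)
    omega
  refine Finite.of_injective (β := ZMod q → Σ m : Fin (N + 1), Bm 𝔅 m)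
    (fun f i => ⟨⟨𝔅.deg (f.1 i), hle f i⟩, ⟨f.1 i, rfl⟩⟩) ?_
  intro f g hfg
  apply Subtype.ext
  funext i
  have h := congrFun hfg i
  have h' := congrArg (fun x : Σ m : Fin (N + 1), Bm 𝔅 m => x.2.1) h
  exact h'

lemma card_Fx [Fact q.Prime] (m : ℕ) : Nat.card (Fx (q := q) (XN 𝔅 q (q * m))) = Nat.card (Bm 𝔅 m) := by
  refine Nat.card_congr
    { toFun := fun f => ⟨f.1.1 0, ?_⟩
      invFun := fun b => ⟨⟨fun _ => b.1, ?_⟩, ?_⟩
      left_inv := ?_
      right_inv := ?_ }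
  · obtain ⟨f, hf⟩ := f
    have hc : ∀ i, f.1 i = f.1 0 := by
      intro i
      have h := congrArg (fun g : XN 𝔅 q (q * m) => g.1 i) (hf i)
      change f.1 (i - i) = f.1 i at h
      rw [← h, sub_self]
    have h := f.2
    unfold dg at h
    simp only [hc] at h
    rw [Finset.sum_const, Finset.card_univ, ZMod.card, smul_eq_mul] at h
    exact Nat.eq_of_mul_eq_mul_left (Nat.pos_of_ne_zero (NeZero.ne q)) h
  · unfold dg
    rw [Finset.sum_const, Finset.card_univ, ZMod.card, smul_eq_mul, b.2]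
  · intro t
    rfl
  · rintro ⟨f, hf⟩
    apply Subtype.ext
    apply Subtype.ext
    funext i
    have h := congrArg (fun g : XN 𝔅 q (q * m) => g.1 i) (hf i)
    change f.1 (i - i) = f.1 i at h
    rw [sub_self] at h
    exact h
  · intro b
    rfl

variable {𝔅 q} [Fact q.Prime] (𝔗 : TPow 𝔅 q) (χ : AddChar (ZMod q) k)

lemma sg_E (t : ZMod q) (f : ZMod q → 𝔅.B) : 𝔗.sg t (𝔗.E f) = 𝔗.E fun i => f (i - t) := by
  rw [E_apply, E_apply, map_prod]
  simp only [𝔗.sg_s]
  rw [← Equiv.prod_comp (Equiv.subRight t)]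
  refine Finset.prod_congr rfl fun i _ => ?_
  simp only [Equiv.subRight_apply, sub_add_cancel]

lemma repr_sg (t : ZMod q) (w : 𝔗.P) (f : ZMod q → 𝔅.B) :
    𝔗.E.repr (𝔗.sg t w) (fun i => f (i - t)) = 𝔗.E.repr w f := by
  have : (Finsupp.lapply (fun i => f (i - t))) ∘ₗ 𝔗.E.repr.toLinearMap ∘ₗ (𝔗.sg t).toLinearMap =
      (Finsupp.lapply f) ∘ₗ 𝔗.E.repr.toLinearMap := by
    classical
    refine 𝔗.E.ext fun g => ?_
    simp only [LinearMap.comp_apply, AlgHom.toLinearMap_apply, LinearEquiv.coe_coe,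
      Finsupp.lapply_apply]
    rw [sg_E, 𝔗.E.repr_self, 𝔗.E.repr_self, Finsupp.single_apply, Finsupp.single_apply]
    congr 1
    rw [eq_iff_iff]
    constructor
    · intro h
      funext i
      have := congrFun h (i + t)
      simpa using this
    · rintro rfl; rfl
  exact LinearMap.congr_fun this w

/-- coordinates -/
noncomputable def coord (N : ℕ) (b : ZMod q) : QV 𝔗 χ (N, b) →ₗ[k] U (XN 𝔅 q N) χ b where
  toFun w := ⟨fun x => 𝔗.E.repr w.1 x.1, by
    rw [mem_U]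
    intro t x
    have h1 := repr_sg 𝔗 t w.1 x.1
    rw [w.2.2 t, map_smul, Finsupp.smul_apply, smul_eq_mul] at h1
    rw [vadd_val, ← h1, ← mul_assoc, ← AddChar.map_add_eq_mul]
    change _ = χ (-(t * b) + t * b) * _
    rw [neg_add_cancel, AddChar.map_zero_eq_one, one_mul]⟩
  map_add' w w' := by
    ext x
    simp
  map_smul' r w := by
    ext x
    simp

lemma coord_bij (N : ℕ) (b : ZMod q) : Function.Bijective (coord 𝔗 χ N b) := by
  classical
  haveI := Fintype.ofFinite (XN 𝔅 q N)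
  constructor
  · rw [← LinearMap.ker_eq_bot, LinearMap.ker_eq_bot']
    intro w hw
    apply Subtype.ext
    apply 𝔗.E.repr.injective
    rw [ZeroMemClass.coe_zero, map_zero]
    ext f
    by_contra hne
    have hf := (mem_Q 𝔗).1 w.2.1 f hne
    have := congrFun (congrArg Subtype.val hw) ⟨f, hf⟩
    exact hne this
  · intro c
    let w : 𝔗.P := ∑ x : XN 𝔅 q N, c.1 x • 𝔗.E x.1
    have hwQ : w ∈ Q 𝔗 N :=
      Submodule.sum_mem _ fun x _ => Submodule.smul_mem _ _ (Submodule.subset_span ⟨x.1, x.2, rfl⟩)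
    have hwV : w ∈ V 𝔗 χ b := by
      rw [mem_V]
      intro t
      simp only [w, map_sum, map_smul, sg_E]
      rw [Finset.smul_sum]
      have h1 : ∀ x : XN 𝔅 q N, c.1 x • 𝔗.E (fun i => x.1 (i - t)) =
          (χ (t * b) • c.1 (t +ᵥ x)) • 𝔗.E (t +ᵥ x).1 := by
        intro x
        rw [vadd_val, c.2 t x, smul_eq_mul, ← mul_assoc, ← AddChar.map_add_eq_mul,
          add_neg_cancel, AddChar.map_zero_eq_one, one_mul]
      simp only [h1]
      refine (Equiv.sum_comp (AddAction.toPerm (α := ZMod q) (β := XN 𝔅 q N) t)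
        (fun y => (χ (t * b) • c.1 y) • 𝔗.E y.1)).trans ?_
      refine Finset.sum_congr rfl fun y _ => ?_
      rw [smul_assoc]
    refine ⟨⟨w, hwQ, hwV⟩, ?_⟩
    ext x
    change 𝔗.E.repr (∑ y : XN 𝔅 q N, c.1 y • 𝔗.E y.1) x.1 = c.1 x
    rw [map_sum, Finsupp.finsetSum_apply]
    simp only [map_smul, 𝔗.E.repr_self, Finsupp.smul_apply, Finsupp.single_apply, smul_eq_mul,
      mul_ite, mul_one, mul_zero]
    rw [Finset.sum_eq_single x]
    · rw [if_pos rfl]
    · intro y _ hy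
      rw [if_neg fun h => hy (Subtype.ext h)]
    · intro h; exact absurd (Finset.mem_univ _) h

theorem cf_I0 (hχ : χ.IsPrimitive) (hq : (q : k) ≠ 0) {ψ : AddChar (ZMod q) ℂ}
    (hψ : ψ ≠ 1) (m : ℕ) :
    cf ψ (TT k n q) (I0 𝔗 χ) (q * m) = (H (homogeneousSubmodule n k) 𝔭 m : ℂ) := by
  unfold cf
  have h : ∀ b : ZMod q, H (TT k n q) (I0 𝔗 χ) (q * m, b) =
      Module.finrank k (U (XN 𝔅 q (q * m)) χ b) := by
    intro b
    rw [H_eq_finrank_map (TT k n q) (I0 𝔗 χ) (q * m, b) (Th 𝔗 χ).toLinearMap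
      (fun F hF => mem_I0 𝔗 χ hF), map_Th 𝔗 χ hχ hq]
    exact (LinearEquiv.ofBijective _ (coord_bij 𝔗 χ (q * m) b)).finrank_eq
  simp only [h]
  rw [sum_finrank_U _ χ hχ hψ, card_Fx, card_Bm]

end

end K435.Cyc
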