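import Groth.Agent.Variety.K435.HensFin
import Groth.Agent.S2821
import Mathlib.NumberTheory.RamificationInertia.Basic
import Mathlib.RingTheory.DiscreteValuationRing.TFAE

/-!
# Points of degree the multiplicity of a component

`R` a henselian discrete valuation ring, `A` a regular local `R`-algebra essentially of finite type with trivial residue
extension, `ϖ A = t^a A` with `A/t` regular. Then there is a field `L` of degree `a` over the fraction field of `R` and an
`R`-homomorphism `A → L`.
-/

set_option autoImplicit false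
universe u

open IsLocalRing

namespace K435.LocPoint

section Basis

variable (R : Type u) [CommRing R] [IsDomain R] [IsDiscreteValuationRing R]
  (B : Type u) [CommRing B] [IsLocalRing B] [Algebra R B]
  (t : B) (ht : maximalIdeal B = Ideal.span {t}) (a : ℕ)
  (ha : (maximalIdeal R).map (algebraMap R B) = Ideal.span {t ^ a})
  (hres : ∀ b : B, ∃ r : R, b - algebraMap R B r ∈ maximalIdeal B)

include ht hres in
theorem approx (n : ℕ) (b : B) : ∃ c : ℕ → R, b - ∑ i ∈ Finset.range n, algebraMap R B (c i) * t ^ i ∈ Ideal.span {t ^ n} := by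
  induction n with
  | zero => exact ⟨0, by simp⟩
  | succ n ih =>
    obtain ⟨c, hc⟩ := ih
    obtain ⟨y, hy⟩ := Ideal.mem_span_singleton'.1 hc
    obtain ⟨r, hr⟩ := hres y
    rw [ht] at hr
    obtain ⟨z, hz⟩ := Ideal.mem_span_singleton'.1 hr
    refine ⟨Function.update c n r, ?_⟩
    rw [Finset.sum_range_succ, Function.update_self]
    have h1 : ∑ i ∈ Finset.range n, algebraMap R B (Function.update c n r i) * t ^ i =
        ∑ i ∈ Finset.range n, algebraMap R B (c i) * t ^ i := by
      refine Finset.sum_congr rfl fun i hi => ?_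
      rw [Function.update_of_ne (Finset.mem_range.1 hi).ne]
    rw [h1]
    refine Ideal.mem_span_singleton'.2 ⟨z, ?_⟩
    have h2 : b - (∑ i ∈ Finset.range n, algebraMap R B (c i) * t ^ i + algebraMap R B r * t ^ n) =
        (b - ∑ i ∈ Finset.range n, algebraMap R B (c i) * t ^ i) - algebraMap R B r * t ^ n := by ring
    rw [h2, ← hy]
    have h3 : y = z * t + algebraMap R B r := by rw [hz]; ring
    rw [h3, pow_succ]
    ring

/-- The vectors `t^i`, `i < a`, in `B / 𝔪_R B`. -/
noncomputable def vec : Fin a → B ⧸ (maximalIdeal R).map (algebraMap R B) := fun i =>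
  Ideal.Quotient.mk _ (t ^ (i : ℕ))

include ht ha hres in
theorem span_vec : ⊤ ≤ Submodule.span (R ⧸ maximalIdeal R) (Set.range (vec R B t a)) := by
  rintro y -
  obtain ⟨b, rfl⟩ := Ideal.Quotient.mk_surjective y
  obtain ⟨c, hc⟩ := approx R B t ht hres a b
  rw [← ha] at hc
  have h1 : Ideal.Quotient.mk ((maximalIdeal R).map (algebraMap R B)) b =
      ∑ i : Fin a, (Ideal.Quotient.mk (maximalIdeal R) (c i)) • vec R B t a i := by
    rw [(Ideal.Quotient.mk_eq_mk_iff_sub_mem b (∑ i ∈ Finset.range a, algebraMap R B (c i) * t ^ i)).2 hc]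
    rw [map_sum, ← Fin.sum_univ_eq_sum_range (fun i => Ideal.Quotient.mk ((maximalIdeal R).map (algebraMap R B))
      (algebraMap R B (c i) * t ^ i)) a]
    refine Finset.sum_congr rfl fun i _ => ?_
    rw [Algebra.smul_def, map_mul]
    rfl
  rw [h1]
  exact Submodule.sum_mem _ fun i _ => Submodule.smul_mem _ _ (Submodule.subset_span ⟨i, rfl⟩)

include ht ha in
theorem linearIndependent_vec [IsDomain B] (ht0 : t ≠ 0) :
    LinearIndependent (R ⧸ maximalIdeal R) (vec R B t a) := by
  rw [Fintype.linearIndependent_iff]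
  intro g hg
  choose c hc using fun i => Ideal.Quotient.mk_surjective (g i)
  have h1 : ∑ i : Fin a, algebraMap R B (c i) * t ^ (i : ℕ) ∈ Ideal.span {t ^ a} := by
    rw [← ha, ← Ideal.Quotient.eq_zero_iff_mem, map_sum, ← hg]
    refine Finset.sum_congr rfl fun i _ => ?_
    rw [← hc i, Algebra.smul_def, map_mul]
    rfl
  have htu : ¬ IsUnit t := by
    have : t ∈ maximalIdeal B := by rw [ht]; exact Ideal.mem_span_singleton_self t
    exact (IsLocalRing.mem_maximalIdeal t).1 this
  have key : ∀ n : ℕ, ∀ i : Fin a, (i : ℕ) = n → c i ∈ maximalIdeal R := by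
    intro n
    induction n using Nat.strong_induction_on with
    | _ n ih =>
      intro i hi
      by_contra hci
      have hu : IsUnit (c i) := by
        by_contra hu
        exact hci ((IsLocalRing.mem_maximalIdeal _).2 hu)
      have hle : Ideal.span {t ^ a} ≤ Ideal.span {t ^ (n + 1)} := by
        rw [Ideal.span_singleton_le_span_singleton]
        exact pow_dvd_pow t (by have := i.2; omega)
      have h2 : algebraMap R B (c i) * t ^ n ∈ Ideal.span {t ^ (n + 1)} := by
        have h3 := hle h1
        rw [← Finset.add_sum_erase _ _ (Finset.mem_univ i), hi] at h3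
        refine (Ideal.add_mem_iff_left _ ?_).1 h3
        refine Ideal.sum_mem _ fun j hj => ?_
        have hji : j ≠ i := Finset.ne_of_mem_erase hj
        rcases lt_or_gt_of_ne (fun e : (j : ℕ) = i => hji (Fin.ext e)) with h | h
        · have h4 := ih j (by omega) j rfl
          have h5 : algebraMap R B (c j) ∈ Ideal.span {t ^ a} := by
            rw [← ha]
            exact Ideal.mem_map_of_mem _ h4
          exact Ideal.mul_mem_right _ _ (hle h5)
        · refine Ideal.mul_mem_left _ _ ?_
          rw [Ideal.mem_span_singleton]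
          exact pow_dvd_pow t (by omega)
      obtain ⟨z, hz⟩ := Ideal.mem_span_singleton'.1 h2
      have h6 : algebraMap R B (c i) = z * t := by
        apply mul_right_cancel₀ (pow_ne_zero n ht0)
        rw [← hz, pow_succ]
        ring
      exact htu (isUnit_of_mul_isUnit_right (h6 ▸ hu.map (algebraMap R B)))
  intro i
  rw [← hc i, Ideal.Quotient.eq_zero_iff_mem]
  exact key i i rfl

include ht ha hres in
theorem finrank_quot [IsDomain B] (ht0 : t ≠ 0) :
    Module.finrank (R ⧸ maximalIdeal R) (B ⧸ (maximalIdeal R).map (algebraMap R B)) = a := by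
  let b := Module.Basis.mk (linearIndependent_vec R B t ht a ha ht0) (span_vec R B t ht a ha hres)
  have : Nontrivial (R ⧸ maximalIdeal R) := Ideal.Quotient.nontrivial_iff.2 (maximalIdeal.isMaximal R).ne_top
  rw [Module.finrank_eq_card_basis b, Fintype.card_fin]

include ht ha hres in
theorem finite_quot : Module.Finite R (B ⧸ (maximalIdeal R).map (algebraMap R B)) := by
  have h1 : Module.Finite (R ⧸ maximalIdeal R) (B ⧸ (maximalIdeal R).map (algebraMap R B)) := by
    refine ⟨?_⟩
    rw [← top_le_iff.1 (span_vec R B t ht a ha hres)]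
    exact Submodule.fg_span (Set.finite_range _)
  exact Module.Finite.trans (R ⧸ maximalIdeal R) _

end Basis

/-- The one-dimensional case. -/
theorem exists_field_of_dvr (R : Type u) [CommRing R] [IsDomain R] [IsDiscreteValuationRing R] [HenselianLocalRing R]
    (B : Type u) [CommRing B] [IsLocalRing B] [IsDomain B] [IsDedekindDomain B] [Algebra R B] [Algebra.EssFiniteType R B]
    (hloc : IsLocalHom (algebraMap R B))
    (t : B) (ht0 : t ≠ 0) (ht : maximalIdeal B = Ideal.span {t}) (a : ℕ)
    (ha : (maximalIdeal R).map (algebraMap R B) = Ideal.span {t ^ a})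
    (hres : ∀ b : B, ∃ r : R, b - algebraMap R B r ∈ maximalIdeal B) :
    ∃ (L : Type u) (_ : Field L) (_ : Algebra (FractionRing R) L) (φ : B →+* L),
      FiniteDimensional (FractionRing R) L ∧ Module.finrank (FractionRing R) L = a ∧
      φ.comp (algebraMap R B) = (algebraMap (FractionRing R) L).comp (algebraMap R (FractionRing R)) := by
  have hfin : Module.Finite R B := HensFin.finite_of_essFiniteType R B (finite_quot R B t ht a ha hres)
  obtain ⟨ϖ, hϖ⟩ := IsDiscreteValuationRing.exists_irreducible R
  have hϖB : algebraMap R B ϖ ≠ 0 := by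
    intro h0
    rw [hϖ.maximalIdeal_eq, Ideal.map_span, Set.image_singleton, h0, Ideal.span_singleton_eq_bot.2 rfl] at ha
    exact pow_ne_zero a ht0 (Ideal.span_singleton_eq_bot.1 ha.symm)
  have hinj : Function.Injective (algebraMap R B) := by
    rw [RingHom.injective_iff_ker_eq_bot]
    by_contra hker
    have hp : (RingHom.ker (algebraMap R B)).IsPrime := RingHom.ker_isPrime _
    have hm : (RingHom.ker (algebraMap R B)) = maximalIdeal R :=
      IsLocalRing.eq_maximalIdeal (hp.isMaximal hker)
    have : ϖ ∈ RingHom.ker (algebraMap R B) := by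
      rw [hm, hϖ.maximalIdeal_eq]
      exact Ideal.mem_span_singleton_self ϖ
    exact hϖB this
  have hfaith : FaithfulSMul R B := (faithfulSMul_iff_algebraMap_injective R B).2 hinj
  let L := FractionRing B
  let K := FractionRing R
  have hinjL : Function.Injective (algebraMap R L) :=
    (IsFractionRing.injective B L).comp hinj
  let j : K →+* L := IsFractionRing.lift (g := algebraMap R L) hinjL
  let _ : Algebra K L := j.toAlgebra
  have htow : IsScalarTower R K L := IsScalarTower.of_algebraMap_eq fun r =>
    (IsFractionRing.lift_algebraMap hinjL r).symm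
  have htow' : IsScalarTower R B L := inferInstance
  have hfinL : FiniteDimensional K L := by
    exact Module.Finite.of_isLocalization R B (nonZeroDivisors R)
  refine ⟨L, inferInstance, inferInstance, algebraMap B L, hfinL, ?_, ?_⟩
  · rw [← finrank_quot R B t ht a ha hres ht0]
    exact (Ideal.finrank_quotient_map (S := B) (maximalIdeal R) K L).symm
  · ext r
    change algebraMap B L (algebraMap R B r) = j (algebraMap R K r)
    rw [IsFractionRing.lift_algebraMap]
    rfl

lemma exists_ringKrullDim_eq (A : Type u) [CommRing A] [IsLocalRing A] [IsNoetherianRing A] :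
    ∃ k : ℕ, ringKrullDim A = k := by
  have h1 : ringKrullDim A ≠ ⊤ := ringKrullDim_ne_top
  have h2 : ringKrullDim A ≠ ⊥ := ringKrullDim_ne_bot
  obtain ⟨a, ha⟩ := WithBot.ne_bot_iff_exists.1 h2
  have h3 : a ≠ ⊤ := by
    rintro rfl
    exact h1 ha.symm
  obtain ⟨n, rfl⟩ := ENat.ne_top_iff_exists.1 h3
  exact ⟨n, ha.symm⟩

/-- The general case: `A` regular local, essentially of finite type over the henselian discrete valuation ring `R` with
trivial residue extension, `𝔪_R A = t^a A` and `A/t` regular. -/
theorem exists_field (R : Type u) [CommRing R] [IsDomain R] [IsDiscreteValuationRing R] [HenselianLocalRing R]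
    (A : Type u) [CommRing A] [IsRegularLocalRing A] [Algebra R A] [Algebra.EssFiniteType R A]
    (hloc : IsLocalHom (algebraMap R A)) (t : A) (htm : t ∈ maximalIdeal A) (ht0 : t ≠ 0)
    (hreg : IsRegularLocalRing (A ⧸ Ideal.span {t})) (a : ℕ)
    (ha : (maximalIdeal R).map (algebraMap R A) = Ideal.span {t ^ a})
    (hres : ∀ b : A, ∃ r : R, b - algebraMap R A r ∈ maximalIdeal A) :
    ∃ (L : Type u) (_ : Field L) (_ : Algebra (FractionRing R) L) (φ : A →+* L),
      FiniteDimensional (FractionRing R) L ∧ Module.finrank (FractionRing R) L = a ∧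
      φ.comp (algebraMap R A) = (algebraMap (FractionRing R) L).comp (algebraMap R (FractionRing R)) := by
  classical
  obtain ⟨hdom, -⟩ := Groth.Agent.S2821.result A
  -- parameters
  obtain ⟨s, hs1, hs2⟩ := Submodule.FG.exists_span_finset_card_eq_spanFinrank
    (IsNoetherian.noetherian (maximalIdeal (A ⧸ Ideal.span {t})))
  choose lift hlift using (Ideal.Quotient.mk_surjective (I := Ideal.span {t}))
  let s' : Finset A := s.image lift
  have hs'card : s'.card ≤ s.card := Finset.card_image_le
  have hmap : (Ideal.span (s' : Set A)).map (Ideal.Quotient.mk (Ideal.span {t})) = maximalIdeal (A ⧸ Ideal.span {t}) := by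
    rw [Ideal.map_span]
    have h1 : (Ideal.Quotient.mk (Ideal.span {t})) '' (s' : Set A) = (s : Set (A ⧸ Ideal.span {t})) := by
      ext x
      simp only [s', Finset.coe_image, Set.mem_image, Finset.mem_coe]
      constructor
      · rintro ⟨_, ⟨y, hy, rfl⟩, rfl⟩
        rw [hlift]; exact hy
      · intro hx
        exact ⟨lift x, ⟨x, hx, rfl⟩, hlift x⟩
    rw [h1]
    exact hs2
  have hm : maximalIdeal A = Ideal.span {t} ⊔ Ideal.span (s' : Set A) := by
    have h1 : ((Ideal.span (s' : Set A)).map (Ideal.Quotient.mk (Ideal.span {t}))).comap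
        (Ideal.Quotient.mk (Ideal.span {t})) = maximalIdeal A := by
      rw [hmap]
      have hl : IsLocalHom (Ideal.Quotient.mk (Ideal.span {t})) :=
        IsLocalHom.of_surjective _ Ideal.Quotient.mk_surjective
      have h04 : IsLocalHom (Ideal.Quotient.mk (Ideal.span {t})) ↔
          (maximalIdeal (A ⧸ Ideal.span {t})).comap (Ideal.Quotient.mk (Ideal.span {t})) = maximalIdeal A :=
        (IsLocalRing.local_hom_TFAE (Ideal.Quotient.mk (Ideal.span {t}))).out 0 4
      exact h04.1 hl
    rw [← h1, Ideal.comap_map_of_surjective _ Ideal.Quotient.mk_surjective, sup_comm]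
    congr 1
    rw [← RingHom.ker_eq_comap_bot, Ideal.mk_ker]
  have hs'm : (s' : Set A) ⊆ maximalIdeal A := by
    rw [hm]
    exact fun x hx => Ideal.mem_sup_right (Ideal.subset_span hx)
  -- the quotient
  let J : Ideal A := Ideal.span (s' : Set A)
  have hJ : J ≤ maximalIdeal A := Ideal.span_le.2 hs'm
  have hJne : J ≠ ⊤ := fun h => (maximalIdeal.isMaximal A).ne_top (top_le_iff.1 (h ▸ hJ))
  let B := A ⧸ J
  have hBnt : Nontrivial B := Ideal.Quotient.nontrivial_iff.2 hJne
  have hBloc : IsLocalRing B := IsLocalRing.of_surjective' (Ideal.Quotient.mk J) Ideal.Quotient.mk_surjective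
  have hlocmk : IsLocalHom (Ideal.Quotient.mk J) :=
    IsLocalHom.of_surjective _ Ideal.Quotient.mk_surjective
  let t' : B := Ideal.Quotient.mk J t
  have hmB : maximalIdeal B = Ideal.span {t'} := by
    have h1 : (maximalIdeal A).map (Ideal.Quotient.mk J) = maximalIdeal B := by
      have h04 : IsLocalHom (Ideal.Quotient.mk J) ↔ (maximalIdeal B).comap (Ideal.Quotient.mk J) = maximalIdeal A :=
        (IsLocalRing.local_hom_TFAE (Ideal.Quotient.mk J)).out 0 4
      rw [← h04.1 hlocmk, Ideal.map_comap_of_surjective _ Ideal.Quotient.mk_surjective]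
    rw [← h1, hm, Ideal.map_sup, Ideal.map_span, Set.image_singleton]
    have h2 : (Ideal.span (s' : Set A)).map (Ideal.Quotient.mk J) = ⊥ := by
      rw [Ideal.map_eq_bot_iff_le_ker, Ideal.mk_ker]
    rw [h2, sup_bot_eq]
  -- dimensions
  have hdimA : ringKrullDim (A ⧸ Ideal.span {t}) + 1 = ringKrullDim A :=
    ringKrullDim_quotient_span_singleton_succ_eq_ringKrullDim_of_mem_nonZeroDivisors
      (mem_nonZeroDivisors_of_ne_zero ht0) htm
  have hreg' : ((maximalIdeal (A ⧸ Ideal.span {t})).spanFinrank : WithBot ℕ∞) = ringKrullDim (A ⧸ Ideal.span {t}) :=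
    (isRegularLocalRing_iff _).1 hreg
  have hdimB : 1 ≤ ringKrullDim B := by
    have h1 := ringKrullDim_le_ringKrullDim_quotient_add_card s' (by
      rw [IsLocalRing.ringJacobson_eq_maximalIdeal]; exact hs'm)
    rw [← hdimA, ← hreg'] at h1
    have h2 : ((maximalIdeal (A ⧸ Ideal.span {t})).spanFinrank : WithBot ℕ∞) + 1 ≤
        ringKrullDim B + ((maximalIdeal (A ⧸ Ideal.span {t})).spanFinrank : WithBot ℕ∞) := by
      refine h1.trans ?_
      gcongr
      rw [← hs1]
      exact hs'card
    obtain ⟨e, he⟩ : ∃ e : ℕ, ringKrullDim B = e := exists_ringKrullDim_eq B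
    rw [he] at h2 ⊢
    have h3 : ((maximalIdeal (A ⧸ Ideal.span {t})).spanFinrank + 1 : ℕ) ≤
        (e + (maximalIdeal (A ⧸ Ideal.span {t})).spanFinrank : ℕ) := by exact_mod_cast h2
    have h4 : 1 ≤ e := by omega
    exact_mod_cast h4
  -- `B` is a discrete valuation ring
  have hspan : (maximalIdeal B).spanFinrank ≤ 1 := by
    rw [hmB]
    have h1 := Submodule.spanFinrank_span_le_ncard_of_finite (R := B) (s := ({t'} : Set B)) (Set.finite_singleton t')
    rw [Set.ncard_singleton] at h1
    exact h1
  have hBreg : IsRegularLocalRing B := IsRegularLocalRing.of_spanFinrank_maximalIdeal_le B (by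
    refine le_trans ?_ hdimB
    exact_mod_cast hspan)
  obtain ⟨hBdom, -⟩ := Groth.Agent.S2821.result B
  have hnf : ¬ IsField B := by
    intro h
    have := ringKrullDim_eq_zero_of_isField h
    rw [this] at hdimB
    exact absurd hdimB (by norm_num)
  have ht'0 : t' ≠ 0 := by
    intro h
    apply hnf
    rw [IsLocalRing.isField_iff_maximalIdeal_eq, hmB, h]
    exact Ideal.span_singleton_eq_bot.2 rfl
  have hDed : IsDedekindDomain B := by
    have h1 := (IsDiscreteValuationRing.TFAE B hnf).out 4 2
    refine h1.1 ⟨⟨t', ?_⟩⟩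
    rw [hmB]
  have hB : ∃ (L : Type u) (_ : Field L) (_ : Algebra (FractionRing R) L) (φ : B →+* L),
      FiniteDimensional (FractionRing R) L ∧ Module.finrank (FractionRing R) L = a ∧
      φ.comp (algebraMap R B) = (algebraMap (FractionRing R) L).comp (algebraMap R (FractionRing R)) := by
    refine exists_field_of_dvr R B ?_ t' ht'0 hmB a ?_ ?_
    · have h1 : algebraMap R B = (Ideal.Quotient.mk J).comp (algebraMap R A) := rfl
      rw [h1]
      exact RingHom.isLocalHom_comp _ _
    · have h1 : algebraMap R B = (Ideal.Quotient.mk J).comp (algebraMap R A) := rfl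
      rw [h1, ← Ideal.map_map, ha, Ideal.map_span, Set.image_singleton, map_pow]
    · intro b
      obtain ⟨b, rfl⟩ := Ideal.Quotient.mk_surjective b
      obtain ⟨r, hr⟩ := hres b
      refine ⟨r, ?_⟩
      have h1 : (Ideal.Quotient.mk J) (b - algebraMap R A r) ∈ maximalIdeal B := by
        have h04 : IsLocalHom (Ideal.Quotient.mk J) ↔ (maximalIdeal B).comap (Ideal.Quotient.mk J) = maximalIdeal A :=
          (IsLocalRing.local_hom_TFAE (Ideal.Quotient.mk J)).out 0 4
        rw [← h04.1 hlocmk] at hr
        exact hr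
      rw [map_sub] at h1
      exact h1
  obtain ⟨L, i1, i2, φ, h1, h2, h3⟩ := hB
  refine ⟨L, i1, i2, φ.comp (Ideal.Quotient.mk J), h1, h2, ?_⟩
  rw [← h3]
  rfl

end K435.LocPoint
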