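import Groth.Prelude.Def_ega3
import Groth.Prelude.Def_CohB1
import Groth.Agent.Variety.K435.HilbPoint
import Groth.Agent.Ega2.H291.QuotGr

/-!
# Points of `Proj` with values in a field
-/

set_option autoImplicit false
set_option linter.unusedSectionVars false
universe u
open CategoryTheory CategoryTheory.Limits AlgebraicGeometry HomogeneousLocalization

namespace K435.ProjPoint

/-- A `k`-algebra map `ψ : S → K` with `ψ g = 1`, `g` of positive degree, gives a `K`-point of `Proj 𝒮`. -/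
theorem exists_point {k : Type u} [Field k] {S : Type u} [CommRing S] [Algebra k S] (𝒮 : ℕ → Submodule k S)
    [GradedAlgebra 𝒮] (K : Type u) [Field K] [Algebra k K] (ψ : S →ₐ[k] K) {g : S} {m : ℕ} (hm : 0 < m)
    (hg : g ∈ 𝒮 m) (hψ : ψ g = 1) :
    ∃ q : Spec (CommRingCat.of K) ⟶ Proj 𝒮,
      q ≫ (Proj 𝒮 ↘ Spec (CommRingCat.of k)) = Spec.map (CommRingCat.ofHom (algebraMap k K)) := by
  have hu : IsUnit ((ψ : S →+* K) g) := by
    rw [RingHom.coe_coe, hψ]
    exact isUnit_one
  let χ : Away 𝒮 g →+* K := (Localization.awayLift (ψ : S →+* K) g hu).comp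
    (algebraMap (Away 𝒮 g) (Localization.Away g))
  refine ⟨Spec.map (CommRingCat.ofHom χ) ≫ Proj.awayι 𝒮 g hg hm, ?_⟩
  change (Spec.map (CommRingCat.ofHom χ) ≫ Proj.awayι 𝒮 g hg hm) ≫
    (Proj.toSpecZero 𝒮 ≫ Spec.map (CommRingCat.ofHom (algebraMap k (𝒮 0)))) = _
  rw [Category.assoc, Proj.awayι_toSpecZero_assoc, ← Spec.map_comp, ← Spec.map_comp]
  congr 1
  ext c
  change χ (fromZeroRingHom 𝒮 (Submonoid.powers g) (algebraMap k (𝒮 0) c)) = algebraMap k K c
  have h1 : (algebraMap (Away 𝒮 g) (Localization.Away g))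
      (fromZeroRingHom 𝒮 (Submonoid.powers g) (algebraMap k (𝒮 0) c)) =
      algebraMap S (Localization.Away g) (algebraMap k S c) := by
    change (fromZeroRingHom 𝒮 (Submonoid.powers g) (algebraMap k (𝒮 0) c)).val = _
    rw [← Localization.mk_one_eq_algebraMap]
    rfl
  change Localization.awayLift (ψ : S →+* K) g hu (algebraMap (Away 𝒮 g) (Localization.Away g) _) = _
  rw [h1]
  erw [IsLocalization.Away.lift_eq]
  exact ψ.commutes c

open MvPolynomial Groth.Agent.Ega2.H291.QuotGr in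
/-- A nonzero vector over `K` killed by the homogeneous ideal `𝔞` gives a `K`-point of `Proj (k[x]/𝔞)`. -/
theorem exists_point_of_zero {k : Type u} [Field k] {n : ℕ} (𝔞 : Ideal (MvPolynomial (Fin (n + 1)) k))
    (h𝔞 : 𝔞.IsHomogeneous (CohB1.polyGrading n k)) [GradedAlgebra (gr (CohB1.polyGrading n k) 𝔞)]
    (K : Type u) [Field K] [Algebra k K] (v : Fin (n + 1) → K) (hv : v ≠ 0) (h : ∀ F ∈ 𝔞, aeval v F = 0) :
    ∃ q : Spec (CommRingCat.of K) ⟶ Proj (gr (CohB1.polyGrading n k) 𝔞),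
      q ≫ (Proj (gr (CohB1.polyGrading n k) 𝔞) ↘ Spec (CommRingCat.of k)) =
        Spec.map (CommRingCat.ofHom (algebraMap k K)) := by
  classical
  obtain ⟨s, hs⟩ : ∃ s, v s ≠ 0 := by
    by_contra hcon
    push Not at hcon
    exact hv (funext hcon)
  let θ : MvPolynomial (Fin (n + 1)) k →ₐ[k] K := aeval fun j => v j / v s
  have hθ : ∀ m, ∀ F ∈ CohB1.polyGrading n k m, θ F * (v s) ^ m = aeval v F := by
    intro m F hF
    rw [F.as_sum, map_sum, map_sum, Finset.sum_mul]
    refine Finset.sum_congr rfl fun d hd => ?_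
    have hd' : d.degree = m := by
      rw [Finsupp.degree_eq_weight_one]
      exact hF (mem_support_iff.1 hd)
    simp only [θ, aeval_monomial]
    rw [mul_assoc]
    congr 1
    rw [Finsupp.prod, Finsupp.prod, ← hd', Finsupp.degree_apply, ← Finset.prod_pow_eq_pow_sum,
      ← Finset.prod_mul_distrib]
    refine Finset.prod_congr rfl fun j _ => ?_
    rw [← mul_pow, div_mul_cancel₀ _ hs]
  have hθ0 : ∀ F ∈ 𝔞, θ F = 0 := by
    intro F hF
    rw [← DirectSum.sum_support_decompose (CohB1.polyGrading n k) F, map_sum]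
    refine Finset.sum_eq_zero fun m _ => ?_
    have h1 := hθ m _ (SetLike.coe_mem (DirectSum.decompose (CohB1.polyGrading n k) F m))
    rw [h _ (h𝔞 m hF)] at h1
    exact (mul_eq_zero.1 h1).resolve_right (pow_ne_zero _ hs)
  refine exists_point (gr (CohB1.polyGrading n k) 𝔞) K (Ideal.Quotient.liftₐ 𝔞 θ hθ0) one_pos
    (mk_mem (CohB1.polyGrading n k) 𝔞 (isHomogeneous_X k s)) ?_
  change θ (X s) = 1
  simp only [θ, aeval_X]
  exact div_self hs

end K435.ProjPoint
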