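import Groth.Agent.Variety.K435.ProjHilb
import Groth.Agent.Variety.K435.ProjPoint
import Groth.Agent.Variety.K435.IndexPt
import Groth.Agent.Variety.K435.HilbMain
import Groth.Agent.S3585
import Groth.Agent.VarietyB.HHPush
import Groth.Prelude.Def_ClSub2

/-!
# Divisibility of `χ(O)` for closed subschemes of projective space
-/

set_option autoImplicit false
universe u
open CategoryTheory CategoryTheory.Limits AlgebraicGeometry Opposite

namespace K435.ProjCase

open Groth.Agent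

theorem isIso_unitToPush {Z Z' : Scheme.{u}} (e : Z ⟶ Z') [IsIso e] :
    IsIso (C := Z'.Modules) (ClSub.unitToPush e) := by
  rw [Scheme.Modules.Hom.isIso_iff_isIso_app]
  intro U
  rw [ConcreteCategory.isIso_iff_bijective]
  exact ConcreteCategory.bijective_of_isIso (e.app U)

/-- Isomorphic schemes have the same `χ(O)`. -/
theorem euler_structure_iso (k : Type u) [Field k] {X Y : Scheme.{u}} [X.Over (Spec (CommRingCat.of k))]
    [Y.Over (Spec (CommRingCat.of k))] (e : X ⟶ Y) [IsIso e]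
    (he : e ≫ (Y ↘ Spec (CommRingCat.of k)) = X ↘ Spec (CommRingCat.of k)) :
    Curv2.euler k X (Coh.structureModule X) = Curv2.euler k Y (Coh.structureModule Y) := by
  have := isIso_unitToPush e
  rw [← VarietyB.HHPush.euler_push e k he (Coh.structureModule X)
    (Ega2.QCohLocal.isQCoh_structureModule X)]
  exact (K420.IntCoeff.euler_congr k (asIso (ClSub.unitToPush e))).symm

open Groth.Agent.Ega2.H291.QuotGr Groth.Agent.Ega2.H291.ProjClosed Groth.Agent.CohqB.ProjBC MvPolynomial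
  K435.HilbP K435.Hilb

attribute [local instance] MvPolynomial.gradedAlgebra

section alg

variable {k : Type u} [Field k] {n : ℕ} (I : Ideal (MvPolynomial (Fin (n + 1)) k))

theorem gr_zero : ∀ s ∈ gr (CohB1.polyGrading n k) I 0,
    s ∈ Set.range (algebraMap k (MvPolynomial (Fin (n + 1)) k ⧸ I)) := by
  rintro _ ⟨b, hb, rfl⟩
  have h1 : b = MvPolynomial.C (MvPolynomial.coeff 0 b) :=
    MvPolynomial.totalDegree_eq_zero_iff_eq_C.mp ((MvPolynomial.totalDegree_zero_iff_isHomogeneous _).mpr hb)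
  refine ⟨MvPolynomial.coeff 0 b, ?_⟩
  exact congrArg (Ideal.Quotient.mk I) h1.symm

theorem gr_one_span : Submodule.span k (Set.range fun j : Fin (n + 1) => Ideal.Quotient.mk I (X j)) =
    gr (CohB1.polyGrading n k) I 1 := by
  unfold gr
  change _ = (homogeneousSubmodule (Fin (n + 1)) k 1).map _
  rw [homogeneousSubmodule_one_eq_span_X, Submodule.map_span, ← Set.range_comp]
  rfl

theorem adjoin_range : Algebra.adjoin k (Set.range fun j : Fin (n + 1) => Ideal.Quotient.mk I (X j)) = ⊤ := by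
  have h1 : (Set.range fun j : Fin (n + 1) => Ideal.Quotient.mk I (X j)) =
      (Ideal.Quotient.mkₐ k I) '' (Set.range (X : Fin (n + 1) → MvPolynomial (Fin (n + 1)) k)) := by
    rw [← Set.range_comp]
    rfl
  rw [h1, ← AlgHom.map_adjoin, MvPolynomial.adjoin_range_X, Algebra.map_top, AlgHom.range_eq_top]
  exact Ideal.Quotient.mk_surjective

theorem H_eq (m : ℕ) : H (homogeneousSubmodule (Fin (n + 1)) k) I m =
    Module.finrank k (gr (CohB1.polyGrading n k) I m) :=
  H_eq_finrank_map _ I m (Ideal.Quotient.mkₐ k I).toLinearMap fun a _ => by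
    change Ideal.Quotient.mk I a = 0 ↔ _
    exact Ideal.Quotient.eq_zero_iff_mem

end alg

/-- The projective case: `L ∣ χ(Z, O_Z)` if all closed points have degree divisible by `L`. -/
theorem dvd_euler (k : Type u) [Field k] (Z : Scheme.{u}) [Z.Over (Spec (CommRingCat.of k))]
    [IsProper (Z ↘ Spec (CommRingCat.of k))] (n : ℕ) (i : Z ⟶ CohB1.ProjSpace n k) [IsClosedImmersion i]
    (hi : i ≫ CohB1.ProjSpace.toSpec n k = Z ↘ Spec (CommRingCat.of k)) (d : ℕ)
    (hd : topologicalKrullDim Z ≤ d) (L : ℕ)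
    (hL : ∀ m ∈ Curv2.indexSubgroup (Z ↘ Spec (CommRingCat.of k)), (L : ℤ) ∣ m)
    (hq : ∀ i, 1 ≤ i → i ≤ d → ∃ q : ℕ, q.Prime ∧ (q : k) ≠ 0 ∧ Nat.Coprime L q ∧
      Nat.Coprime L (q ^ i - 1) ∧ ∃ (χ : AddChar (ZMod q) k), χ.IsPrimitive) :
    (L : ℤ) ∣ Curv2.euler k Z (Coh.structureModule Z) := by
  classical
  let T : Fin (n + 1) → MvPolynomial (Fin (n + 1)) k := MvPolynomial.X
  have hT : ∀ j, T j ∈ CohB1.polyGrading n k 1 := fun j => MvPolynomial.isHomogeneous_X k j
  have hcov := span_X_ge (A := k) n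
  let i' : Z ⟶ Proj (CohB1.polyGrading n k) := i
  have : IsClosedImmersion i' := ‹IsClosedImmersion i›
  obtain ⟨e, he⟩ := exists_iso T hT hcov i'
  set 𝔞 := idl T hT i'.ker with h𝔞def
  have h𝔞 : 𝔞.IsHomogeneous (CohB1.polyGrading n k) := idl_isHomogeneous T hT i'.ker
  have hover : e.hom ≫ (Proj (gr (CohB1.polyGrading n k) 𝔞) ↘ Spec (CommRingCat.of k)) =
      Z ↘ Spec (CommRingCat.of k) := by
    rw [← hi]
    change e.hom ≫ Proj.toSpecZero (gr (CohB1.polyGrading n k) 𝔞) ≫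
      Spec.map (CommRingCat.ofHom (algebraMap k (gr (CohB1.polyGrading n k) 𝔞 0))) = _
    rw [← Groth.Agent.Ega2.H291.MapZero.map_toSpec (mkHom (CohB1.polyGrading n k) 𝔞) (irrelevant_le T hT i'.ker)
      (fun r => rfl), ← Category.assoc, he]
    rfl
  have hprop : IsProper (Proj (gr (CohB1.polyGrading n k) 𝔞) ↘ Spec (CommRingCat.of k)) := by
    have h1 : (Proj (gr (CohB1.polyGrading n k) 𝔞) ↘ Spec (CommRingCat.of k)) =
        e.inv ≫ (Z ↘ Spec (CommRingCat.of k)) := by
      rw [← hover, Iso.inv_hom_id_assoc]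
    rw [h1]
    infer_instance
  have hdim : topologicalKrullDim (Proj (gr (CohB1.polyGrading n k) 𝔞)) ≤ d :=
    le_trans (Topology.IsInducing.topologicalKrullDim_le
      (Scheme.homeoOfIso e.symm).isInducing) hd
  obtain ⟨P, hPd, ⟨N, hPN⟩, hP0⟩ := ProjHilb.exists_poly (gr (CohB1.polyGrading n k) 𝔞) (gr_zero 𝔞) n
    (fun j => Ideal.Quotient.mk 𝔞 (X j)) (fun j => mk_mem _ _ (isHomogeneous_X k j)) (gr_one_span 𝔞)
    (adjoin_range 𝔞) d hdim
  have hHP : IsHP 𝔞 P := by
    refine Filter.eventually_atTop.2 ⟨N, fun m hm => ?_⟩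
    rw [H_eq]
    exact hPN m hm
  have hpp : PPt L 𝔞 := by
    intro K _ _ _ v hv hF
    obtain ⟨q, hq⟩ := ProjPoint.exists_point_of_zero 𝔞 h𝔞 K v hv hF
    have h1 := IndexPt.finrank_mem (Z ↘ Spec (CommRingCat.of k)) K (q ≫ e.inv) (by
      rw [Category.assoc, ← hover, Iso.inv_hom_id_assoc, hq])
    exact Int.natCast_dvd_natCast.1 (hL _ h1)
  obtain ⟨z, hz⟩ := val_of_pp d hq 𝔞 h𝔞 P hHP hPd hpp 0
  rw [euler_structure_iso k e.hom hover]
  refine ⟨z, ?_⟩
  have h2 : ((Curv2.euler k (Proj (gr (CohB1.polyGrading n k) 𝔞))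
      (Coh.structureModule (Proj (gr (CohB1.polyGrading n k) 𝔞))) : ℤ) : ℚ) = ((L * z : ℤ) : ℚ) := by
    rw [← hP0]
    push_cast
    rw [← hz]
    simp
  exact_mod_cast h2

end K435.ProjCase
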