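import Groth.Agent.S4482
import Groth.Agent.S1528
import Groth.Agent.S2352
import Groth.Agent.S0016
import Groth.Agent.S0002
import Groth.Agent.Constr.K591.VerTilde
import Groth.Agent.Variety.K420.IntCoeff
import Mathlib.Algebra.MvPolynomial.Polynomial

/-!
# The Hilbert polynomial of a graded algebra is the Euler characteristic polynomial of `Proj`
-/

set_option autoImplicit false
universe u
open CategoryTheory CategoryTheory.Limits AlgebraicGeometry Opposite Polynomial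

namespace K435.ProjHilb

open Groth.Agent Groth.Agent.Fga.PicMon

variable {k : Type u} [Field k]

theorem toNat_length (M : Type*) [AddCommGroup M] [Module k M] :
    (Module.length k M).toNat = Module.finrank k M := by
  rw [Module.length_eq_rank]
  rfl

section

variable {S : Type u} [CommRing S] [Algebra k S] (𝒮 : ℕ → Submodule k S) [GradedAlgebra 𝒮]
  (h0 : ∀ s ∈ 𝒮 0, s ∈ Set.range (algebraMap k S)) (r : ℕ) (g : Fin (r + 1) → S)
  (hg1 : ∀ i, g i ∈ 𝒮 1) (hspan : Submodule.span k (Set.range g) = 𝒮 1)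
  (hgen : Algebra.adjoin k (Set.range g) = ⊤)

include hg1 hgen in
theorem irrelevant_eq : (HomogeneousIdeal.irrelevant 𝒮).toIdeal = Ideal.span (𝒮 1 : Set S) := by
  apply le_antisymm
  · intro s hs
    classical
    rw [← DirectSum.sum_support_decompose 𝒮 s]
    refine sum_mem fun i _ => ?_
    rcases Nat.eq_zero_or_pos i with rfl | hi0
    · have := (HomogeneousIdeal.mem_irrelevant_iff _ _).mp hs
      rw [GradedRing.proj_apply] at this
      rw [this]
      exact zero_mem _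
    · have h1 := Groth.Agent.S2434.mem_pow 𝒮 g hg1 hgen i _ (SetLike.coe_mem (DirectSum.decompose 𝒮 s i))
      have h2 := Ideal.pow_le_self hi0.ne' h1
      exact Ideal.span_mono (by rintro _ ⟨i, rfl⟩; exact hg1 i) h2
  · rw [Ideal.span_le]
    intro s hs
    refine (HomogeneousIdeal.mem_irrelevant_iff _ _).mpr ?_
    rw [GradedRing.proj_apply, DirectSum.decompose_of_mem_ne 𝒮 hs one_ne_zero]

include h0 hspan hg1 hgen in
/-- `χ(O(n)) = dim S_n` for `n ≫ 0`. -/
theorem euler_eventually [IsProper (Proj 𝒮 ↘ Spec (CommRingCat.of k))] :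
    ∃ N : ℕ, ∀ n : ℕ, N ≤ n →
      Curv2.euler k (Proj 𝒮) (GrTilde.tilde 𝒮 𝒮 (n : ℤ)) = (Module.finrank k (𝒮 n) : ℤ) := by
  have hft : Algebra.FiniteType k S := ⟨⟨(Set.finite_range g).toFinset, by simpa using hgen⟩⟩
  have hNS : IsNoetherianRing S := Algebra.FiniteType.isNoetherianRing k S
  have hirr := irrelevant_eq 𝒮 r g hg1 hgen
  have hcoh : Coh.IsCoh (GrTilde.tilde 𝒮 𝒮 0) :=
    ⟨Groth.Agent.S3545.result 𝒮 𝒮 0, Groth.Agent.S3561.result 𝒮 (IsNoetherian.noetherian _) 𝒮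
      ⟨0, by
        have h : IsNoetherian S S := inferInstance
        exact IsNoetherian.noetherian _⟩⟩
  have hvan : ∀ p : ℕ, 0 < p → ∃ N : ℕ, ∀ n : ℕ, N ≤ n →
      Subsingleton (Coh.HH (Proj 𝒮) (GrTilde.tilde 𝒮 𝒮 (n : ℤ)) p) := by
    intro p hp
    obtain ⟨d₀, hd₀⟩ := Groth.Agent.S0847.result 𝒮 (GrTilde.tilde 𝒮 𝒮 0) hcoh p hp
    refine ⟨d₀.toNat, fun n hn => ?_⟩
    obtain ⟨e⟩ := Groth.Agent.S4400.result 𝒮 hirr 𝒮 (n : ℤ)
    have h1 := hd₀ (n : ℤ) (by omega)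
    exact @Equiv.subsingleton _ _ ((Sheaf.functorH _ p).mapIso
      ((SheafOfModules.toSheaf (Proj 𝒮).ringCatSheaf).mapIso e)).addCommGroupIsoToAddEquiv.toEquiv h1
  obtain ⟨N₀, hN₀⟩ := Groth.Agent.S4482.result 𝒮 h0 r g hg1 hspan hgen 𝒮
  choose N hN using fun p : ℕ => hvan (p + 1) p.succ_pos
  have cX : CompactSpace (Proj 𝒮) := by
    have := (inferInstance : QuasiCompact (Proj 𝒮 ↘ (Spec (CommRingCat.of k))))
    exact (quasiCompact_iff_compactSpace (Proj 𝒮 ↘ (Spec (CommRingCat.of k)))).mp this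
  have qX : QuasiSeparatedSpace (Proj 𝒮) :=
    (quasiSeparated_iff_quasiSeparatedSpace (Proj 𝒮 ↘ (Spec (CommRingCat.of k)))).mp inferInstance
  obtain ⟨d, hd⟩ := Groth.Agent.S0016.result (Proj 𝒮)
  refine ⟨max N₀ ((Finset.range (max d r)).sup N), fun n hn => ?_⟩
  have hsub : ∀ j : ℕ, Subsingleton (Coh.HH (Proj 𝒮) (GrTilde.tilde 𝒮 𝒮 (n : ℤ)) (j + 1)) := by
    intro j
    by_cases hj : j < max d r
    · exact hN j n (le_trans (Finset.le_sup (Finset.mem_range.2 hj)) (le_trans (le_max_right _ _) hn))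
    · exact hd _ (Groth.Agent.S3545.result 𝒮 𝒮 n) (j + 1) (by have := le_max_left d r; omega)
  have h1 := hN₀ n (le_trans (le_max_left _ _) hn)
  rw [Finset.sum_range_succ', Finset.sum_eq_zero, zero_add, pow_zero, one_mul, toNat_length,
    toNat_length] at h1
  · rw [← h1]
    unfold Curv2.euler
    rw [finsum_eq_single _ 0]
    · rw [pow_zero, one_mul]
    · intro i hi
      obtain ⟨j, rfl⟩ := Nat.exists_eq_succ_of_ne_zero hi
      have := hsub j
      rw [Nat.succ_eq_add_one, Module.finrank_zero_of_subsingleton]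
      simp
  · intro j _
    have := hsub j
    rw [toNat_length, Module.finrank_zero_of_subsingleton]
    simp

include h0 hspan hg1 hgen in
/-- The Hilbert polynomial. -/
theorem exists_poly [IsProper (Proj 𝒮 ↘ Spec (CommRingCat.of k))] (d : ℕ)
    (hd : topologicalKrullDim (Proj 𝒮) ≤ d) :
    ∃ P : ℚ[X], P.natDegree ≤ d ∧ (∃ N : ℕ, ∀ n : ℕ, N ≤ n → ((Module.finrank k (𝒮 n) : ℕ) : ℚ) = P.eval (n : ℚ)) ∧
      P.eval 0 = (Curv2.euler k (Proj 𝒮) (Coh.structureModule (Proj 𝒮)) : ℚ) := by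
  have hirr := irrelevant_eq 𝒮 r g hg1 hgen
  obtain ⟨hinv, -, hpow⟩ := Groth.Agent.S2352.result 𝒮 hirr
  have hO : Coh.IsCoh (Coh.structureModule (Proj 𝒮)) := Fdesc.StructMod.isCoh_structureModule _
  have hdim : topologicalKrullDim (CohB1.support (Coh.structureModule (Proj 𝒮))) ≤ d :=
    le_trans (Topology.IsInducing.topologicalKrullDim_le Topology.IsInducing.subtypeVal) hd
  obtain ⟨P, hP, hP'⟩ := Groth.Agent.S1528.result k (Proj 𝒮) (Coh.structureModule (Proj 𝒮)) hO d hdim 1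
    (fun _ => Twist.twist 𝒮 1) (fun _ => hinv 1)
  obtain ⟨N, hN⟩ := euler_eventually 𝒮 h0 r g hg1 hspan hgen
  have key : ∀ n : ℕ, mc (Curv2.tensorPows (Coh.structureModule (Proj 𝒮)) 1 (fun _ => Twist.twist 𝒮 1) (fun _ => n)) =
      mc (Twist.twist 𝒮 (n : ℤ)) := by
    intro n
    rw [Groth.Agent.Fga.SnapperTwist.mc_tensorPows]
    obtain ⟨e⟩ := hpow n
    rw [mc_eq e, mc_tensorPow, mc_one, mul_one]
    simp
  have hev : ∀ n : ℕ, ((MvPolynomial.aeval (fun _ : Fin 1 => (X : ℚ[X])) P).eval (n : ℚ)) =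
      (Curv2.euler k (Proj 𝒮) (Twist.twist 𝒮 (n : ℤ)) : ℚ) := by
    intro n
    obtain ⟨e⟩ := (mc_eq_iff _ _).1 (key n)
    rw [← K420.IntCoeff.euler_congr k e, hP', MvPolynomial.aeval_def, ← Polynomial.coe_evalRingHom,
      MvPolynomial.hom_eval₂]
    simp [MvPolynomial.eval_eq', MvPolynomial.eval₂_eq']
  refine ⟨MvPolynomial.aeval (fun _ => X) P, ?_, ⟨N, fun n hn => ?_⟩, ?_⟩
  · have := MvPolynomial.aeval_natDegree_le P hP (fun _ => (X : ℚ[X])) (n := 1) (fun _ => natDegree_X_le)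
    simpa using this
  · obtain ⟨e⟩ := K591.VerTilde.nonempty_tilde_iso_twist 𝒮 (n : ℤ)
    rw [hev, ← K420.IntCoeff.euler_congr k e, hN n hn]
    simp
  · have h := hev 0
    rw [Nat.cast_zero] at h
    rw [h]
    have e0 : mc (Twist.twist 𝒮 ((0 : ℕ) : ℤ)) = mc (Coh.structureModule (Proj 𝒮)) := by
      obtain ⟨e⟩ := hpow 0
      rw [mc_eq e]
      rfl
    obtain ⟨e⟩ := (mc_eq_iff _ _).1 e0
    rw [K420.IntCoeff.euler_congr k e]

end

end K435.ProjHilb
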