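import Groth.Agent.Variety.K435.StalkPt
import Groth.Agent.Models.K381.FibComp
import Groth.Agent.CycA.ClosurePt
import Groth.Agent.Divis.CartierStalk
import Groth.Agent.S1561
import Mathlib.AlgebraicGeometry.AlgClosed.Basic

/-!
# Components of the closed fibre of a regular model and the index of the generic fibre

`X` regular, flat and of finite type over a henselian discrete valuation ring with algebraically closed residue field.
The ideal of the closed fibre is a product `∏ P_i ^ a_i` of ideals of prime divisors, and every `a_i` is in the index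
subgroup of the generic fibre.
-/

set_option autoImplicit false
universe u

open CategoryTheory CategoryTheory.Limits AlgebraicGeometry IsLocalRing TopologicalSpace

namespace K435.RegModel

open Groth.Agent.Divis.CartierBasic Groth.Agent.Divis.StalkPrime Groth.Agent.CycB.LocQuot
open Groth.Agent.Divis.EffCartier Groth.Agent.Dix.VertGeom Groth.Agent.CurvesC.BlowUpCharts
open Groth.Agent.Models.H36.FibreFact K381.FibComp

variable {R : Type u} [CommRing R] [IsDomain R] [IsDiscreteValuationRing R]
variable {X : Over (Spec (CommRingCat.of R))}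

section Local

theorem eq_closedPoint {ξ : X.left} (hξ : IsGen X ξ) (q : PrimeSpectrum (X.left.presheaf.stalk ξ))
    (hq : (maximalIdeal R).map (Models.stalkHom R X ξ) ≤ q.asIdeal) : q = closedPoint _ := by
  have h1 : ptOf q ∈ Models.specialFibreSet R X := by
    rw [← mem_support_specialFibreIdeal_iff, ptOf, fromSpecStalk_mem_support_iff,
      stalkIdeal_specialFibreIdeal]
    exact hq
  have h2 : ptOf q ⤳ ξ := ptOf_specializes q
  have h8 : ptOf q = ξ := hξ.2 _ h2 h1
  apply fromSpecStalk_injective
  exact h8.trans (Scheme.fromSpecStalk_closedPoint).symm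

theorem height_eq_one [Flat X.hom] (hreg : Models.IsRegularScheme X.left) {ξ : X.left} (hξ : IsGen X ξ) :
    (maximalIdeal (X.left.presheaf.stalk ξ)).height = 1 := by
  have hr := hreg ξ
  obtain ⟨hdom, -⟩ := Groth.Agent.S2821.result (X.left.presheaf.stalk ξ)
  obtain ⟨ϖ, hϖ⟩ := IsDiscreteValuationRing.exists_irreducible R
  have hm : (maximalIdeal R).map (Models.stalkHom R X ξ) =
      Ideal.span {Models.stalkHom R X ξ ϖ} := by
    rw [hϖ.maximalIdeal_eq, Ideal.map_span, Set.image_singleton]
  have h1 : (maximalIdeal R).map (Models.stalkHom R X ξ) ≤ maximalIdeal _ := by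
    rw [← stalkIdeal_specialFibreIdeal, ← mem_support_iff_stalkIdeal_le,
      mem_support_specialFibreIdeal_iff]
    exact hξ.1
  have h2 : maximalIdeal (X.left.presheaf.stalk ξ) ∈
      (Ideal.span {Models.stalkHom R X ξ ϖ}).minimalPrimes := by
    rw [← hm]
    refine ⟨⟨inferInstance, h1⟩, ?_⟩
    rintro q ⟨hq, hq'⟩ -
    have := eq_closedPoint hξ ⟨q, hq⟩ hq'
    exact (congrArg PrimeSpectrum.asIdeal this).ge
  have h3 := Ideal.height_le_one_of_isPrincipal_of_mem_minimalPrimes
    (Ideal.span {Models.stalkHom R X ξ ϖ}) _ h2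
  have h4 : (maximalIdeal (X.left.presheaf.stalk ξ)).height ≠ 0 := by
    rw [Ne, Ideal.height_eq_zero_iff_eq_bot]
    intro h
    rw [hm, h, le_bot_iff, Ideal.span_singleton_eq_bot] at h1
    exact nonZeroDivisors.ne_zero (stalkHom_mem_nonZeroDivisors hϖ.ne_zero _) h1
  exact le_antisymm h3 (Order.one_le_iff_ne_zero.2 h4)

/-- The closure of a generic point of the closed fibre is an effective Cartier divisor. -/
theorem isEff_ker [Flat X.hom] [IsLocallyNoetherian X.left] (hreg : Models.IsRegularScheme X.left) {ξ : X.left}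
    (hξ : IsGen X ξ) {Z : Scheme.{u}} (i : Z ⟶ X.left) [IsClosedImmersion i] [IsIntegral Z]
    (hi : i (genericPoint Z) = ξ) : BlowUp.IsEffCartierIdeal i.ker := by
  have h1 : IsIntegral i.ker.subscheme := isIntegral_ker_subscheme i
  refine Groth.Agent.S1684.result X.left i.ker ?_ ?_
  · rw [subschemeι_genericPoint, hi, ← IsLocalRing.maximalIdeal_height_eq_ringKrullDim, height_eq_one hreg hξ]
    rfl
  · intro x _
    have := hreg x
    exact Groth.Agent.S2821.result _

end Local

/-- There are finitely many generic points of the closed fibre. -/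
theorem finite_isGen [NoetherianSpace X.left] : {ξ : X.left | IsGen X ξ}.Finite := by
  let F : Set X.left := Models.specialFibreSet R X
  have hF : IsClosed F := Models.isClosed_specialFibreSet R X
  have hN : NoetherianSpace F := Topology.IsInducing.subtypeVal.noetherianSpace
  have hfin := NoetherianSpace.finite_irreducibleComponents (α := F)
  let φ : X.left → Set F := fun ξ => {y : F | ξ ⤳ (y : X.left)}
  refine Set.Finite.of_finite_image (f := φ) (hfin.subset ?_) ?_
  · rintro _ ⟨ξ, hξ, rfl⟩
    let ξ' : F := ⟨ξ, hξ.1⟩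
    have hφ : φ ξ = closure {ξ'} := by
      ext y
      rw [← specializes_iff_mem_closure, ← Topology.IsInducing.subtypeVal.specializes_iff]
      rfl
    have hmem : closure {ξ} ∈ Models.fibreComponents R X := (closure_mem_iff ξ).2 hξ
    rw [hφ]
    refine ⟨isIrreducible_singleton.closure, fun T hT hle => ?_⟩
    have hT' : IsIrreducible ((↑) '' T : Set X.left) := hT.image _ continuous_subtype_val.continuousOn
    have hTF : ((↑) '' T : Set X.left) ⊆ Models.specialFibreSet R X := by
      rintro _ ⟨y, -, rfl⟩
      exact y.2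
    have hcl : IsIrreducible (closure ((↑) '' T : Set X.left)) := hT'.closure
    have hclF : closure ((↑) '' T : Set X.left) ⊆ Models.specialFibreSet R X := closure_minimal hTF hF
    have hξT : closure {ξ} ⊆ closure ((↑) '' T : Set X.left) := by
      refine closure_mono ?_
      rintro _ rfl
      exact ⟨ξ', hle (subset_closure rfl), rfl⟩
    have h1 : closure ((↑) '' T : Set X.left) ⊆ closure {ξ} := hmem.2 ⟨hcl, hclF⟩ hξT
    intro y hy
    have h2 : (y : X.left) ∈ closure {ξ} := h1 (subset_closure ⟨y, hy, rfl⟩)
    rw [← hφ]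
    exact specializes_iff_mem_closure.2 h2
  · intro ξ hξ η hη h
    have h1 : (⟨η, hη.1⟩ : F) ∈ φ ξ := by
      rw [h]
      exact specializes_refl η
    have h2 : (⟨ξ, hξ.1⟩ : F) ∈ φ η := by
      rw [← h]
      exact specializes_refl ξ
    have h3 : ξ ⤳ η := h1
    have h4 : η ⤳ ξ := h2
    exact (h3.antisymm h4).eq

section Factor

omit [IsDomain R] [IsDiscreteValuationRing R] in
/-- A reduced scheme over a local ring, lying over the closed point, lies over the residue field. -/
theorem exists_factor [IsLocalRing R] {Y : Scheme.{u}} [IsReduced Y] (q : Y ⟶ Spec (CommRingCat.of R))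
    (hq : ∀ y : Y, q y = closedPoint R) :
    ∃ f : Y ⟶ Spec (CommRingCat.of (ResidueField R)),
      f ≫ Spec.map (CommRingCat.ofHom (residue R)) = q := by
  let φ : R →+* Γ(Y, ⊤) := (show R →+* Γ(Y, ⊤) from Coh.toGlobal q)
  have hφ : ∀ t ∈ maximalIdeal R, φ t = 0 := by
    intro t ht
    have h1 : Y.basicOpen (φ t) = ⊥ := by
      rw [eq_bot_iff]
      intro y hy
      have h1 : q ⁻¹ᵁ ((Spec (CommRingCat.of R)).basicOpen
          ((Scheme.ΓSpecIso (CommRingCat.of R)).inv.hom t)) = Y.basicOpen (φ t) :=
        Scheme.preimage_basicOpen q _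
      rw [← h1] at hy
      have h2 := basicOpen_eq_of_affine (R := CommRingCat.of R) t
      have h3 : q y ∈ ((Spec (CommRingCat.of R)).basicOpen
          ((Scheme.ΓSpecIso (CommRingCat.of R)).inv.hom t)) := hy
      rw [h2] at h3
      have h4 : t ∉ (q y).asIdeal := h3
      rw [hq y] at h4
      exact h4 ht
    exact (basicOpen_eq_bot_iff _).1 h1
  let ψ : ResidueField R →+* Γ(Y, ⊤) := Ideal.Quotient.lift _ φ hφ
  refine ⟨Y.toSpecΓ ≫ Spec.map (CommRingCat.ofHom ψ), ?_⟩
  rw [Category.assoc, ← Spec.map_comp, ← CommRingCat.ofHom_comp]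
  have : ψ.comp (residue R) = φ := by
    ext a
    exact Ideal.Quotient.lift_mk (maximalIdeal R) φ hφ
  rw [this]
  exact (StalkPt.eq_toSpecΓ q).symm

end Factor

end K435.RegModel
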